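import Mathlib
import Cfsg.Agent.Spor.Comp.Pres

/-! Generated by tools/pg: stabiliser chain m11 -/

set_option autoImplicit false
set_option maxRecDepth 100000
set_option linter.unusedVariables false
set_option exponentiation.threshold 100000

namespace Cfsg.Agent.Spor.OutC

open Cfsg.Agent.Spor

noncomputable def m11_S_t0 : BT :=
(.node (.node (.node (.node (.leaf (nat_lit 0x9d5d438acd5bd092dc728c14c30480))
 (.leaf (nat_lit 0x7da349a1d03d4c451522b8563649a0))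
) (.leaf (nat_lit 0x8ae747a6cc2d6083a882bc9c333420))
) (.node (.node (.leaf (nat_lit 0x7ce2a599c8b9e0d2d12ca92c390820))
 (.leaf (nat_lit 0x9d8b4ba2303a98d5b85279aa40a460))
) (.leaf (nat_lit 0xbadd4290ec7d510b292d88e7230820))
)) (.node (.node (.node (.leaf (nat_lit 0x3c5d4a9aed99450b2a4c58de922020))
 (.leaf (nat_lit 0x3d9d498ab0bc4232ad327b54c220c0))
) (.leaf (nat_lit 0x794eab0eadbc5889d1307496620820))
) (.node (.node (.leaf (nat_lit 0x546d4ba0e6756047958d98d614c840))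
 (.leaf (nat_lit 0xbd8f45a22273da699532ab1411c080))
) (.leaf (nat_lit 0xbd9f474942acc833c509598ad64020))
)))

noncomputable def m11_S_t : BT :=
m11_S_t0

noncomputable def m11_S : ℕ → ℕ → ℕ := fun x i => Nat.land (Nat.shiftRight (BT.get m11_S_t x) (Nat.mul (nat_lit 5) i)) (nat_lit 31)

noncomputable def m11_defs : LT :=
(.node (.node (.node (.node (.leaf [nat_lit 0])
 (.leaf [nat_lit 0,nat_lit 3,nat_lit 3,nat_lit 6,nat_lit 0])
) (.leaf [nat_lit 1,nat_lit 1])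
) (.node (.node (.leaf [nat_lit 0])
 (.leaf [nat_lit 0,nat_lit 7,nat_lit 9,nat_lit 7,nat_lit 8,nat_lit 7])
) (.leaf [nat_lit 0,nat_lit 2,nat_lit 2])
)) (.node (.node (.node (.leaf [nat_lit 0])
 (.leaf [nat_lit 1,nat_lit 8])
) (.leaf [nat_lit 1,nat_lit 2])
) (.node (.node (.leaf [nat_lit 1,nat_lit 0])
 (.leaf [nat_lit 0,nat_lit 8,nat_lit 7,nat_lit 8,nat_lit 7,nat_lit 9,nat_lit 7,nat_lit 9])
) (.leaf [nat_lit 0,nat_lit 6,nat_lit 0,nat_lit 6,nat_lit 3,nat_lit 6])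
)))
noncomputable def m11_iota : ℕ → ℕ := getP (nat_lit 8) (nat_lit 255) (nat_lit 0x5020401030006070a0b)
noncomputable def m11_inv : ℕ → ℕ := getP (nat_lit 8) (nat_lit 255) (nat_lit 0x8090607040503020100)
noncomputable def m11_hws : LT := .leaf []

noncomputable def m11_T_t0 : BT :=
(.node (.node (.node (.node (.leaf (nat_lit 0xbd8f45a22273da699532ab1411c080))
 (.leaf (nat_lit 0x7ce2a599c8b9e0d2d12ca92c390820))
) (.leaf (nat_lit 0x9d5d438acd5bd092dc728c14c30480))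
) (.node (.leaf (nat_lit 0xbd9f474942acc833c509598ad64020))
 (.leaf (nat_lit 0x3c5d4a9aed99450b2a4c58de922020))
)) (.node (.node (.node (.leaf (nat_lit 0x9d8b4ba2303a98d5b85279aa40a460))
 (.leaf (nat_lit 0x794eab0eadbc5889d1307496620820))
) (.leaf (nat_lit 0x546d4ba0e6756047958d98d614c840))
) (.node (.leaf (nat_lit 0xbadd4290ec7d510b292d88e7230820))
 (.leaf (nat_lit 0x8ae747a6cc2d6083a882bc9c333420))
)))

noncomputable def m11_T_t : BT :=
m11_T_t0

noncomputable def m11_T : ℕ → ℕ → ℕ := fun x i => Nat.land (Nat.shiftRight (BT.get m11_T_t x) (Nat.mul (nat_lit 5) i)) (nat_lit 31)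

noncomputable def m11_E_t0 : BT :=
(.node (.node (.node (.leaf (nat_lit 0x60b026009008060018100080ec0400000808824000008120018000000000000000))
 (.leaf (nat_lit 0x1000000000000000000000000000000000000002000000000000000000000))
) (.leaf (nat_lit 0xa020020080080400080000800c0400000a0080800000a000018000000000000000))
) (.node (.leaf (nat_lit 0x802402000006000020180080300800000407404000006040020180000000000000))
 (.leaf (nat_lit 0x200000000004020000000000000000000600000000000000000000000000000000))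
))

noncomputable def m11_E_t : BT :=
m11_E_t0

noncomputable def m11_E : ℕ → ℕ → ℕ := fun x i => Nat.land (Nat.shiftRight (BT.get m11_E_t x) (Nat.mul (nat_lit 11) i)) (nat_lit 2047)

theorem m11_slp0 : allLt (nat_lit 9) (fun i => force (Nat.add (nat_lit 3) i) (slpOK m11_S m11_defs (nat_lit 24))) = true := by decide +kernel

theorem m11_ren : allLt (nat_lit 10) (fun x => force (m11_iota x) fun y => band (blt y (nat_lit 12)) (allRange (nat_lit 0) (nat_lit 24) fun i => Nat.beq (m11_S y i) (m11_T x i))) = true := by decide +kernel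

theorem m11_L4_o : band (allRange (nat_lit 0) (nat_lit 24) (orbOK m11_T (nat_lit 1) (m11_E (nat_lit 4)) (Nat.beq (nat_lit 7)))) (band (Nat.ble (nat_lit 2) (count2 (nat_lit 24) fun p => Nat.ble 256 (m11_E (nat_lit 4) p))) (allLt (nat_lit 0) (fun x => Nat.beq (m11_T x (nat_lit 7)) (nat_lit 7)))) = true := by decide +kernel

theorem m11_L3_o : band (allRange (nat_lit 0) (nat_lit 24) (orbOK m11_T (nat_lit 2) (m11_E (nat_lit 3)) (Nat.beq (nat_lit 23)))) (band (Nat.ble (nat_lit 3) (count2 (nat_lit 24) fun p => Nat.ble 256 (m11_E (nat_lit 3) p))) (allLt (nat_lit 1) (fun x => Nat.beq (m11_T x (nat_lit 23)) (nat_lit 23)))) = true := by decide +kernel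

theorem m11_L2_o : band (allRange (nat_lit 0) (nat_lit 24) (orbOK m11_T (nat_lit 3) (m11_E (nat_lit 2)) (Nat.beq (nat_lit 17)))) (band (Nat.ble (nat_lit 10) (count2 (nat_lit 24) fun p => Nat.ble 256 (m11_E (nat_lit 2) p))) (allLt (nat_lit 2) (fun x => Nat.beq (m11_T x (nat_lit 17)) (nat_lit 17)))) = true := by decide +kernel

theorem m11_L1_o : band (allRange (nat_lit 0) (nat_lit 24) (orbOK m11_T (nat_lit 4) (m11_E (nat_lit 1)) (Nat.beq (nat_lit 22)))) (band (Nat.ble (nat_lit 11) (count2 (nat_lit 24) fun p => Nat.ble 256 (m11_E (nat_lit 1) p))) (allLt (nat_lit 3) (fun x => Nat.beq (m11_T x (nat_lit 22)) (nat_lit 22)))) = true := by decide +kernel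

theorem m11_L0_o : band (allRange (nat_lit 0) (nat_lit 24) (orbOK m11_T (nat_lit 10) (m11_E (nat_lit 0)) (Nat.beq (nat_lit 20)))) (band (Nat.ble (nat_lit 12) (count2 (nat_lit 24) fun p => Nat.ble 256 (m11_E (nat_lit 0) p))) (allLt (nat_lit 4) (fun x => Nat.beq (m11_T x (nat_lit 20)) (nat_lit 20)))) = true := by decide +kernel

/-- The letters: a strong generating set, deepest stabiliser first. -/
noncomputable def m11_g {G : Type*} [Group G] (a : ℕ → G) : ℕ → G := fun x => slp a 3 m11_defs (m11_iota x)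

theorem m11_tabs {G α : Type*} [Group G] [MulAction G α] {e : ℕ → α} {a : ℕ → G} (h0 : Tabs e 24 m11_S a 3) : Tabs e 24 m11_T (m11_g a) 10 :=
  Tabs.rename (ι := m11_iota) (g := slp a 3 m11_defs) ((Tabs.slp_base m11_defs h0).slp_add (by decide) _ m11_slp0) m11_ren

theorem m11_gen {G : Type*} [Group G] (a : ℕ → G) : genLt (m11_g a) 10 = genLt a 3 :=
  genLt_slp_eq a m11_defs (back := getP 8 255 (nat_lit 0x80604)) (by decide +kernel)

theorem m11_low4 {G α : Type*} [Group G] [MulAction G α] {e : ℕ → α} {a : ℕ → G} (he : Set.InjOn e (Set.Iio 24)) (h0 : Tabs e 24 m11_S a 3) :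
    LowLevel (genLt (m11_g a) 1) (genLt (m11_g a) 0) (e 7) 2 :=
  Tabs.lowLevel (m11_tabs h0) he (by decide) (by decide) (by decide) m11_L4_o

theorem m11_ge4 {G α : Type*} [Group G] [MulAction G α] {e : ℕ → α} {a : ℕ → G} (he : Set.InjOn e (Set.Iio 24)) (h0 : Tabs e 24 m11_S a 3) :
    Finite (genLt (m11_g a) 1) → 2 ≤ Nat.card (genLt (m11_g a) 1) := fun hK =>
  (m11_low4 he h0).card hK (one_le_card_fin _)

theorem m11_fix4 {G α : Type*} [Group G] [MulAction G α] {e : ℕ → α} {a : ℕ → G} (he : Set.InjOn e (Set.Iio 24)) (h0 : Tabs e 24 m11_S a 3) :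
    ∀ X : Subgroup G, Finite X → (genLt (m11_g a) 1) ≤ X → 2 * Nat.card (fixB e X [7]) ≤ Nat.card X :=
  (m11_low4 he h0).card_fix (card_fix_nil _ _)

theorem m11_low3 {G α : Type*} [Group G] [MulAction G α] {e : ℕ → α} {a : ℕ → G} (he : Set.InjOn e (Set.Iio 24)) (h0 : Tabs e 24 m11_S a 3) :
    LowLevel (genLt (m11_g a) 2) (genLt (m11_g a) 1) (e 23) 3 :=
  Tabs.lowLevel (m11_tabs h0) he (by decide) (by decide) (by decide) m11_L3_o

theorem m11_ge3 {G α : Type*} [Group G] [MulAction G α] {e : ℕ → α} {a : ℕ → G} (he : Set.InjOn e (Set.Iio 24)) (h0 : Tabs e 24 m11_S a 3) :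
    Finite (genLt (m11_g a) 2) → 6 ≤ Nat.card (genLt (m11_g a) 2) := fun hK =>
  (m11_low3 he h0).card hK (m11_ge4 he h0)

theorem m11_fix3 {G α : Type*} [Group G] [MulAction G α] {e : ℕ → α} {a : ℕ → G} (he : Set.InjOn e (Set.Iio 24)) (h0 : Tabs e 24 m11_S a 3) :
    ∀ X : Subgroup G, Finite X → (genLt (m11_g a) 2) ≤ X → 6 * Nat.card (fixB e X [23, 7]) ≤ Nat.card X :=
  (m11_low3 he h0).card_fix (m11_fix4 he h0)

theorem m11_low2 {G α : Type*} [Group G] [MulAction G α] {e : ℕ → α} {a : ℕ → G} (he : Set.InjOn e (Set.Iio 24)) (h0 : Tabs e 24 m11_S a 3) :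
    LowLevel (genLt (m11_g a) 3) (genLt (m11_g a) 2) (e 17) 10 :=
  Tabs.lowLevel (m11_tabs h0) he (by decide) (by decide) (by decide) m11_L2_o

theorem m11_ge2 {G α : Type*} [Group G] [MulAction G α] {e : ℕ → α} {a : ℕ → G} (he : Set.InjOn e (Set.Iio 24)) (h0 : Tabs e 24 m11_S a 3) :
    Finite (genLt (m11_g a) 3) → 60 ≤ Nat.card (genLt (m11_g a) 3) := fun hK =>
  (m11_low2 he h0).card hK (m11_ge3 he h0)

theorem m11_fix2 {G α : Type*} [Group G] [MulAction G α] {e : ℕ → α} {a : ℕ → G} (he : Set.InjOn e (Set.Iio 24)) (h0 : Tabs e 24 m11_S a 3) :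
    ∀ X : Subgroup G, Finite X → (genLt (m11_g a) 3) ≤ X → 60 * Nat.card (fixB e X [17, 23, 7]) ≤ Nat.card X :=
  (m11_low2 he h0).card_fix (m11_fix3 he h0)

theorem m11_low1 {G α : Type*} [Group G] [MulAction G α] {e : ℕ → α} {a : ℕ → G} (he : Set.InjOn e (Set.Iio 24)) (h0 : Tabs e 24 m11_S a 3) :
    LowLevel (genLt (m11_g a) 4) (genLt (m11_g a) 3) (e 22) 11 :=
  Tabs.lowLevel (m11_tabs h0) he (by decide) (by decide) (by decide) m11_L1_o

theorem m11_ge1 {G α : Type*} [Group G] [MulAction G α] {e : ℕ → α} {a : ℕ → G} (he : Set.InjOn e (Set.Iio 24)) (h0 : Tabs e 24 m11_S a 3) :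
    Finite (genLt (m11_g a) 4) → 660 ≤ Nat.card (genLt (m11_g a) 4) := fun hK =>
  (m11_low1 he h0).card hK (m11_ge2 he h0)

theorem m11_fix1 {G α : Type*} [Group G] [MulAction G α] {e : ℕ → α} {a : ℕ → G} (he : Set.InjOn e (Set.Iio 24)) (h0 : Tabs e 24 m11_S a 3) :
    ∀ X : Subgroup G, Finite X → (genLt (m11_g a) 4) ≤ X → 660 * Nat.card (fixB e X [22, 17, 23, 7]) ≤ Nat.card X :=
  (m11_low1 he h0).card_fix (m11_fix2 he h0)

theorem m11_low0 {G α : Type*} [Group G] [MulAction G α] {e : ℕ → α} {a : ℕ → G} (he : Set.InjOn e (Set.Iio 24)) (h0 : Tabs e 24 m11_S a 3) :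
    LowLevel (genLt (m11_g a) 10) (genLt (m11_g a) 4) (e 20) 12 :=
  Tabs.lowLevel (m11_tabs h0) he (by decide) (by decide) (by decide) m11_L0_o

theorem m11_ge0 {G α : Type*} [Group G] [MulAction G α] {e : ℕ → α} {a : ℕ → G} (he : Set.InjOn e (Set.Iio 24)) (h0 : Tabs e 24 m11_S a 3) :
    Finite (genLt (m11_g a) 10) → 7920 ≤ Nat.card (genLt (m11_g a) 10) := fun hK =>
  (m11_low0 he h0).card hK (m11_ge1 he h0)

theorem m11_fix0 {G α : Type*} [Group G] [MulAction G α] {e : ℕ → α} {a : ℕ → G} (he : Set.InjOn e (Set.Iio 24)) (h0 : Tabs e 24 m11_S a 3) :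
    ∀ X : Subgroup G, Finite X → (genLt (m11_g a) 10) ≤ X → 7920 * Nat.card (fixB e X [20, 22, 17, 23, 7]) ≤ Nat.card X :=
  (m11_low0 he h0).card_fix (m11_fix1 he h0)

theorem m11_ub0 {G α : Type*} [Group G] [MulAction G α] {e : ℕ → α} {a : ℕ → G} (he : Set.InjOn e (Set.Iio 24)) (h0 : Tabs e 24 m11_S a 3) (hub : Nat.card (genLt a 3) ≠ 0 ∧ Nat.card (genLt a 3) ≤ 7920) :
    Nat.card (genLt (m11_g a) 10) ≠ 0 ∧ Nat.card (genLt (m11_g a) 10) ≤ 7920 := by rw [m11_gen]; exact hub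

theorem m11_level0 {G α : Type*} [Group G] [MulAction G α] {e : ℕ → α} {a : ℕ → G} (he : Set.InjOn e (Set.Iio 24)) (h0 : Tabs e 24 m11_S a 3) (hub : Nat.card (genLt a 3) ≠ 0 ∧ Nat.card (genLt a 3) ≤ 7920) :
    Level (genLt (m11_g a) 10) (genLt (m11_g a) 4) (e 20) 12 :=
  ((m11_low0 he h0).level (c := 660) (m11_ub0 he h0 hub) (m11_ge1 he h0)).1

theorem m11_ub1 {G α : Type*} [Group G] [MulAction G α] {e : ℕ → α} {a : ℕ → G} (he : Set.InjOn e (Set.Iio 24)) (h0 : Tabs e 24 m11_S a 3) (hub : Nat.card (genLt a 3) ≠ 0 ∧ Nat.card (genLt a 3) ≤ 7920) :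
    Nat.card (genLt (m11_g a) 4) ≠ 0 ∧ Nat.card (genLt (m11_g a) 4) ≤ 660 :=
  ((m11_low0 he h0).level (c := 660) (m11_ub0 he h0 hub) (m11_ge1 he h0)).2

theorem m11_level1 {G α : Type*} [Group G] [MulAction G α] {e : ℕ → α} {a : ℕ → G} (he : Set.InjOn e (Set.Iio 24)) (h0 : Tabs e 24 m11_S a 3) (hub : Nat.card (genLt a 3) ≠ 0 ∧ Nat.card (genLt a 3) ≤ 7920) :
    Level (genLt (m11_g a) 4) (genLt (m11_g a) 3) (e 22) 11 :=
  ((m11_low1 he h0).level (c := 60) (m11_ub1 he h0 hub) (m11_ge2 he h0)).1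

theorem m11_ub2 {G α : Type*} [Group G] [MulAction G α] {e : ℕ → α} {a : ℕ → G} (he : Set.InjOn e (Set.Iio 24)) (h0 : Tabs e 24 m11_S a 3) (hub : Nat.card (genLt a 3) ≠ 0 ∧ Nat.card (genLt a 3) ≤ 7920) :
    Nat.card (genLt (m11_g a) 3) ≠ 0 ∧ Nat.card (genLt (m11_g a) 3) ≤ 60 :=
  ((m11_low1 he h0).level (c := 60) (m11_ub1 he h0 hub) (m11_ge2 he h0)).2

theorem m11_level2 {G α : Type*} [Group G] [MulAction G α] {e : ℕ → α} {a : ℕ → G} (he : Set.InjOn e (Set.Iio 24)) (h0 : Tabs e 24 m11_S a 3) (hub : Nat.card (genLt a 3) ≠ 0 ∧ Nat.card (genLt a 3) ≤ 7920) :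
    Level (genLt (m11_g a) 3) (genLt (m11_g a) 2) (e 17) 10 :=
  ((m11_low2 he h0).level (c := 6) (m11_ub2 he h0 hub) (m11_ge3 he h0)).1

theorem m11_ub3 {G α : Type*} [Group G] [MulAction G α] {e : ℕ → α} {a : ℕ → G} (he : Set.InjOn e (Set.Iio 24)) (h0 : Tabs e 24 m11_S a 3) (hub : Nat.card (genLt a 3) ≠ 0 ∧ Nat.card (genLt a 3) ≤ 7920) :
    Nat.card (genLt (m11_g a) 2) ≠ 0 ∧ Nat.card (genLt (m11_g a) 2) ≤ 6 :=
  ((m11_low2 he h0).level (c := 6) (m11_ub2 he h0 hub) (m11_ge3 he h0)).2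

theorem m11_level3 {G α : Type*} [Group G] [MulAction G α] {e : ℕ → α} {a : ℕ → G} (he : Set.InjOn e (Set.Iio 24)) (h0 : Tabs e 24 m11_S a 3) (hub : Nat.card (genLt a 3) ≠ 0 ∧ Nat.card (genLt a 3) ≤ 7920) :
    Level (genLt (m11_g a) 2) (genLt (m11_g a) 1) (e 23) 3 :=
  ((m11_low3 he h0).level (c := 2) (m11_ub3 he h0 hub) (m11_ge4 he h0)).1

theorem m11_ub4 {G α : Type*} [Group G] [MulAction G α] {e : ℕ → α} {a : ℕ → G} (he : Set.InjOn e (Set.Iio 24)) (h0 : Tabs e 24 m11_S a 3) (hub : Nat.card (genLt a 3) ≠ 0 ∧ Nat.card (genLt a 3) ≤ 7920) :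
    Nat.card (genLt (m11_g a) 1) ≠ 0 ∧ Nat.card (genLt (m11_g a) 1) ≤ 2 :=
  ((m11_low3 he h0).level (c := 2) (m11_ub3 he h0 hub) (m11_ge4 he h0)).2

theorem m11_level4 {G α : Type*} [Group G] [MulAction G α] {e : ℕ → α} {a : ℕ → G} (he : Set.InjOn e (Set.Iio 24)) (h0 : Tabs e 24 m11_S a 3) (hub : Nat.card (genLt a 3) ≠ 0 ∧ Nat.card (genLt a 3) ≤ 7920) :
    Level (genLt (m11_g a) 1) (genLt (m11_g a) 0) (e 7) 2 :=
  ((m11_low4 he h0).level (c := 1) (m11_ub4 he h0 hub) (one_le_card_fin _)).1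

theorem m11_card4 {G α : Type*} [Group G] [MulAction G α] {e : ℕ → α} {a : ℕ → G} (he : Set.InjOn e (Set.Iio 24)) (h0 : Tabs e 24 m11_S a 3) (hub : Nat.card (genLt a 3) ≠ 0 ∧ Nat.card (genLt a 3) ≤ 7920) :
    Nat.card (genLt (m11_g a) 1) = 2 :=
  (m11_level4 he h0 hub).card (card_genLt_zero _)

theorem m11_base4 {G α : Type*} [Group G] [MulAction G α] {e : ℕ → α} {a : ℕ → G} (he : Set.InjOn e (Set.Iio 24)) (h0 : Tabs e 24 m11_S a 3) (hub : Nat.card (genLt a 3) ≠ 0 ∧ Nat.card (genLt a 3) ≤ 7920) :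
    IsBase e (genLt (m11_g a) 1) [7] :=
  (m11_level4 he h0 hub).base (isBase_genLt_zero _ _)

theorem m11_card3 {G α : Type*} [Group G] [MulAction G α] {e : ℕ → α} {a : ℕ → G} (he : Set.InjOn e (Set.Iio 24)) (h0 : Tabs e 24 m11_S a 3) (hub : Nat.card (genLt a 3) ≠ 0 ∧ Nat.card (genLt a 3) ≤ 7920) :
    Nat.card (genLt (m11_g a) 2) = 6 :=
  (m11_level3 he h0 hub).card (m11_card4 he h0 hub)

theorem m11_base3 {G α : Type*} [Group G] [MulAction G α] {e : ℕ → α} {a : ℕ → G} (he : Set.InjOn e (Set.Iio 24)) (h0 : Tabs e 24 m11_S a 3) (hub : Nat.card (genLt a 3) ≠ 0 ∧ Nat.card (genLt a 3) ≤ 7920) :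
    IsBase e (genLt (m11_g a) 2) [23, 7] :=
  (m11_level3 he h0 hub).base (m11_base4 he h0 hub)

theorem m11_card2 {G α : Type*} [Group G] [MulAction G α] {e : ℕ → α} {a : ℕ → G} (he : Set.InjOn e (Set.Iio 24)) (h0 : Tabs e 24 m11_S a 3) (hub : Nat.card (genLt a 3) ≠ 0 ∧ Nat.card (genLt a 3) ≤ 7920) :
    Nat.card (genLt (m11_g a) 3) = 60 :=
  (m11_level2 he h0 hub).card (m11_card3 he h0 hub)

theorem m11_base2 {G α : Type*} [Group G] [MulAction G α] {e : ℕ → α} {a : ℕ → G} (he : Set.InjOn e (Set.Iio 24)) (h0 : Tabs e 24 m11_S a 3) (hub : Nat.card (genLt a 3) ≠ 0 ∧ Nat.card (genLt a 3) ≤ 7920) :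
    IsBase e (genLt (m11_g a) 3) [17, 23, 7] :=
  (m11_level2 he h0 hub).base (m11_base3 he h0 hub)

theorem m11_card1 {G α : Type*} [Group G] [MulAction G α] {e : ℕ → α} {a : ℕ → G} (he : Set.InjOn e (Set.Iio 24)) (h0 : Tabs e 24 m11_S a 3) (hub : Nat.card (genLt a 3) ≠ 0 ∧ Nat.card (genLt a 3) ≤ 7920) :
    Nat.card (genLt (m11_g a) 4) = 660 :=
  (m11_level1 he h0 hub).card (m11_card2 he h0 hub)

theorem m11_base1 {G α : Type*} [Group G] [MulAction G α] {e : ℕ → α} {a : ℕ → G} (he : Set.InjOn e (Set.Iio 24)) (h0 : Tabs e 24 m11_S a 3) (hub : Nat.card (genLt a 3) ≠ 0 ∧ Nat.card (genLt a 3) ≤ 7920) :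
    IsBase e (genLt (m11_g a) 4) [22, 17, 23, 7] :=
  (m11_level1 he h0 hub).base (m11_base2 he h0 hub)

theorem m11_card0 {G α : Type*} [Group G] [MulAction G α] {e : ℕ → α} {a : ℕ → G} (he : Set.InjOn e (Set.Iio 24)) (h0 : Tabs e 24 m11_S a 3) (hub : Nat.card (genLt a 3) ≠ 0 ∧ Nat.card (genLt a 3) ≤ 7920) :
    Nat.card (genLt (m11_g a) 10) = 7920 :=
  (m11_level0 he h0 hub).card (m11_card1 he h0 hub)

theorem m11_base0 {G α : Type*} [Group G] [MulAction G α] {e : ℕ → α} {a : ℕ → G} (he : Set.InjOn e (Set.Iio 24)) (h0 : Tabs e 24 m11_S a 3) (hub : Nat.card (genLt a 3) ≠ 0 ∧ Nat.card (genLt a 3) ≤ 7920) :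
    IsBase e (genLt (m11_g a) 10) [20, 22, 17, 23, 7] :=
  (m11_level0 he h0 hub).base (m11_base1 he h0 hub)

theorem m11_hinv {G α : Type*} [Group G] [MulAction G α] {e : ℕ → α} {a : ℕ → G} (he : Set.InjOn e (Set.Iio 24)) (h0 : Tabs e 24 m11_S a 3) (hub : Nat.card (genLt a 3) ≠ 0 ∧ Nat.card (genLt a 3) ≤ 7920) : ∀ x < 10, m11_g a x * m11_g a (m11_inv x) = 1 :=
  (m11_tabs h0).hinv_of_base (m11_base0 he h0 hub) (by decide +kernel)

theorem m11_card {G α : Type*} [Group G] [MulAction G α] {e : ℕ → α} {a : ℕ → G} (he : Set.InjOn e (Set.Iio 24)) (h0 : Tabs e 24 m11_S a 3) (hub : Nat.card (genLt a 3) ≠ 0 ∧ Nat.card (genLt a 3) ≤ 7920) :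
    Nat.card (genLt a 3) = 7920 := by
  rw [← m11_gen]; exact m11_card0 he h0 hub

end Cfsg.Agent.Spor.OutC
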