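import Mathlib
import Cfsg.Agent.Spor.Out.M11Ch
import Cfsg.Agent.Spor.Out.Gen
import Cfsg.Agent.Spor.Blocks

/-! Generated by tools/h59/outgen.py: outer automorphisms, m11 -/

set_option autoImplicit false
set_option maxRecDepth 100000
set_option linter.unusedVariables false
set_option exponentiation.threshold 100000

namespace Cfsg.Agent.Spor.OutC

open Cfsg.Agent.Spor

noncomputable def m11_la : Lv := ⟨m11_E (nat_lit 0), nat_lit 20, nat_lit 10, true, nat_lit 0, [], []⟩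

noncomputable def m11_La : List Lv :=
  [⟨m11_E (nat_lit 1), nat_lit 22, nat_lit 23, false, nat_lit 0, [nat_lit 0], []⟩,
   ⟨m11_E (nat_lit 2), nat_lit 17, nat_lit 19, false, nat_lit 0, [nat_lit 0], []⟩,
   ⟨m11_E (nat_lit 3), nat_lit 23, nat_lit 7, false, nat_lit 0, [nat_lit 0], []⟩,
   ⟨m11_E (nat_lit 4), nat_lit 7, nat_lit 11, false, nat_lit 0, [nat_lit 0,nat_lit 0,nat_lit 0,nat_lit 0,nat_lit 0,nat_lit 0], []⟩]

noncomputable def m11_lb : Lv := ⟨m11_E (nat_lit 0), nat_lit 20, nat_lit 20, true, nat_lit 0, [], [nat_lit 0]⟩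

noncomputable def m11_Lb : List Lv :=
  [⟨m11_E (nat_lit 1), nat_lit 22, nat_lit 22, true, nat_lit 0, [], []⟩,
   ⟨m11_E (nat_lit 2), nat_lit 17, nat_lit 17, false, nat_lit 0, [nat_lit 0], []⟩,
   ⟨m11_E (nat_lit 3), nat_lit 23, nat_lit 23, false, nat_lit 0, [nat_lit 0], []⟩,
   ⟨m11_E (nat_lit 4), nat_lit 7, nat_lit 7, false, nat_lit 0, [nat_lit 0], []⟩]

def m11_h : List ℕ := [nat_lit 1,nat_lit 0,nat_lit 2,nat_lit 1,nat_lit 2,nat_lit 0,nat_lit 3,nat_lit 2,nat_lit 1,nat_lit 9]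

def m11_Z : List ℕ := [nat_lit 8]

def m11_Rels : List (ℕ × List ℕ × List ℕ) :=
  [(nat_lit 3, [nat_lit 0,nat_lit 1,nat_lit 1,nat_lit 2], [])]

theorem m11_s1_0 : allRange (nat_lit 0) (nat_lit 24) (siftTop m11_T m11_S m11_inv (nat_lit 24) m11_h (acc1 m11_T m11_S [nat_lit 20,nat_lit 22,nat_lit 17,nat_lit 23,nat_lit 7] (nat_lit 11)) m11_la m11_La) = true := by decide +kernel

theorem m11_s2_0 : allRange (nat_lit 0) (nat_lit 24) (siftTop m11_T (fun _ => iterF (m11_S 1) (nat_lit 2)) m11_inv (nat_lit 24) [] (acc2 m11_T m11_S [nat_lit 20,nat_lit 22,nat_lit 17,nat_lit 23,nat_lit 7] [nat_lit 1,nat_lit 2] m11_Rels [(1, m11_Z)]) m11_lb m11_Lb) = true := by decide +kernel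

theorem m11_hub {G : Type*} [Group G] (y : ℕ → G) (hc : Nat.card G = 7920) :
    Nat.card (genLt y 3) ≠ 0 ∧ Nat.card (genLt y 3) ≤ 7920 :=
  card_genLt_le (K := ⊤) (fun _ _ => trivial) (Subgroup.card_top.trans hc)

theorem m11_model {G α : Type*} [Group G] [MulAction G α] {e : ℕ → α} {y : ℕ → G} (he : Set.InjOn e (Set.Iio 24)) (h0 : Tabs e 24 m11_S y 3) (hc : Nat.card G = 7920) :
    OutModel e 24 m11_T m11_S (m11_g y) y 10 m11_inv [nat_lit 20,nat_lit 22,nat_lit 17,nat_lit 23,nat_lit 7] 7920 :=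
  have h1 := genLt_eq_of_card (K := ⊤) (fun _ _ => trivial) (Subgroup.card_top.trans hc) (m11_card he h0 (m11_hub y hc))
  ⟨(m11_tabs h0).sifter he (m11_hinv he h0 (m11_hub y hc)) (m11_base0 he h0 (m11_hub y hc)) (by decide +kernel),
    (m11_gen y).trans h1, h0, h1, hc⟩

theorem m11_sl0 {G α : Type*} [Group G] [MulAction G α] {e : ℕ → α} {y : ℕ → G} (he : Set.InjOn e (Set.Iio 24)) (h0 : Tabs e 24 m11_S y 3) (hc : Nat.card G = 7920) :
    SLev e 24 m11_T (m11_g y) (m11_E (nat_lit 0)) 10 4 20 :=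
  (m11_tabs h0).sLev he (m11_level0 he h0 (m11_hub y hc)) m11_L0_o

theorem m11_sl1 {G α : Type*} [Group G] [MulAction G α] {e : ℕ → α} {y : ℕ → G} (he : Set.InjOn e (Set.Iio 24)) (h0 : Tabs e 24 m11_S y 3) (hc : Nat.card G = 7920) :
    SLev e 24 m11_T (m11_g y) (m11_E (nat_lit 1)) 4 3 22 :=
  (m11_tabs h0).sLev he (m11_level1 he h0 (m11_hub y hc)) m11_L1_o

theorem m11_sl2 {G α : Type*} [Group G] [MulAction G α] {e : ℕ → α} {y : ℕ → G} (he : Set.InjOn e (Set.Iio 24)) (h0 : Tabs e 24 m11_S y 3) (hc : Nat.card G = 7920) :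
    SLev e 24 m11_T (m11_g y) (m11_E (nat_lit 2)) 3 2 17 :=
  (m11_tabs h0).sLev he (m11_level2 he h0 (m11_hub y hc)) m11_L2_o

theorem m11_sl3 {G α : Type*} [Group G] [MulAction G α] {e : ℕ → α} {y : ℕ → G} (he : Set.InjOn e (Set.Iio 24)) (h0 : Tabs e 24 m11_S y 3) (hc : Nat.card G = 7920) :
    SLev e 24 m11_T (m11_g y) (m11_E (nat_lit 3)) 2 1 23 :=
  (m11_tabs h0).sLev he (m11_level3 he h0 (m11_hub y hc)) m11_L3_o

theorem m11_sl4 {G α : Type*} [Group G] [MulAction G α] {e : ℕ → α} {y : ℕ → G} (he : Set.InjOn e (Set.Iio 24)) (h0 : Tabs e 24 m11_S y 3) (hc : Nat.card G = 7920) :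
    SLev e 24 m11_T (m11_g y) (m11_E (nat_lit 4)) 1 0 7 :=
  (m11_tabs h0).sLev he (m11_level4 he h0 (m11_hub y hc)) m11_L4_o

theorem m11_cha {G α : Type*} [Group G] [MulAction G α] {e : ℕ → α} {y : ℕ → G} (he : Set.InjOn e (Set.Iio 24)) (h0 : Tabs e 24 m11_S y 3) (hc : Nat.card G = 7920) :
    ChainOK e 24 m11_T (m11_g y) (m11_la :: m11_La) 10 :=
  ⟨_, m11_sl0 he h0 hc, _, m11_sl1 he h0 hc, _, m11_sl2 he h0 hc, _, m11_sl3 he h0 hc, _, m11_sl4 he h0 hc, rfl⟩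

theorem m11_chb {G α : Type*} [Group G] [MulAction G α] {e : ℕ → α} {y : ℕ → G} (he : Set.InjOn e (Set.Iio 24)) (h0 : Tabs e 24 m11_S y 3) (hc : Nat.card G = 7920) :
    ChainOK e 24 m11_T (m11_g y) (m11_lb :: m11_Lb) 10 :=
  ⟨_, m11_sl0 he h0 hc, _, m11_sl1 he h0 hc, _, m11_sl2 he h0 hc, _, m11_sl3 he h0 hc, _, m11_sl4 he h0 hc, rfl⟩

theorem m11_s1 : ∀ q < 24, siftTop m11_T m11_S m11_inv (nat_lit 24) m11_h (acc1 m11_T m11_S [nat_lit 20,nat_lit 22,nat_lit 17,nat_lit 23,nat_lit 7] (nat_lit 11)) m11_la m11_La q = true :=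
  allRange_zero m11_s1_0

theorem m11_s2 : ∀ q < 24, siftTop m11_T (fun _ => iterF (m11_S 1) (nat_lit 2)) m11_inv (nat_lit 24) [] (acc2 m11_T m11_S [nat_lit 20,nat_lit 22,nat_lit 17,nat_lit 23,nat_lit 7] [nat_lit 1,nat_lit 2] m11_Rels [(1, m11_Z)]) m11_lb m11_Lb q = true :=
  allRange_zero m11_s2_0

theorem m11_out {G α : Type*} [Group G] [MulAction G α] {e : ℕ → α} {y : ℕ → G} (he : Set.InjOn e (Set.Iio 24)) (h0 : Tabs e 24 m11_S y 3) (hc : Nat.card G = 7920) : Nat.card (Out G) = 1 :=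
  (m11_model he h0 hc).card_out_one (by decide +kernel)
    ((m11_model he h0 hc).aut_cases (p := nat_lit 11) (κ := 3) (a := nat_lit 1) (by norm_num) (by decide +kernel)
      ((m11_model he h0 hc).centralizer (m11_cha he h0 hc) (by decide +kernel) m11_s1)
      (m11_chb he h0 hc) (by decide +kernel) m11_s2)

end Cfsg.Agent.Spor.OutC
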