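import Mathlib
import Cfsg.Agent.Spor.Comp.Pres

/-! Generated by tools/pg: stabiliser chain m12 -/

set_option autoImplicit false
set_option maxRecDepth 100000
set_option linter.unusedVariables false
set_option exponentiation.threshold 100000

namespace Cfsg.Agent.Spor.OutC

open Cfsg.Agent.Spor

noncomputable def m12_S_t0 : BT :=
(.node (.node (.node (.node (.node (.leaf (nat_lit 0x2a8f35a68c7dc2db5440742321a086))
 (.leaf (nat_lit 0xbd68e986295589259e0c2b5e330102))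
) (.leaf (nat_lit 0x896f33b2c6729205d110a91f213423))
) (.node (.node (.leaf (nat_lit 0xab947891697cc26b5112bb4b01b040))
 (.leaf (nat_lit 0x7dec799a2daba035d0442c9490a00c))
) (.leaf (nat_lit 0x3aace9a221b94105d64979a8468983))
)) (.node (.node (.node (.leaf (nat_lit 0x9d236b86ac29d1052ccd725e201243))
 (.leaf (nat_lit 0xb55ea99a2dbba0059482a48e862461))
) (.leaf (nat_lit 0x7d5459a62c3d0615d912b99c400a0d))
) (.node (.leaf (nat_lit 0xac4eaa12e82bc525b9a99c2c600c2c))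
 (.leaf (nat_lit 0xbbad59b2292d0c85be0150ced20242))
))) (.node (.node (.node (.node (.leaf (nat_lit 0x3aeea722647d8c28d609a30b2185a0))
 (.leaf (nat_lit 0x2aa979b6263ba425bc03b42ac48488))
) (.leaf (nat_lit 0x3cd55a3628715325bd80bc2c3104c4))
) (.node (.leaf (nat_lit 0x51ed5286727d1a05c444732e61c128))
 (.leaf (nat_lit 0x3beb799a235518059444726c8849a1))
)) (.node (.node (.node (.leaf (nat_lit 0x72d51a10a679d909da42a82e11a5a8))
 (.leaf (nat_lit 0xa1cb59b62653a445d8607c2e143049))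
) (.leaf (nat_lit 0x39693b322653e495d5b0b85c020c48))
) (.node (.leaf (nat_lit 0x2d68e8c14279da65dc20b12681a64c))
 (.leaf (nat_lit 0xa16ae98a23b1c2d5bcc4bc9488240c))
))))

noncomputable def m12_S_t : BT :=
m12_S_t0

noncomputable def m12_S : ℕ → ℕ → ℕ := fun x i => Nat.land (Nat.shiftRight (BT.get m12_S_t x) (Nat.mul (nat_lit 5) i)) (nat_lit 31)

noncomputable def m12_defs : LT :=
(.node (.node (.node (.node (.node (.leaf [nat_lit 0])
 (.leaf [nat_lit 1,nat_lit 14])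
) (.leaf [nat_lit 1,nat_lit 6])
) (.node (.node (.leaf [nat_lit 1,nat_lit 1])
 (.leaf [nat_lit 1,nat_lit 18])
) (.leaf [nat_lit 1,nat_lit 10])
)) (.node (.node (.node (.leaf [nat_lit 0])
 (.leaf [nat_lit 0,nat_lit 14,nat_lit 15,nat_lit 15,nat_lit 14,nat_lit 15])
) (.leaf [nat_lit 0,nat_lit 5,nat_lit 6,nat_lit 6,nat_lit 5])
) (.node (.leaf [nat_lit 0,nat_lit 2,nat_lit 0,nat_lit 0])
 (.leaf [nat_lit 0,nat_lit 11,nat_lit 12,nat_lit 11,nat_lit 11])
))) (.node (.node (.node (.node (.leaf [nat_lit 0])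
 (.leaf [nat_lit 0,nat_lit 16,nat_lit 13])
) (.leaf [nat_lit 0,nat_lit 8,nat_lit 7,nat_lit 7])
) (.node (.leaf [nat_lit 0,nat_lit 3,nat_lit 4])
 (.leaf [nat_lit 0,nat_lit 9,nat_lit 10,nat_lit 9,nat_lit 9,nat_lit 9])
)) (.node (.node (.node (.leaf [nat_lit 1,nat_lit 0])
 (.leaf [nat_lit 1,nat_lit 17])
) (.leaf [nat_lit 1,nat_lit 9])
) (.node (.leaf [nat_lit 1,nat_lit 5])
 (.leaf [nat_lit 1,nat_lit 13])
))))
noncomputable def m12_iota : ℕ → ℕ := getP (nat_lit 8) (nat_lit 255) (nat_lit 0x20401030007050b090f0d14121311)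
noncomputable def m12_inv : ℕ → ℕ := getP (nat_lit 8) (nat_lit 255) (nat_lit 0xe0c0d0a0b08090607040502030001)
noncomputable def m12_hws : LT := .leaf []

noncomputable def m12_T_t0 : BT :=
(.node (.node (.node (.node (.leaf (nat_lit 0x2aa979b6263ba425bc03b42ac48488))
 (.leaf (nat_lit 0x51ed5286727d1a05c444732e61c128))
) (.node (.leaf (nat_lit 0x3beb799a235518059444726c8849a1))
 (.leaf (nat_lit 0x3aeea722647d8c28d609a30b2185a0))
)) (.node (.node (.leaf (nat_lit 0xb55ea99a2dbba0059482a48e862461))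
 (.leaf (nat_lit 0x2a8f35a68c7dc2db5440742321a086))
) (.node (.leaf (nat_lit 0x3cd55a3628715325bd80bc2c3104c4))
 (.leaf (nat_lit 0x9d236b86ac29d1052ccd725e201243))
))) (.node (.node (.node (.leaf (nat_lit 0xa1cb59b62653a445d8607c2e143049))
 (.leaf (nat_lit 0x2d68e8c14279da65dc20b12681a64c))
) (.node (.leaf (nat_lit 0xa16ae98a23b1c2d5bcc4bc9488240c))
 (.leaf (nat_lit 0xab947891697cc26b5112bb4b01b040))
)) (.node (.node (.leaf (nat_lit 0x7dec799a2daba035d0442c9490a00c))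
 (.leaf (nat_lit 0x72d51a10a679d909da42a82e11a5a8))
) (.leaf (nat_lit 0x39693b322653e495d5b0b85c020c48))
)))

noncomputable def m12_T_t : BT :=
m12_T_t0

noncomputable def m12_T : ℕ → ℕ → ℕ := fun x i => Nat.land (Nat.shiftRight (BT.get m12_T_t x) (Nat.mul (nat_lit 5) i)) (nat_lit 31)

noncomputable def m12_E_t0 : BT :=
(.node (.node (.node (.leaf (nat_lit 0x60482d81b0e4140010680060ac3000000200838000006000018200000000000000))
 (.leaf (nat_lit 0x40440101b020000000000060200000000000804000004000018180000000000000))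
) (.leaf (nat_lit 0x602819802072000000000060ac1000000000c0c000006040018200000000000000))
) (.node (.leaf (nat_lit 0x610c19833074120008000060301000000000820000008040018480000000000000))
 (.leaf (nat_lit 0x602c05802050000000000060040000000000c0c000004080018100000000000000))
))

noncomputable def m12_E_t : BT :=
m12_E_t0

noncomputable def m12_E : ℕ → ℕ → ℕ := fun x i => Nat.land (Nat.shiftRight (BT.get m12_E_t x) (Nat.mul (nat_lit 11) i)) (nat_lit 2047)

theorem m12_slp0 : allLt (nat_lit 18) (fun i => force (Nat.add (nat_lit 3) i) (slpOK m12_S m12_defs (nat_lit 24))) = true := by decide +kernel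

theorem m12_ren : allLt (nat_lit 15) (fun x => force (m12_iota x) fun y => band (blt y (nat_lit 21)) (allRange (nat_lit 0) (nat_lit 24) fun i => Nat.beq (m12_S y i) (m12_T x i))) = true := by decide +kernel

theorem m12_L4_o : band (allRange (nat_lit 0) (nat_lit 24) (orbOK m12_T (nat_lit 4) (m12_E (nat_lit 4)) (Nat.beq (nat_lit 22)))) (band (Nat.ble (nat_lit 8) (count2 (nat_lit 24) fun p => Nat.ble 256 (m12_E (nat_lit 4) p))) (allLt (nat_lit 0) (fun x => Nat.beq (m12_T x (nat_lit 22)) (nat_lit 22)))) = true := by decide +kernel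

theorem m12_L3_o : band (allRange (nat_lit 0) (nat_lit 24) (orbOK m12_T (nat_lit 6) (m12_E (nat_lit 3)) (Nat.beq (nat_lit 14)))) (band (Nat.ble (nat_lit 9) (count2 (nat_lit 24) fun p => Nat.ble 256 (m12_E (nat_lit 3) p))) (allLt (nat_lit 4) (fun x => Nat.beq (m12_T x (nat_lit 14)) (nat_lit 14)))) = true := by decide +kernel

theorem m12_L2_o : band (allRange (nat_lit 0) (nat_lit 24) (orbOK m12_T (nat_lit 8) (m12_E (nat_lit 2)) (Nat.beq (nat_lit 19)))) (band (Nat.ble (nat_lit 10) (count2 (nat_lit 24) fun p => Nat.ble 256 (m12_E (nat_lit 2) p))) (allLt (nat_lit 6) (fun x => Nat.beq (m12_T x (nat_lit 19)) (nat_lit 19)))) = true := by decide +kernel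

theorem m12_L1_o : band (allRange (nat_lit 0) (nat_lit 24) (orbOK m12_T (nat_lit 10) (m12_E (nat_lit 1)) (Nat.beq (nat_lit 17)))) (band (Nat.ble (nat_lit 11) (count2 (nat_lit 24) fun p => Nat.ble 256 (m12_E (nat_lit 1) p))) (allLt (nat_lit 8) (fun x => Nat.beq (m12_T x (nat_lit 17)) (nat_lit 17)))) = true := by decide +kernel

theorem m12_L0_o : band (allRange (nat_lit 0) (nat_lit 24) (orbOK m12_T (nat_lit 15) (m12_E (nat_lit 0)) (Nat.beq (nat_lit 11)))) (band (Nat.ble (nat_lit 12) (count2 (nat_lit 24) fun p => Nat.ble 256 (m12_E (nat_lit 0) p))) (allLt (nat_lit 10) (fun x => Nat.beq (m12_T x (nat_lit 11)) (nat_lit 11)))) = true := by decide +kernel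

/-- The letters: a strong generating set, deepest stabiliser first. -/
noncomputable def m12_g {G : Type*} [Group G] (a : ℕ → G) : ℕ → G := fun x => slp a 3 m12_defs (m12_iota x)

theorem m12_tabs {G α : Type*} [Group G] [MulAction G α] {e : ℕ → α} {a : ℕ → G} (h0 : Tabs e 24 m12_S a 3) : Tabs e 24 m12_T (m12_g a) 15 :=
  Tabs.rename (ι := m12_iota) (g := slp a 3 m12_defs) ((Tabs.slp_base m12_defs h0).slp_add (by decide) _ m12_slp0) m12_ren

theorem m12_gen {G : Type*} [Group G] (a : ℕ → G) : genLt (m12_g a) 15 = genLt a 3 :=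
  genLt_slp_eq a m12_defs (back := getP 8 255 (nat_lit 0xe0c0a)) (by decide +kernel)

theorem m12_low4 {G α : Type*} [Group G] [MulAction G α] {e : ℕ → α} {a : ℕ → G} (he : Set.InjOn e (Set.Iio 24)) (h0 : Tabs e 24 m12_S a 3) :
    LowLevel (genLt (m12_g a) 4) (genLt (m12_g a) 0) (e 22) 8 :=
  Tabs.lowLevel (m12_tabs h0) he (by decide) (by decide) (by decide) m12_L4_o

theorem m12_ge4 {G α : Type*} [Group G] [MulAction G α] {e : ℕ → α} {a : ℕ → G} (he : Set.InjOn e (Set.Iio 24)) (h0 : Tabs e 24 m12_S a 3) :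
    Finite (genLt (m12_g a) 4) → 8 ≤ Nat.card (genLt (m12_g a) 4) := fun hK =>
  (m12_low4 he h0).card hK (one_le_card_fin _)

theorem m12_fix4 {G α : Type*} [Group G] [MulAction G α] {e : ℕ → α} {a : ℕ → G} (he : Set.InjOn e (Set.Iio 24)) (h0 : Tabs e 24 m12_S a 3) :
    ∀ X : Subgroup G, Finite X → (genLt (m12_g a) 4) ≤ X → 8 * Nat.card (fixB e X [22]) ≤ Nat.card X :=
  (m12_low4 he h0).card_fix (card_fix_nil _ _)

theorem m12_low3 {G α : Type*} [Group G] [MulAction G α] {e : ℕ → α} {a : ℕ → G} (he : Set.InjOn e (Set.Iio 24)) (h0 : Tabs e 24 m12_S a 3) :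
    LowLevel (genLt (m12_g a) 6) (genLt (m12_g a) 4) (e 14) 9 :=
  Tabs.lowLevel (m12_tabs h0) he (by decide) (by decide) (by decide) m12_L3_o

theorem m12_ge3 {G α : Type*} [Group G] [MulAction G α] {e : ℕ → α} {a : ℕ → G} (he : Set.InjOn e (Set.Iio 24)) (h0 : Tabs e 24 m12_S a 3) :
    Finite (genLt (m12_g a) 6) → 72 ≤ Nat.card (genLt (m12_g a) 6) := fun hK =>
  (m12_low3 he h0).card hK (m12_ge4 he h0)

theorem m12_fix3 {G α : Type*} [Group G] [MulAction G α] {e : ℕ → α} {a : ℕ → G} (he : Set.InjOn e (Set.Iio 24)) (h0 : Tabs e 24 m12_S a 3) :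
    ∀ X : Subgroup G, Finite X → (genLt (m12_g a) 6) ≤ X → 72 * Nat.card (fixB e X [14, 22]) ≤ Nat.card X :=
  (m12_low3 he h0).card_fix (m12_fix4 he h0)

theorem m12_low2 {G α : Type*} [Group G] [MulAction G α] {e : ℕ → α} {a : ℕ → G} (he : Set.InjOn e (Set.Iio 24)) (h0 : Tabs e 24 m12_S a 3) :
    LowLevel (genLt (m12_g a) 8) (genLt (m12_g a) 6) (e 19) 10 :=
  Tabs.lowLevel (m12_tabs h0) he (by decide) (by decide) (by decide) m12_L2_o

theorem m12_ge2 {G α : Type*} [Group G] [MulAction G α] {e : ℕ → α} {a : ℕ → G} (he : Set.InjOn e (Set.Iio 24)) (h0 : Tabs e 24 m12_S a 3) :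
    Finite (genLt (m12_g a) 8) → 720 ≤ Nat.card (genLt (m12_g a) 8) := fun hK =>
  (m12_low2 he h0).card hK (m12_ge3 he h0)

theorem m12_fix2 {G α : Type*} [Group G] [MulAction G α] {e : ℕ → α} {a : ℕ → G} (he : Set.InjOn e (Set.Iio 24)) (h0 : Tabs e 24 m12_S a 3) :
    ∀ X : Subgroup G, Finite X → (genLt (m12_g a) 8) ≤ X → 720 * Nat.card (fixB e X [19, 14, 22]) ≤ Nat.card X :=
  (m12_low2 he h0).card_fix (m12_fix3 he h0)

theorem m12_low1 {G α : Type*} [Group G] [MulAction G α] {e : ℕ → α} {a : ℕ → G} (he : Set.InjOn e (Set.Iio 24)) (h0 : Tabs e 24 m12_S a 3) :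
    LowLevel (genLt (m12_g a) 10) (genLt (m12_g a) 8) (e 17) 11 :=
  Tabs.lowLevel (m12_tabs h0) he (by decide) (by decide) (by decide) m12_L1_o

theorem m12_ge1 {G α : Type*} [Group G] [MulAction G α] {e : ℕ → α} {a : ℕ → G} (he : Set.InjOn e (Set.Iio 24)) (h0 : Tabs e 24 m12_S a 3) :
    Finite (genLt (m12_g a) 10) → 7920 ≤ Nat.card (genLt (m12_g a) 10) := fun hK =>
  (m12_low1 he h0).card hK (m12_ge2 he h0)

theorem m12_fix1 {G α : Type*} [Group G] [MulAction G α] {e : ℕ → α} {a : ℕ → G} (he : Set.InjOn e (Set.Iio 24)) (h0 : Tabs e 24 m12_S a 3) :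
    ∀ X : Subgroup G, Finite X → (genLt (m12_g a) 10) ≤ X → 7920 * Nat.card (fixB e X [17, 19, 14, 22]) ≤ Nat.card X :=
  (m12_low1 he h0).card_fix (m12_fix2 he h0)

theorem m12_low0 {G α : Type*} [Group G] [MulAction G α] {e : ℕ → α} {a : ℕ → G} (he : Set.InjOn e (Set.Iio 24)) (h0 : Tabs e 24 m12_S a 3) :
    LowLevel (genLt (m12_g a) 15) (genLt (m12_g a) 10) (e 11) 12 :=
  Tabs.lowLevel (m12_tabs h0) he (by decide) (by decide) (by decide) m12_L0_o

theorem m12_ge0 {G α : Type*} [Group G] [MulAction G α] {e : ℕ → α} {a : ℕ → G} (he : Set.InjOn e (Set.Iio 24)) (h0 : Tabs e 24 m12_S a 3) :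
    Finite (genLt (m12_g a) 15) → 95040 ≤ Nat.card (genLt (m12_g a) 15) := fun hK =>
  (m12_low0 he h0).card hK (m12_ge1 he h0)

theorem m12_fix0 {G α : Type*} [Group G] [MulAction G α] {e : ℕ → α} {a : ℕ → G} (he : Set.InjOn e (Set.Iio 24)) (h0 : Tabs e 24 m12_S a 3) :
    ∀ X : Subgroup G, Finite X → (genLt (m12_g a) 15) ≤ X → 95040 * Nat.card (fixB e X [11, 17, 19, 14, 22]) ≤ Nat.card X :=
  (m12_low0 he h0).card_fix (m12_fix1 he h0)

theorem m12_ub0 {G α : Type*} [Group G] [MulAction G α] {e : ℕ → α} {a : ℕ → G} (he : Set.InjOn e (Set.Iio 24)) (h0 : Tabs e 24 m12_S a 3) (hub : Nat.card (genLt a 3) ≠ 0 ∧ Nat.card (genLt a 3) ≤ 95040) :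
    Nat.card (genLt (m12_g a) 15) ≠ 0 ∧ Nat.card (genLt (m12_g a) 15) ≤ 95040 := by rw [m12_gen]; exact hub

theorem m12_level0 {G α : Type*} [Group G] [MulAction G α] {e : ℕ → α} {a : ℕ → G} (he : Set.InjOn e (Set.Iio 24)) (h0 : Tabs e 24 m12_S a 3) (hub : Nat.card (genLt a 3) ≠ 0 ∧ Nat.card (genLt a 3) ≤ 95040) :
    Level (genLt (m12_g a) 15) (genLt (m12_g a) 10) (e 11) 12 :=
  ((m12_low0 he h0).level (c := 7920) (m12_ub0 he h0 hub) (m12_ge1 he h0)).1

theorem m12_ub1 {G α : Type*} [Group G] [MulAction G α] {e : ℕ → α} {a : ℕ → G} (he : Set.InjOn e (Set.Iio 24)) (h0 : Tabs e 24 m12_S a 3) (hub : Nat.card (genLt a 3) ≠ 0 ∧ Nat.card (genLt a 3) ≤ 95040) :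
    Nat.card (genLt (m12_g a) 10) ≠ 0 ∧ Nat.card (genLt (m12_g a) 10) ≤ 7920 :=
  ((m12_low0 he h0).level (c := 7920) (m12_ub0 he h0 hub) (m12_ge1 he h0)).2

theorem m12_level1 {G α : Type*} [Group G] [MulAction G α] {e : ℕ → α} {a : ℕ → G} (he : Set.InjOn e (Set.Iio 24)) (h0 : Tabs e 24 m12_S a 3) (hub : Nat.card (genLt a 3) ≠ 0 ∧ Nat.card (genLt a 3) ≤ 95040) :
    Level (genLt (m12_g a) 10) (genLt (m12_g a) 8) (e 17) 11 :=
  ((m12_low1 he h0).level (c := 720) (m12_ub1 he h0 hub) (m12_ge2 he h0)).1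

theorem m12_ub2 {G α : Type*} [Group G] [MulAction G α] {e : ℕ → α} {a : ℕ → G} (he : Set.InjOn e (Set.Iio 24)) (h0 : Tabs e 24 m12_S a 3) (hub : Nat.card (genLt a 3) ≠ 0 ∧ Nat.card (genLt a 3) ≤ 95040) :
    Nat.card (genLt (m12_g a) 8) ≠ 0 ∧ Nat.card (genLt (m12_g a) 8) ≤ 720 :=
  ((m12_low1 he h0).level (c := 720) (m12_ub1 he h0 hub) (m12_ge2 he h0)).2

theorem m12_level2 {G α : Type*} [Group G] [MulAction G α] {e : ℕ → α} {a : ℕ → G} (he : Set.InjOn e (Set.Iio 24)) (h0 : Tabs e 24 m12_S a 3) (hub : Nat.card (genLt a 3) ≠ 0 ∧ Nat.card (genLt a 3) ≤ 95040) :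
    Level (genLt (m12_g a) 8) (genLt (m12_g a) 6) (e 19) 10 :=
  ((m12_low2 he h0).level (c := 72) (m12_ub2 he h0 hub) (m12_ge3 he h0)).1

theorem m12_ub3 {G α : Type*} [Group G] [MulAction G α] {e : ℕ → α} {a : ℕ → G} (he : Set.InjOn e (Set.Iio 24)) (h0 : Tabs e 24 m12_S a 3) (hub : Nat.card (genLt a 3) ≠ 0 ∧ Nat.card (genLt a 3) ≤ 95040) :
    Nat.card (genLt (m12_g a) 6) ≠ 0 ∧ Nat.card (genLt (m12_g a) 6) ≤ 72 :=
  ((m12_low2 he h0).level (c := 72) (m12_ub2 he h0 hub) (m12_ge3 he h0)).2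

theorem m12_level3 {G α : Type*} [Group G] [MulAction G α] {e : ℕ → α} {a : ℕ → G} (he : Set.InjOn e (Set.Iio 24)) (h0 : Tabs e 24 m12_S a 3) (hub : Nat.card (genLt a 3) ≠ 0 ∧ Nat.card (genLt a 3) ≤ 95040) :
    Level (genLt (m12_g a) 6) (genLt (m12_g a) 4) (e 14) 9 :=
  ((m12_low3 he h0).level (c := 8) (m12_ub3 he h0 hub) (m12_ge4 he h0)).1

theorem m12_ub4 {G α : Type*} [Group G] [MulAction G α] {e : ℕ → α} {a : ℕ → G} (he : Set.InjOn e (Set.Iio 24)) (h0 : Tabs e 24 m12_S a 3) (hub : Nat.card (genLt a 3) ≠ 0 ∧ Nat.card (genLt a 3) ≤ 95040) :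
    Nat.card (genLt (m12_g a) 4) ≠ 0 ∧ Nat.card (genLt (m12_g a) 4) ≤ 8 :=
  ((m12_low3 he h0).level (c := 8) (m12_ub3 he h0 hub) (m12_ge4 he h0)).2

theorem m12_level4 {G α : Type*} [Group G] [MulAction G α] {e : ℕ → α} {a : ℕ → G} (he : Set.InjOn e (Set.Iio 24)) (h0 : Tabs e 24 m12_S a 3) (hub : Nat.card (genLt a 3) ≠ 0 ∧ Nat.card (genLt a 3) ≤ 95040) :
    Level (genLt (m12_g a) 4) (genLt (m12_g a) 0) (e 22) 8 :=
  ((m12_low4 he h0).level (c := 1) (m12_ub4 he h0 hub) (one_le_card_fin _)).1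

theorem m12_card4 {G α : Type*} [Group G] [MulAction G α] {e : ℕ → α} {a : ℕ → G} (he : Set.InjOn e (Set.Iio 24)) (h0 : Tabs e 24 m12_S a 3) (hub : Nat.card (genLt a 3) ≠ 0 ∧ Nat.card (genLt a 3) ≤ 95040) :
    Nat.card (genLt (m12_g a) 4) = 8 :=
  (m12_level4 he h0 hub).card (card_genLt_zero _)

theorem m12_base4 {G α : Type*} [Group G] [MulAction G α] {e : ℕ → α} {a : ℕ → G} (he : Set.InjOn e (Set.Iio 24)) (h0 : Tabs e 24 m12_S a 3) (hub : Nat.card (genLt a 3) ≠ 0 ∧ Nat.card (genLt a 3) ≤ 95040) :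
    IsBase e (genLt (m12_g a) 4) [22] :=
  (m12_level4 he h0 hub).base (isBase_genLt_zero _ _)

theorem m12_card3 {G α : Type*} [Group G] [MulAction G α] {e : ℕ → α} {a : ℕ → G} (he : Set.InjOn e (Set.Iio 24)) (h0 : Tabs e 24 m12_S a 3) (hub : Nat.card (genLt a 3) ≠ 0 ∧ Nat.card (genLt a 3) ≤ 95040) :
    Nat.card (genLt (m12_g a) 6) = 72 :=
  (m12_level3 he h0 hub).card (m12_card4 he h0 hub)

theorem m12_base3 {G α : Type*} [Group G] [MulAction G α] {e : ℕ → α} {a : ℕ → G} (he : Set.InjOn e (Set.Iio 24)) (h0 : Tabs e 24 m12_S a 3) (hub : Nat.card (genLt a 3) ≠ 0 ∧ Nat.card (genLt a 3) ≤ 95040) :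
    IsBase e (genLt (m12_g a) 6) [14, 22] :=
  (m12_level3 he h0 hub).base (m12_base4 he h0 hub)

theorem m12_card2 {G α : Type*} [Group G] [MulAction G α] {e : ℕ → α} {a : ℕ → G} (he : Set.InjOn e (Set.Iio 24)) (h0 : Tabs e 24 m12_S a 3) (hub : Nat.card (genLt a 3) ≠ 0 ∧ Nat.card (genLt a 3) ≤ 95040) :
    Nat.card (genLt (m12_g a) 8) = 720 :=
  (m12_level2 he h0 hub).card (m12_card3 he h0 hub)

theorem m12_base2 {G α : Type*} [Group G] [MulAction G α] {e : ℕ → α} {a : ℕ → G} (he : Set.InjOn e (Set.Iio 24)) (h0 : Tabs e 24 m12_S a 3) (hub : Nat.card (genLt a 3) ≠ 0 ∧ Nat.card (genLt a 3) ≤ 95040) :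
    IsBase e (genLt (m12_g a) 8) [19, 14, 22] :=
  (m12_level2 he h0 hub).base (m12_base3 he h0 hub)

theorem m12_card1 {G α : Type*} [Group G] [MulAction G α] {e : ℕ → α} {a : ℕ → G} (he : Set.InjOn e (Set.Iio 24)) (h0 : Tabs e 24 m12_S a 3) (hub : Nat.card (genLt a 3) ≠ 0 ∧ Nat.card (genLt a 3) ≤ 95040) :
    Nat.card (genLt (m12_g a) 10) = 7920 :=
  (m12_level1 he h0 hub).card (m12_card2 he h0 hub)

theorem m12_base1 {G α : Type*} [Group G] [MulAction G α] {e : ℕ → α} {a : ℕ → G} (he : Set.InjOn e (Set.Iio 24)) (h0 : Tabs e 24 m12_S a 3) (hub : Nat.card (genLt a 3) ≠ 0 ∧ Nat.card (genLt a 3) ≤ 95040) :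
    IsBase e (genLt (m12_g a) 10) [17, 19, 14, 22] :=
  (m12_level1 he h0 hub).base (m12_base2 he h0 hub)

theorem m12_card0 {G α : Type*} [Group G] [MulAction G α] {e : ℕ → α} {a : ℕ → G} (he : Set.InjOn e (Set.Iio 24)) (h0 : Tabs e 24 m12_S a 3) (hub : Nat.card (genLt a 3) ≠ 0 ∧ Nat.card (genLt a 3) ≤ 95040) :
    Nat.card (genLt (m12_g a) 15) = 95040 :=
  (m12_level0 he h0 hub).card (m12_card1 he h0 hub)

theorem m12_base0 {G α : Type*} [Group G] [MulAction G α] {e : ℕ → α} {a : ℕ → G} (he : Set.InjOn e (Set.Iio 24)) (h0 : Tabs e 24 m12_S a 3) (hub : Nat.card (genLt a 3) ≠ 0 ∧ Nat.card (genLt a 3) ≤ 95040) :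
    IsBase e (genLt (m12_g a) 15) [11, 17, 19, 14, 22] :=
  (m12_level0 he h0 hub).base (m12_base1 he h0 hub)

theorem m12_hinv {G α : Type*} [Group G] [MulAction G α] {e : ℕ → α} {a : ℕ → G} (he : Set.InjOn e (Set.Iio 24)) (h0 : Tabs e 24 m12_S a 3) (hub : Nat.card (genLt a 3) ≠ 0 ∧ Nat.card (genLt a 3) ≤ 95040) : ∀ x < 15, m12_g a x * m12_g a (m12_inv x) = 1 :=
  (m12_tabs h0).hinv_of_base (m12_base0 he h0 hub) (by decide +kernel)

theorem m12_card {G α : Type*} [Group G] [MulAction G α] {e : ℕ → α} {a : ℕ → G} (he : Set.InjOn e (Set.Iio 24)) (h0 : Tabs e 24 m12_S a 3) (hub : Nat.card (genLt a 3) ≠ 0 ∧ Nat.card (genLt a 3) ≤ 95040) :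
    Nat.card (genLt a 3) = 95040 := by
  rw [← m12_gen]; exact m12_card0 he h0 hub

end Cfsg.Agent.Spor.OutC
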