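import Mathlib
import Cfsg.Agent.Spor.Out.M12Ch
import Cfsg.Agent.Spor.Out.Gen
import Cfsg.Agent.Spor.Blocks

/-! Generated by tools/h59/outgen.py: outer automorphisms, m12 -/

set_option autoImplicit false
set_option maxRecDepth 100000
set_option linter.unusedVariables false
set_option exponentiation.threshold 100000

namespace Cfsg.Agent.Spor.OutC

open Cfsg.Agent.Spor

noncomputable def m12_la : Lv := ⟨m12_E (nat_lit 0), nat_lit 11, nat_lit 5, true, nat_lit 0, [], []⟩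

noncomputable def m12_La : List Lv :=
  [⟨m12_E (nat_lit 1), nat_lit 17, nat_lit 17, false, nat_lit 0, [nat_lit 0], []⟩,
   ⟨m12_E (nat_lit 2), nat_lit 19, nat_lit 20, false, nat_lit 0, [nat_lit 0], []⟩,
   ⟨m12_E (nat_lit 3), nat_lit 14, nat_lit 19, false, nat_lit 0, [nat_lit 0], []⟩,
   ⟨m12_E (nat_lit 4), nat_lit 22, nat_lit 11, false, nat_lit 0, [nat_lit 0], []⟩]

noncomputable def m12_lb : Lv := ⟨m12_E (nat_lit 0), nat_lit 11, nat_lit 11, true, nat_lit 0, [], []⟩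

noncomputable def m12_Lb : List Lv :=
  [⟨m12_E (nat_lit 1), nat_lit 17, nat_lit 17, false, nat_lit 0, [nat_lit 0], []⟩,
   ⟨m12_E (nat_lit 2), nat_lit 19, nat_lit 19, false, nat_lit 0, [nat_lit 0], []⟩,
   ⟨m12_E (nat_lit 3), nat_lit 14, nat_lit 14, false, nat_lit 0, [nat_lit 0], []⟩,
   ⟨m12_E (nat_lit 4), nat_lit 22, nat_lit 22, false, nat_lit 0, [nat_lit 0], []⟩]

def m12_h : List ℕ := [nat_lit 1,nat_lit 1,nat_lit 5,nat_lit 1,nat_lit 6,nat_lit 9,nat_lit 9,nat_lit 11,nat_lit 4]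

def m12_Z : List ℕ := [nat_lit 14]

def m12_Rels : List (ℕ × List ℕ × List ℕ) :=
  [(nat_lit 2, [nat_lit 2], []),
   (nat_lit 6, [nat_lit 0,nat_lit 1,nat_lit 2], [])]

def m12_Z' : List ℕ := [nat_lit 14]

def m12_P : ℕ → ℕ := getP (nat_lit 5) (nat_lit 31) (nat_lit 0x1218d24e0b1c8ea49ace0d0117d6e5)

def m12_Q : ℕ → ℕ := getP (nat_lit 5) (nat_lit 31) (nat_lit 0xa446938911a295831766a8137dce5)

noncomputable def m12_lc : Lv := ⟨m12_E (nat_lit 0), nat_lit 11, nat_lit 5, true, nat_lit 0, [], [nat_lit 1]⟩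

noncomputable def m12_Lc : List Lv :=
  [⟨m12_E (nat_lit 1), nat_lit 17, nat_lit 17, false, nat_lit 0, [nat_lit 0], []⟩,
   ⟨m12_E (nat_lit 2), nat_lit 19, nat_lit 20, false, nat_lit 0, [nat_lit 0], []⟩,
   ⟨m12_E (nat_lit 3), nat_lit 14, nat_lit 19, false, nat_lit 0, [nat_lit 0], []⟩,
   ⟨m12_E (nat_lit 4), nat_lit 22, nat_lit 11, false, nat_lit 0, [nat_lit 0], []⟩]

theorem m12_s1_0 : allRange (nat_lit 0) (nat_lit 24) (siftTop m12_T m12_S m12_inv (nat_lit 24) m12_h (acc1 m12_T m12_S [nat_lit 11,nat_lit 17,nat_lit 19,nat_lit 14,nat_lit 22] (nat_lit 11)) m12_la m12_La) = true := by decide +kernel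

theorem m12_s3_0 : allRange (nat_lit 0) (nat_lit 24) (siftTop m12_T (tri (iterF (m12_S 0) (nat_lit 2)) (m12_S 1) (traceP m12_T m12_Z')) m12_inv (nat_lit 24) m12_h (acc3 m12_T m12_S (tri (iterF (m12_S 0) (nat_lit 2)) (m12_S 1) (traceP m12_T m12_Z')) [nat_lit 11,nat_lit 17,nat_lit 19,nat_lit 14,nat_lit 22]) m12_lc m12_Lc) = true := by decide +kernel

theorem m12_p_0 : allRange (nat_lit 0) (nat_lit 24) ((fun i => force (m12_P i) fun p => band (blt p (nat_lit 24)) (allLt 3 fun x => band (blt (m12_S x i) (nat_lit 24)) (Nat.beq ((tri (iterF (m12_S 0) (nat_lit 2)) (m12_S 1) (traceP m12_T m12_Z')) x p) (m12_P (m12_S x i)))))) = true := by decide +kernel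

theorem m12_s2_0 : allRange (nat_lit 0) (nat_lit 24) (siftTop m12_T (fun _ => iterF (m12_S 1) (nat_lit 1)) m12_inv (nat_lit 24) [] (acc2 m12_T m12_S [nat_lit 11,nat_lit 17,nat_lit 19,nat_lit 14,nat_lit 22] [nat_lit 1,nat_lit 2] m12_Rels [(1, m12_Z), (nat_lit 2, m12_Z')]) m12_lb m12_Lb) = true := by decide +kernel

theorem m12_hub {G : Type*} [Group G] (y : ℕ → G) (hc : Nat.card G = 95040) :
    Nat.card (genLt y 3) ≠ 0 ∧ Nat.card (genLt y 3) ≤ 95040 :=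
  card_genLt_le (K := ⊤) (fun _ _ => trivial) (Subgroup.card_top.trans hc)

theorem m12_model {G α : Type*} [Group G] [MulAction G α] {e : ℕ → α} {y : ℕ → G} (he : Set.InjOn e (Set.Iio 24)) (h0 : Tabs e 24 m12_S y 3) (hc : Nat.card G = 95040) :
    OutModel e 24 m12_T m12_S (m12_g y) y 15 m12_inv [nat_lit 11,nat_lit 17,nat_lit 19,nat_lit 14,nat_lit 22] 95040 :=
  have h1 := genLt_eq_of_card (K := ⊤) (fun _ _ => trivial) (Subgroup.card_top.trans hc) (m12_card he h0 (m12_hub y hc))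
  ⟨(m12_tabs h0).sifter he (m12_hinv he h0 (m12_hub y hc)) (m12_base0 he h0 (m12_hub y hc)) (by decide +kernel),
    (m12_gen y).trans h1, h0, h1, hc⟩

theorem m12_sl0 {G α : Type*} [Group G] [MulAction G α] {e : ℕ → α} {y : ℕ → G} (he : Set.InjOn e (Set.Iio 24)) (h0 : Tabs e 24 m12_S y 3) (hc : Nat.card G = 95040) :
    SLev e 24 m12_T (m12_g y) (m12_E (nat_lit 0)) 15 10 11 :=
  (m12_tabs h0).sLev he (m12_level0 he h0 (m12_hub y hc)) m12_L0_o

theorem m12_sl1 {G α : Type*} [Group G] [MulAction G α] {e : ℕ → α} {y : ℕ → G} (he : Set.InjOn e (Set.Iio 24)) (h0 : Tabs e 24 m12_S y 3) (hc : Nat.card G = 95040) :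
    SLev e 24 m12_T (m12_g y) (m12_E (nat_lit 1)) 10 8 17 :=
  (m12_tabs h0).sLev he (m12_level1 he h0 (m12_hub y hc)) m12_L1_o

theorem m12_sl2 {G α : Type*} [Group G] [MulAction G α] {e : ℕ → α} {y : ℕ → G} (he : Set.InjOn e (Set.Iio 24)) (h0 : Tabs e 24 m12_S y 3) (hc : Nat.card G = 95040) :
    SLev e 24 m12_T (m12_g y) (m12_E (nat_lit 2)) 8 6 19 :=
  (m12_tabs h0).sLev he (m12_level2 he h0 (m12_hub y hc)) m12_L2_o

theorem m12_sl3 {G α : Type*} [Group G] [MulAction G α] {e : ℕ → α} {y : ℕ → G} (he : Set.InjOn e (Set.Iio 24)) (h0 : Tabs e 24 m12_S y 3) (hc : Nat.card G = 95040) :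
    SLev e 24 m12_T (m12_g y) (m12_E (nat_lit 3)) 6 4 14 :=
  (m12_tabs h0).sLev he (m12_level3 he h0 (m12_hub y hc)) m12_L3_o

theorem m12_sl4 {G α : Type*} [Group G] [MulAction G α] {e : ℕ → α} {y : ℕ → G} (he : Set.InjOn e (Set.Iio 24)) (h0 : Tabs e 24 m12_S y 3) (hc : Nat.card G = 95040) :
    SLev e 24 m12_T (m12_g y) (m12_E (nat_lit 4)) 4 0 22 :=
  (m12_tabs h0).sLev he (m12_level4 he h0 (m12_hub y hc)) m12_L4_o

theorem m12_cha {G α : Type*} [Group G] [MulAction G α] {e : ℕ → α} {y : ℕ → G} (he : Set.InjOn e (Set.Iio 24)) (h0 : Tabs e 24 m12_S y 3) (hc : Nat.card G = 95040) :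
    ChainOK e 24 m12_T (m12_g y) (m12_la :: m12_La) 15 :=
  ⟨_, m12_sl0 he h0 hc, _, m12_sl1 he h0 hc, _, m12_sl2 he h0 hc, _, m12_sl3 he h0 hc, _, m12_sl4 he h0 hc, rfl⟩

theorem m12_chb {G α : Type*} [Group G] [MulAction G α] {e : ℕ → α} {y : ℕ → G} (he : Set.InjOn e (Set.Iio 24)) (h0 : Tabs e 24 m12_S y 3) (hc : Nat.card G = 95040) :
    ChainOK e 24 m12_T (m12_g y) (m12_lb :: m12_Lb) 15 :=
  ⟨_, m12_sl0 he h0 hc, _, m12_sl1 he h0 hc, _, m12_sl2 he h0 hc, _, m12_sl3 he h0 hc, _, m12_sl4 he h0 hc, rfl⟩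

theorem m12_s1 : ∀ q < 24, siftTop m12_T m12_S m12_inv (nat_lit 24) m12_h (acc1 m12_T m12_S [nat_lit 11,nat_lit 17,nat_lit 19,nat_lit 14,nat_lit 22] (nat_lit 11)) m12_la m12_La q = true :=
  allRange_zero m12_s1_0

theorem m12_chc {G α : Type*} [Group G] [MulAction G α] {e : ℕ → α} {y : ℕ → G} (he : Set.InjOn e (Set.Iio 24)) (h0 : Tabs e 24 m12_S y 3) (hc : Nat.card G = 95040) :
    ChainOK e 24 m12_T (m12_g y) (m12_lc :: m12_Lc) 15 :=
  ⟨_, m12_sl0 he h0 hc, _, m12_sl1 he h0 hc, _, m12_sl2 he h0 hc, _, m12_sl3 he h0 hc, _, m12_sl4 he h0 hc, rfl⟩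

theorem m12_s3 : ∀ q < 24, siftTop m12_T (tri (iterF (m12_S 0) (nat_lit 2)) (m12_S 1) (traceP m12_T m12_Z')) m12_inv (nat_lit 24) m12_h (acc3 m12_T m12_S (tri (iterF (m12_S 0) (nat_lit 2)) (m12_S 1) (traceP m12_T m12_Z')) [nat_lit 11,nat_lit 17,nat_lit 19,nat_lit 14,nat_lit 22]) m12_lc m12_Lc q = true :=
  allRange_zero m12_s3_0

theorem m12_p : ∀ q < 24, (fun i => force (m12_P i) fun p => band (blt p (nat_lit 24)) (allLt 3 fun x => band (blt (m12_S x i) (nat_lit 24)) (Nat.beq ((tri (iterF (m12_S 0) (nat_lit 2)) (m12_S 1) (traceP m12_T m12_Z')) x p) (m12_P (m12_S x i))))) q = true :=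
  allRange_zero m12_p_0

theorem m12_s2 : ∀ q < 24, siftTop m12_T (fun _ => iterF (m12_S 1) (nat_lit 1)) m12_inv (nat_lit 24) [] (acc2 m12_T m12_S [nat_lit 11,nat_lit 17,nat_lit 19,nat_lit 14,nat_lit 22] [nat_lit 1,nat_lit 2] m12_Rels [(1, m12_Z), (nat_lit 2, m12_Z')]) m12_lb m12_Lb q = true :=
  allRange_zero m12_s2_0

theorem m12_out {G α : Type*} [Group G] [MulAction G α] {e : ℕ → α} {y : ℕ → G} (he : Set.InjOn e (Set.Iio 24)) (h0 : Tabs e 24 m12_S y 3) (hc : Nat.card G = 95040) : Nat.card (Out G) = 2 :=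
  have hZ : lettersLt 15 m12_Z' = true := by decide +kernel
  (m12_model he h0 hc).card_out_two (by decide +kernel) hZ
    ((m12_model he h0 hc).aut_cases (p := nat_lit 11) (κ := 3) (a := nat_lit 1) (by norm_num) (by decide +kernel)
      ((m12_model he h0 hc).centralizer (m12_cha he h0 hc) (by decide +kernel) m12_s1)
      (m12_chb he h0 hc) (by decide +kernel) m12_s2)
    ((m12_model he h0 hc).exists_aut (by decide)
      (tabs_tri ((h0 0 (by decide)).iterF _) (h0 1 (by decide)) ((m12_tabs h0).evalW hZ)) (Q := m12_Q)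
      (allRange_of_forall fun i _ hi => m12_p i (by omega)) (by decide +kernel) (by decide +kernel))
    (m12_chc he h0 hc) (by decide +kernel) m12_s3

end Cfsg.Agent.Spor.OutC
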