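import Mathlib
import Cfsg.Agent.Spor.Comp.Pres

/-! Generated by tools/pg: stabiliser chain m22 -/

set_option autoImplicit false
set_option maxRecDepth 100000
set_option linter.unusedVariables false
set_option exponentiation.threshold 100000

namespace Cfsg.Agent.Spor.OutC

open Cfsg.Agent.Spor

noncomputable def m22_S_t0 : BT :=
(.node (.node (.node (.node (.leaf (nat_lit 0xb8650639132a6b61b62453d62a1cc0))
 (.leaf (nat_lit 0xbd98d1293009a955ca28238a71cde0))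
) (.node (.leaf (nat_lit 0xbc14fb3934991051c9a23acd564420))
 (.leaf (nat_lit 0xbb6249d6474a1965c0a2519e11ba80))
)) (.node (.node (.leaf (nat_lit 0xb92d55411274c462bd2d0ad941c4e0))
 (.leaf (nat_lit 0xbaa2769aa925a905a0ae9c982185e0))
) (.node (.leaf (nat_lit 0xb98415c94f81dac9c509758a41d680))
 (.leaf (nat_lit 0xbc24d7c6a84d1c159276618a21a8e0))
))) (.node (.node (.node (.leaf (nat_lit 0xbcc907a856a49233562d3958e5a020))
 (.leaf (nat_lit 0xbba2d39aac0a2655da0aa492f19040))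
) (.node (.leaf (nat_lit 0xbd6847405253d0534d310b1761b4e0))
 (.leaf (nat_lit 0xbb2419c6aa28acd59dee819341a080))
)) (.node (.node (.leaf (nat_lit 0xbb1a3855343495329dd1105e8592c0))
 (.leaf (nat_lit 0xbd2b644a24509275bdb3618301b8a0))
) (.node (.leaf (nat_lit 0xb86a584a33635cf59c4451a881a6c0))
 (.leaf (nat_lit 0xba22e4d6569b687589f0098aa19180))
))))

noncomputable def m22_S_t : BT :=
m22_S_t0

noncomputable def m22_S : ℕ → ℕ → ℕ := fun x i => Nat.land (Nat.shiftRight (BT.get m22_S_t x) (Nat.mul (nat_lit 5) i)) (nat_lit 31)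

noncomputable def m22_defs : LT :=
(.node (.node (.node (.node (.leaf [nat_lit 0])
 (.leaf [nat_lit 0,nat_lit 5,nat_lit 6,nat_lit 2])
) (.node (.leaf [nat_lit 1,nat_lit 1])
 (.leaf [nat_lit 0,nat_lit 8,nat_lit 10,nat_lit 7,nat_lit 8,nat_lit 7,nat_lit 8,nat_lit 9])
)) (.node (.node (.leaf [nat_lit 0])
 (.leaf [nat_lit 1,nat_lit 9])
) (.node (.leaf [nat_lit 0,nat_lit 3,nat_lit 3,nat_lit 2,nat_lit 2,nat_lit 0,nat_lit 0])
 (.leaf [nat_lit 0,nat_lit 11,nat_lit 13,nat_lit 7])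
))) (.node (.node (.node (.leaf [nat_lit 0])
 (.leaf [nat_lit 0,nat_lit 6,nat_lit 5,nat_lit 6,nat_lit 5,nat_lit 6,nat_lit 5,nat_lit 6,nat_lit 2,nat_lit 6,nat_lit 2,nat_lit 6])
) (.node (.leaf [nat_lit 1,nat_lit 2])
 (.leaf [nat_lit 1,nat_lit 12])
)) (.node (.node (.leaf [nat_lit 1,nat_lit 0])
 (.leaf [nat_lit 0,nat_lit 10,nat_lit 7,nat_lit 9])
) (.node (.leaf [nat_lit 0,nat_lit 2,nat_lit 2,nat_lit 6,nat_lit 5,nat_lit 5])
 (.leaf [nat_lit 1,nat_lit 14])
))))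
noncomputable def m22_iota : ℕ → ℕ := getP (nat_lit 8) (nat_lit 255) (nat_lit 0x502040103000608070b0f0e)
noncomputable def m22_inv : ℕ → ℕ := getP (nat_lit 8) (nat_lit 255) (nat_lit 0xa0b08090607050403020001)
noncomputable def m22_hws : LT := .leaf []

noncomputable def m22_T_t0 : BT :=
(.node (.node (.node (.node (.leaf (nat_lit 0xbc24d7c6a84d1c159276618a21a8e0))
 (.leaf (nat_lit 0xbcc907a856a49233562d3958e5a020))
) (.leaf (nat_lit 0xbd98d1293009a955ca28238a71cde0))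
) (.node (.node (.leaf (nat_lit 0xbd2b644a24509275bdb3618301b8a0))
 (.leaf (nat_lit 0xb92d55411274c462bd2d0ad941c4e0))
) (.leaf (nat_lit 0xb8650639132a6b61b62453d62a1cc0))
)) (.node (.node (.node (.leaf (nat_lit 0xba22e4d6569b687589f0098aa19180))
 (.leaf (nat_lit 0xbc14fb3934991051c9a23acd564420))
) (.leaf (nat_lit 0xb98415c94f81dac9c509758a41d680))
) (.node (.node (.leaf (nat_lit 0xb86a584a33635cf59c4451a881a6c0))
 (.leaf (nat_lit 0xbd6847405253d0534d310b1761b4e0))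
) (.leaf (nat_lit 0xbb1a3855343495329dd1105e8592c0))
)))

noncomputable def m22_T_t : BT :=
m22_T_t0

noncomputable def m22_T : ℕ → ℕ → ℕ := fun x i => Nat.land (Nat.shiftRight (BT.get m22_T_t x) (Nat.mul (nat_lit 5) i)) (nat_lit 31)

noncomputable def m22_E_t0 : BT :=
(.node (.node (.node (.leaf (nat_lit 0xc0985a0760b01a00307610c0180a0840d01a01408600c2581b0a20102d82800))
 (.leaf (nat_lit 0x100000000000004000000000000000100800))
) (.leaf (nat_lit 0x100b00b0180941282501a008118060000100601500a0640201c00000c0a81800))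
) (.node (.leaf (nat_lit 0x100602d0540b4120230360300a0140320100980302a0741681403000c1202000))
 (.leaf (nat_lit 0xc0c00203a0000000401806c0180b0000100e014006020008050100100901000))
))

noncomputable def m22_E_t : BT :=
m22_E_t0

noncomputable def m22_E : ℕ → ℕ → ℕ := fun x i => Nat.land (Nat.shiftRight (BT.get m22_E_t x) (Nat.mul (nat_lit 11) i)) (nat_lit 2047)

theorem m22_slp0 : allLt (nat_lit 13) (fun i => force (Nat.add (nat_lit 3) i) (slpOK m22_S m22_defs (nat_lit 24))) = true := by decide +kernel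

theorem m22_ren : allLt (nat_lit 12) (fun x => force (m22_iota x) fun y => band (blt y (nat_lit 16)) (allRange (nat_lit 0) (nat_lit 24) fun i => Nat.beq (m22_S y i) (m22_T x i))) = true := by decide +kernel

theorem m22_L4_o : band (allRange (nat_lit 0) (nat_lit 24) (orbOK m22_T (nat_lit 2) (m22_E (nat_lit 4)) (Nat.beq (nat_lit 12)))) (band (Nat.ble (nat_lit 3) (count2 (nat_lit 24) fun p => Nat.ble 256 (m22_E (nat_lit 4) p))) (allLt (nat_lit 0) (fun x => Nat.beq (m22_T x (nat_lit 12)) (nat_lit 12)))) = true := by decide +kernel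

theorem m22_L3_o : band (allRange (nat_lit 0) (nat_lit 24) (orbOK m22_T (nat_lit 4) (m22_E (nat_lit 3)) (Nat.beq (nat_lit 5)))) (band (Nat.ble (nat_lit 16) (count2 (nat_lit 24) fun p => Nat.ble 256 (m22_E (nat_lit 3) p))) (allLt (nat_lit 2) (fun x => Nat.beq (m22_T x (nat_lit 5)) (nat_lit 5)))) = true := by decide +kernel

theorem m22_L2_o : band (allRange (nat_lit 0) (nat_lit 24) (orbOK m22_T (nat_lit 5) (m22_E (nat_lit 2)) (Nat.beq (nat_lit 6)))) (band (Nat.ble (nat_lit 20) (count2 (nat_lit 24) fun p => Nat.ble 256 (m22_E (nat_lit 2) p))) (allLt (nat_lit 4) (fun x => Nat.beq (m22_T x (nat_lit 6)) (nat_lit 6)))) = true := by decide +kernel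

theorem m22_L1_o : band (allRange (nat_lit 0) (nat_lit 24) (orbOK m22_T (nat_lit 6) (m22_E (nat_lit 1)) (Nat.beq (nat_lit 11)))) (band (Nat.ble (nat_lit 21) (count2 (nat_lit 24) fun p => Nat.ble 256 (m22_E (nat_lit 1) p))) (allLt (nat_lit 5) (fun x => Nat.beq (m22_T x (nat_lit 11)) (nat_lit 11)))) = true := by decide +kernel

theorem m22_L0_o : band (allRange (nat_lit 0) (nat_lit 24) (orbOK m22_T (nat_lit 12) (m22_E (nat_lit 0)) (Nat.beq (nat_lit 3)))) (band (Nat.ble (nat_lit 22) (count2 (nat_lit 24) fun p => Nat.ble 256 (m22_E (nat_lit 0) p))) (allLt (nat_lit 6) (fun x => Nat.beq (m22_T x (nat_lit 3)) (nat_lit 3)))) = true := by decide +kernel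

/-- The letters: a strong generating set, deepest stabiliser first. -/
noncomputable def m22_g {G : Type*} [Group G] (a : ℕ → G) : ℕ → G := fun x => slp a 3 m22_defs (m22_iota x)

theorem m22_tabs {G α : Type*} [Group G] [MulAction G α] {e : ℕ → α} {a : ℕ → G} (h0 : Tabs e 24 m22_S a 3) : Tabs e 24 m22_T (m22_g a) 12 :=
  Tabs.rename (ι := m22_iota) (g := slp a 3 m22_defs) ((Tabs.slp_base m22_defs h0).slp_add (by decide) _ m22_slp0) m22_ren

theorem m22_gen {G : Type*} [Group G] (a : ℕ → G) : genLt (m22_g a) 12 = genLt a 3 :=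
  genLt_slp_eq a m22_defs (back := getP 8 255 (nat_lit 0xa0806)) (by decide +kernel)

theorem m22_low4 {G α : Type*} [Group G] [MulAction G α] {e : ℕ → α} {a : ℕ → G} (he : Set.InjOn e (Set.Iio 24)) (h0 : Tabs e 24 m22_S a 3) :
    LowLevel (genLt (m22_g a) 2) (genLt (m22_g a) 0) (e 12) 3 :=
  Tabs.lowLevel (m22_tabs h0) he (by decide) (by decide) (by decide) m22_L4_o

theorem m22_ge4 {G α : Type*} [Group G] [MulAction G α] {e : ℕ → α} {a : ℕ → G} (he : Set.InjOn e (Set.Iio 24)) (h0 : Tabs e 24 m22_S a 3) :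
    Finite (genLt (m22_g a) 2) → 3 ≤ Nat.card (genLt (m22_g a) 2) := fun hK =>
  (m22_low4 he h0).card hK (one_le_card_fin _)

theorem m22_fix4 {G α : Type*} [Group G] [MulAction G α] {e : ℕ → α} {a : ℕ → G} (he : Set.InjOn e (Set.Iio 24)) (h0 : Tabs e 24 m22_S a 3) :
    ∀ X : Subgroup G, Finite X → (genLt (m22_g a) 2) ≤ X → 3 * Nat.card (fixB e X [12]) ≤ Nat.card X :=
  (m22_low4 he h0).card_fix (card_fix_nil _ _)

theorem m22_low3 {G α : Type*} [Group G] [MulAction G α] {e : ℕ → α} {a : ℕ → G} (he : Set.InjOn e (Set.Iio 24)) (h0 : Tabs e 24 m22_S a 3) :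
    LowLevel (genLt (m22_g a) 4) (genLt (m22_g a) 2) (e 5) 16 :=
  Tabs.lowLevel (m22_tabs h0) he (by decide) (by decide) (by decide) m22_L3_o

theorem m22_ge3 {G α : Type*} [Group G] [MulAction G α] {e : ℕ → α} {a : ℕ → G} (he : Set.InjOn e (Set.Iio 24)) (h0 : Tabs e 24 m22_S a 3) :
    Finite (genLt (m22_g a) 4) → 48 ≤ Nat.card (genLt (m22_g a) 4) := fun hK =>
  (m22_low3 he h0).card hK (m22_ge4 he h0)

theorem m22_fix3 {G α : Type*} [Group G] [MulAction G α] {e : ℕ → α} {a : ℕ → G} (he : Set.InjOn e (Set.Iio 24)) (h0 : Tabs e 24 m22_S a 3) :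
    ∀ X : Subgroup G, Finite X → (genLt (m22_g a) 4) ≤ X → 48 * Nat.card (fixB e X [5, 12]) ≤ Nat.card X :=
  (m22_low3 he h0).card_fix (m22_fix4 he h0)

theorem m22_low2 {G α : Type*} [Group G] [MulAction G α] {e : ℕ → α} {a : ℕ → G} (he : Set.InjOn e (Set.Iio 24)) (h0 : Tabs e 24 m22_S a 3) :
    LowLevel (genLt (m22_g a) 5) (genLt (m22_g a) 4) (e 6) 20 :=
  Tabs.lowLevel (m22_tabs h0) he (by decide) (by decide) (by decide) m22_L2_o

theorem m22_ge2 {G α : Type*} [Group G] [MulAction G α] {e : ℕ → α} {a : ℕ → G} (he : Set.InjOn e (Set.Iio 24)) (h0 : Tabs e 24 m22_S a 3) :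
    Finite (genLt (m22_g a) 5) → 960 ≤ Nat.card (genLt (m22_g a) 5) := fun hK =>
  (m22_low2 he h0).card hK (m22_ge3 he h0)

theorem m22_fix2 {G α : Type*} [Group G] [MulAction G α] {e : ℕ → α} {a : ℕ → G} (he : Set.InjOn e (Set.Iio 24)) (h0 : Tabs e 24 m22_S a 3) :
    ∀ X : Subgroup G, Finite X → (genLt (m22_g a) 5) ≤ X → 960 * Nat.card (fixB e X [6, 5, 12]) ≤ Nat.card X :=
  (m22_low2 he h0).card_fix (m22_fix3 he h0)

theorem m22_low1 {G α : Type*} [Group G] [MulAction G α] {e : ℕ → α} {a : ℕ → G} (he : Set.InjOn e (Set.Iio 24)) (h0 : Tabs e 24 m22_S a 3) :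
    LowLevel (genLt (m22_g a) 6) (genLt (m22_g a) 5) (e 11) 21 :=
  Tabs.lowLevel (m22_tabs h0) he (by decide) (by decide) (by decide) m22_L1_o

theorem m22_ge1 {G α : Type*} [Group G] [MulAction G α] {e : ℕ → α} {a : ℕ → G} (he : Set.InjOn e (Set.Iio 24)) (h0 : Tabs e 24 m22_S a 3) :
    Finite (genLt (m22_g a) 6) → 20160 ≤ Nat.card (genLt (m22_g a) 6) := fun hK =>
  (m22_low1 he h0).card hK (m22_ge2 he h0)

theorem m22_fix1 {G α : Type*} [Group G] [MulAction G α] {e : ℕ → α} {a : ℕ → G} (he : Set.InjOn e (Set.Iio 24)) (h0 : Tabs e 24 m22_S a 3) :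
    ∀ X : Subgroup G, Finite X → (genLt (m22_g a) 6) ≤ X → 20160 * Nat.card (fixB e X [11, 6, 5, 12]) ≤ Nat.card X :=
  (m22_low1 he h0).card_fix (m22_fix2 he h0)

theorem m22_low0 {G α : Type*} [Group G] [MulAction G α] {e : ℕ → α} {a : ℕ → G} (he : Set.InjOn e (Set.Iio 24)) (h0 : Tabs e 24 m22_S a 3) :
    LowLevel (genLt (m22_g a) 12) (genLt (m22_g a) 6) (e 3) 22 :=
  Tabs.lowLevel (m22_tabs h0) he (by decide) (by decide) (by decide) m22_L0_o

theorem m22_ge0 {G α : Type*} [Group G] [MulAction G α] {e : ℕ → α} {a : ℕ → G} (he : Set.InjOn e (Set.Iio 24)) (h0 : Tabs e 24 m22_S a 3) :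
    Finite (genLt (m22_g a) 12) → 443520 ≤ Nat.card (genLt (m22_g a) 12) := fun hK =>
  (m22_low0 he h0).card hK (m22_ge1 he h0)

theorem m22_fix0 {G α : Type*} [Group G] [MulAction G α] {e : ℕ → α} {a : ℕ → G} (he : Set.InjOn e (Set.Iio 24)) (h0 : Tabs e 24 m22_S a 3) :
    ∀ X : Subgroup G, Finite X → (genLt (m22_g a) 12) ≤ X → 443520 * Nat.card (fixB e X [3, 11, 6, 5, 12]) ≤ Nat.card X :=
  (m22_low0 he h0).card_fix (m22_fix1 he h0)

theorem m22_ub0 {G α : Type*} [Group G] [MulAction G α] {e : ℕ → α} {a : ℕ → G} (he : Set.InjOn e (Set.Iio 24)) (h0 : Tabs e 24 m22_S a 3) (hub : Nat.card (genLt a 3) ≠ 0 ∧ Nat.card (genLt a 3) ≤ 443520) :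
    Nat.card (genLt (m22_g a) 12) ≠ 0 ∧ Nat.card (genLt (m22_g a) 12) ≤ 443520 := by rw [m22_gen]; exact hub

theorem m22_level0 {G α : Type*} [Group G] [MulAction G α] {e : ℕ → α} {a : ℕ → G} (he : Set.InjOn e (Set.Iio 24)) (h0 : Tabs e 24 m22_S a 3) (hub : Nat.card (genLt a 3) ≠ 0 ∧ Nat.card (genLt a 3) ≤ 443520) :
    Level (genLt (m22_g a) 12) (genLt (m22_g a) 6) (e 3) 22 :=
  ((m22_low0 he h0).level (c := 20160) (m22_ub0 he h0 hub) (m22_ge1 he h0)).1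

theorem m22_ub1 {G α : Type*} [Group G] [MulAction G α] {e : ℕ → α} {a : ℕ → G} (he : Set.InjOn e (Set.Iio 24)) (h0 : Tabs e 24 m22_S a 3) (hub : Nat.card (genLt a 3) ≠ 0 ∧ Nat.card (genLt a 3) ≤ 443520) :
    Nat.card (genLt (m22_g a) 6) ≠ 0 ∧ Nat.card (genLt (m22_g a) 6) ≤ 20160 :=
  ((m22_low0 he h0).level (c := 20160) (m22_ub0 he h0 hub) (m22_ge1 he h0)).2

theorem m22_level1 {G α : Type*} [Group G] [MulAction G α] {e : ℕ → α} {a : ℕ → G} (he : Set.InjOn e (Set.Iio 24)) (h0 : Tabs e 24 m22_S a 3) (hub : Nat.card (genLt a 3) ≠ 0 ∧ Nat.card (genLt a 3) ≤ 443520) :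
    Level (genLt (m22_g a) 6) (genLt (m22_g a) 5) (e 11) 21 :=
  ((m22_low1 he h0).level (c := 960) (m22_ub1 he h0 hub) (m22_ge2 he h0)).1

theorem m22_ub2 {G α : Type*} [Group G] [MulAction G α] {e : ℕ → α} {a : ℕ → G} (he : Set.InjOn e (Set.Iio 24)) (h0 : Tabs e 24 m22_S a 3) (hub : Nat.card (genLt a 3) ≠ 0 ∧ Nat.card (genLt a 3) ≤ 443520) :
    Nat.card (genLt (m22_g a) 5) ≠ 0 ∧ Nat.card (genLt (m22_g a) 5) ≤ 960 :=
  ((m22_low1 he h0).level (c := 960) (m22_ub1 he h0 hub) (m22_ge2 he h0)).2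

theorem m22_level2 {G α : Type*} [Group G] [MulAction G α] {e : ℕ → α} {a : ℕ → G} (he : Set.InjOn e (Set.Iio 24)) (h0 : Tabs e 24 m22_S a 3) (hub : Nat.card (genLt a 3) ≠ 0 ∧ Nat.card (genLt a 3) ≤ 443520) :
    Level (genLt (m22_g a) 5) (genLt (m22_g a) 4) (e 6) 20 :=
  ((m22_low2 he h0).level (c := 48) (m22_ub2 he h0 hub) (m22_ge3 he h0)).1

theorem m22_ub3 {G α : Type*} [Group G] [MulAction G α] {e : ℕ → α} {a : ℕ → G} (he : Set.InjOn e (Set.Iio 24)) (h0 : Tabs e 24 m22_S a 3) (hub : Nat.card (genLt a 3) ≠ 0 ∧ Nat.card (genLt a 3) ≤ 443520) :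
    Nat.card (genLt (m22_g a) 4) ≠ 0 ∧ Nat.card (genLt (m22_g a) 4) ≤ 48 :=
  ((m22_low2 he h0).level (c := 48) (m22_ub2 he h0 hub) (m22_ge3 he h0)).2

theorem m22_level3 {G α : Type*} [Group G] [MulAction G α] {e : ℕ → α} {a : ℕ → G} (he : Set.InjOn e (Set.Iio 24)) (h0 : Tabs e 24 m22_S a 3) (hub : Nat.card (genLt a 3) ≠ 0 ∧ Nat.card (genLt a 3) ≤ 443520) :
    Level (genLt (m22_g a) 4) (genLt (m22_g a) 2) (e 5) 16 :=
  ((m22_low3 he h0).level (c := 3) (m22_ub3 he h0 hub) (m22_ge4 he h0)).1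

theorem m22_ub4 {G α : Type*} [Group G] [MulAction G α] {e : ℕ → α} {a : ℕ → G} (he : Set.InjOn e (Set.Iio 24)) (h0 : Tabs e 24 m22_S a 3) (hub : Nat.card (genLt a 3) ≠ 0 ∧ Nat.card (genLt a 3) ≤ 443520) :
    Nat.card (genLt (m22_g a) 2) ≠ 0 ∧ Nat.card (genLt (m22_g a) 2) ≤ 3 :=
  ((m22_low3 he h0).level (c := 3) (m22_ub3 he h0 hub) (m22_ge4 he h0)).2

theorem m22_level4 {G α : Type*} [Group G] [MulAction G α] {e : ℕ → α} {a : ℕ → G} (he : Set.InjOn e (Set.Iio 24)) (h0 : Tabs e 24 m22_S a 3) (hub : Nat.card (genLt a 3) ≠ 0 ∧ Nat.card (genLt a 3) ≤ 443520) :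
    Level (genLt (m22_g a) 2) (genLt (m22_g a) 0) (e 12) 3 :=
  ((m22_low4 he h0).level (c := 1) (m22_ub4 he h0 hub) (one_le_card_fin _)).1

theorem m22_card4 {G α : Type*} [Group G] [MulAction G α] {e : ℕ → α} {a : ℕ → G} (he : Set.InjOn e (Set.Iio 24)) (h0 : Tabs e 24 m22_S a 3) (hub : Nat.card (genLt a 3) ≠ 0 ∧ Nat.card (genLt a 3) ≤ 443520) :
    Nat.card (genLt (m22_g a) 2) = 3 :=
  (m22_level4 he h0 hub).card (card_genLt_zero _)

theorem m22_base4 {G α : Type*} [Group G] [MulAction G α] {e : ℕ → α} {a : ℕ → G} (he : Set.InjOn e (Set.Iio 24)) (h0 : Tabs e 24 m22_S a 3) (hub : Nat.card (genLt a 3) ≠ 0 ∧ Nat.card (genLt a 3) ≤ 443520) :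
    IsBase e (genLt (m22_g a) 2) [12] :=
  (m22_level4 he h0 hub).base (isBase_genLt_zero _ _)

theorem m22_card3 {G α : Type*} [Group G] [MulAction G α] {e : ℕ → α} {a : ℕ → G} (he : Set.InjOn e (Set.Iio 24)) (h0 : Tabs e 24 m22_S a 3) (hub : Nat.card (genLt a 3) ≠ 0 ∧ Nat.card (genLt a 3) ≤ 443520) :
    Nat.card (genLt (m22_g a) 4) = 48 :=
  (m22_level3 he h0 hub).card (m22_card4 he h0 hub)

theorem m22_base3 {G α : Type*} [Group G] [MulAction G α] {e : ℕ → α} {a : ℕ → G} (he : Set.InjOn e (Set.Iio 24)) (h0 : Tabs e 24 m22_S a 3) (hub : Nat.card (genLt a 3) ≠ 0 ∧ Nat.card (genLt a 3) ≤ 443520) :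
    IsBase e (genLt (m22_g a) 4) [5, 12] :=
  (m22_level3 he h0 hub).base (m22_base4 he h0 hub)

theorem m22_card2 {G α : Type*} [Group G] [MulAction G α] {e : ℕ → α} {a : ℕ → G} (he : Set.InjOn e (Set.Iio 24)) (h0 : Tabs e 24 m22_S a 3) (hub : Nat.card (genLt a 3) ≠ 0 ∧ Nat.card (genLt a 3) ≤ 443520) :
    Nat.card (genLt (m22_g a) 5) = 960 :=
  (m22_level2 he h0 hub).card (m22_card3 he h0 hub)

theorem m22_base2 {G α : Type*} [Group G] [MulAction G α] {e : ℕ → α} {a : ℕ → G} (he : Set.InjOn e (Set.Iio 24)) (h0 : Tabs e 24 m22_S a 3) (hub : Nat.card (genLt a 3) ≠ 0 ∧ Nat.card (genLt a 3) ≤ 443520) :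
    IsBase e (genLt (m22_g a) 5) [6, 5, 12] :=
  (m22_level2 he h0 hub).base (m22_base3 he h0 hub)

theorem m22_card1 {G α : Type*} [Group G] [MulAction G α] {e : ℕ → α} {a : ℕ → G} (he : Set.InjOn e (Set.Iio 24)) (h0 : Tabs e 24 m22_S a 3) (hub : Nat.card (genLt a 3) ≠ 0 ∧ Nat.card (genLt a 3) ≤ 443520) :
    Nat.card (genLt (m22_g a) 6) = 20160 :=
  (m22_level1 he h0 hub).card (m22_card2 he h0 hub)

theorem m22_base1 {G α : Type*} [Group G] [MulAction G α] {e : ℕ → α} {a : ℕ → G} (he : Set.InjOn e (Set.Iio 24)) (h0 : Tabs e 24 m22_S a 3) (hub : Nat.card (genLt a 3) ≠ 0 ∧ Nat.card (genLt a 3) ≤ 443520) :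
    IsBase e (genLt (m22_g a) 6) [11, 6, 5, 12] :=
  (m22_level1 he h0 hub).base (m22_base2 he h0 hub)

theorem m22_card0 {G α : Type*} [Group G] [MulAction G α] {e : ℕ → α} {a : ℕ → G} (he : Set.InjOn e (Set.Iio 24)) (h0 : Tabs e 24 m22_S a 3) (hub : Nat.card (genLt a 3) ≠ 0 ∧ Nat.card (genLt a 3) ≤ 443520) :
    Nat.card (genLt (m22_g a) 12) = 443520 :=
  (m22_level0 he h0 hub).card (m22_card1 he h0 hub)

theorem m22_base0 {G α : Type*} [Group G] [MulAction G α] {e : ℕ → α} {a : ℕ → G} (he : Set.InjOn e (Set.Iio 24)) (h0 : Tabs e 24 m22_S a 3) (hub : Nat.card (genLt a 3) ≠ 0 ∧ Nat.card (genLt a 3) ≤ 443520) :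
    IsBase e (genLt (m22_g a) 12) [3, 11, 6, 5, 12] :=
  (m22_level0 he h0 hub).base (m22_base1 he h0 hub)

theorem m22_hinv {G α : Type*} [Group G] [MulAction G α] {e : ℕ → α} {a : ℕ → G} (he : Set.InjOn e (Set.Iio 24)) (h0 : Tabs e 24 m22_S a 3) (hub : Nat.card (genLt a 3) ≠ 0 ∧ Nat.card (genLt a 3) ≤ 443520) : ∀ x < 12, m22_g a x * m22_g a (m22_inv x) = 1 :=
  (m22_tabs h0).hinv_of_base (m22_base0 he h0 hub) (by decide +kernel)

theorem m22_card {G α : Type*} [Group G] [MulAction G α] {e : ℕ → α} {a : ℕ → G} (he : Set.InjOn e (Set.Iio 24)) (h0 : Tabs e 24 m22_S a 3) (hub : Nat.card (genLt a 3) ≠ 0 ∧ Nat.card (genLt a 3) ≤ 443520) :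
    Nat.card (genLt a 3) = 443520 := by
  rw [← m22_gen]; exact m22_card0 he h0 hub

end Cfsg.Agent.Spor.OutC
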