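import Mathlib
import Cfsg.Agent.Spor.Out.M22Ch
import Cfsg.Agent.Spor.Out.Gen
import Cfsg.Agent.Spor.Blocks

/-! Generated by tools/h59/outgen.py: outer automorphisms, m22 -/

set_option autoImplicit false
set_option maxRecDepth 100000
set_option linter.unusedVariables false
set_option exponentiation.threshold 100000

namespace Cfsg.Agent.Spor.OutC

open Cfsg.Agent.Spor

noncomputable def m22_la : Lv := ⟨m22_E (nat_lit 0), nat_lit 3, nat_lit 1, true, nat_lit 0, [], []⟩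

noncomputable def m22_La : List Lv :=
  [⟨m22_E (nat_lit 1), nat_lit 11, nat_lit 6, false, nat_lit 0, [nat_lit 0], []⟩,
   ⟨m22_E (nat_lit 2), nat_lit 6, nat_lit 15, false, nat_lit 0, [nat_lit 0], []⟩,
   ⟨m22_E (nat_lit 3), nat_lit 5, nat_lit 20, false, nat_lit 0, [nat_lit 0,nat_lit 0,nat_lit 0,nat_lit 0], []⟩,
   ⟨m22_E (nat_lit 4), nat_lit 12, nat_lit 19, false, nat_lit 0, [nat_lit 0,nat_lit 0], []⟩]

noncomputable def m22_lb : Lv := ⟨m22_E (nat_lit 0), nat_lit 3, nat_lit 3, true, nat_lit 0, [], []⟩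

noncomputable def m22_Lb : List Lv :=
  [⟨m22_E (nat_lit 1), nat_lit 11, nat_lit 11, false, nat_lit 0, [nat_lit 0], []⟩,
   ⟨m22_E (nat_lit 2), nat_lit 6, nat_lit 6, false, nat_lit 0, [nat_lit 0], []⟩,
   ⟨m22_E (nat_lit 3), nat_lit 5, nat_lit 5, false, nat_lit 0, [nat_lit 0], []⟩,
   ⟨m22_E (nat_lit 4), nat_lit 12, nat_lit 12, false, nat_lit 0, [nat_lit 0], []⟩]

def m22_h : List ℕ := [nat_lit 1,nat_lit 3,nat_lit 0,nat_lit 2,nat_lit 4,nat_lit 1,nat_lit 3,nat_lit 5,nat_lit 1,nat_lit 3,nat_lit 7,nat_lit 5]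

def m22_Z : List ℕ := [nat_lit 2,nat_lit 4,nat_lit 0,nat_lit 5,nat_lit 4,nat_lit 2,nat_lit 4,nat_lit 3,nat_lit 0]

def m22_Rels : List (ℕ × List ℕ × List ℕ) :=
  [(nat_lit 5, [nat_lit 0,nat_lit 0,nat_lit 0,nat_lit 2], [])]

def m22_Z' : List ℕ := [nat_lit 7,nat_lit 0,nat_lit 2,nat_lit 5,nat_lit 2,nat_lit 1,nat_lit 4,nat_lit 3,nat_lit 0,nat_lit 2,nat_lit 1]

def m22_P : ℕ → ℕ := getP (nat_lit 5) (nat_lit 31) (nat_lit 0xb928a74cb59597143cc30b530130e0)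

def m22_Q : ℕ → ℕ := getP (nat_lit 5) (nat_lit 31) (nat_lit 0xbba1593d8454cc26d0ab0a63640ce0)

noncomputable def m22_lc : Lv := ⟨m22_E (nat_lit 0), nat_lit 3, nat_lit 1, true, nat_lit 0, [], [nat_lit 1]⟩

noncomputable def m22_Lc : List Lv :=
  [⟨m22_E (nat_lit 1), nat_lit 11, nat_lit 6, false, nat_lit 0, [nat_lit 0], []⟩,
   ⟨m22_E (nat_lit 2), nat_lit 6, nat_lit 15, false, nat_lit 0, [nat_lit 0], []⟩,
   ⟨m22_E (nat_lit 3), nat_lit 5, nat_lit 20, false, nat_lit 0, [nat_lit 0,nat_lit 0,nat_lit 0,nat_lit 0], []⟩,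
   ⟨m22_E (nat_lit 4), nat_lit 12, nat_lit 19, false, nat_lit 0, [nat_lit 0,nat_lit 0], []⟩]

theorem m22_s1_0 : allRange (nat_lit 0) (nat_lit 24) (siftTop m22_T m22_S m22_inv (nat_lit 24) m22_h (acc1 m22_T m22_S [nat_lit 3,nat_lit 11,nat_lit 6,nat_lit 5,nat_lit 12] (nat_lit 11)) m22_la m22_La) = true := by decide +kernel

theorem m22_s3_0 : allRange (nat_lit 0) (nat_lit 24) (siftTop m22_T (tri (iterF (m22_S 0) (nat_lit 2)) (m22_S 1) (traceP m22_T m22_Z')) m22_inv (nat_lit 24) m22_h (acc3 m22_T m22_S (tri (iterF (m22_S 0) (nat_lit 2)) (m22_S 1) (traceP m22_T m22_Z')) [nat_lit 3,nat_lit 11,nat_lit 6,nat_lit 5,nat_lit 12]) m22_lc m22_Lc) = true := by decide +kernel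

theorem m22_p_0 : allRange (nat_lit 0) (nat_lit 24) ((fun i => force (m22_P i) fun p => band (blt p (nat_lit 24)) (allLt 3 fun x => band (blt (m22_S x i) (nat_lit 24)) (Nat.beq ((tri (iterF (m22_S 0) (nat_lit 2)) (m22_S 1) (traceP m22_T m22_Z')) x p) (m22_P (m22_S x i)))))) = true := by decide +kernel

theorem m22_s2_0 : allRange (nat_lit 0) (nat_lit 24) (siftTop m22_T (fun _ => iterF (m22_S 1) (nat_lit 3)) m22_inv (nat_lit 24) [] (acc2 m22_T m22_S [nat_lit 3,nat_lit 11,nat_lit 6,nat_lit 5,nat_lit 12] [nat_lit 1,nat_lit 2] m22_Rels [(1, m22_Z), (nat_lit 2, m22_Z')]) m22_lb m22_Lb) = true := by decide +kernel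

theorem m22_hub {G : Type*} [Group G] (y : ℕ → G) (hc : Nat.card G = 443520) :
    Nat.card (genLt y 3) ≠ 0 ∧ Nat.card (genLt y 3) ≤ 443520 :=
  card_genLt_le (K := ⊤) (fun _ _ => trivial) (Subgroup.card_top.trans hc)

theorem m22_model {G α : Type*} [Group G] [MulAction G α] {e : ℕ → α} {y : ℕ → G} (he : Set.InjOn e (Set.Iio 24)) (h0 : Tabs e 24 m22_S y 3) (hc : Nat.card G = 443520) :
    OutModel e 24 m22_T m22_S (m22_g y) y 12 m22_inv [nat_lit 3,nat_lit 11,nat_lit 6,nat_lit 5,nat_lit 12] 443520 :=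
  have h1 := genLt_eq_of_card (K := ⊤) (fun _ _ => trivial) (Subgroup.card_top.trans hc) (m22_card he h0 (m22_hub y hc))
  ⟨(m22_tabs h0).sifter he (m22_hinv he h0 (m22_hub y hc)) (m22_base0 he h0 (m22_hub y hc)) (by decide +kernel),
    (m22_gen y).trans h1, h0, h1, hc⟩

theorem m22_sl0 {G α : Type*} [Group G] [MulAction G α] {e : ℕ → α} {y : ℕ → G} (he : Set.InjOn e (Set.Iio 24)) (h0 : Tabs e 24 m22_S y 3) (hc : Nat.card G = 443520) :
    SLev e 24 m22_T (m22_g y) (m22_E (nat_lit 0)) 12 6 3 :=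
  (m22_tabs h0).sLev he (m22_level0 he h0 (m22_hub y hc)) m22_L0_o

theorem m22_sl1 {G α : Type*} [Group G] [MulAction G α] {e : ℕ → α} {y : ℕ → G} (he : Set.InjOn e (Set.Iio 24)) (h0 : Tabs e 24 m22_S y 3) (hc : Nat.card G = 443520) :
    SLev e 24 m22_T (m22_g y) (m22_E (nat_lit 1)) 6 5 11 :=
  (m22_tabs h0).sLev he (m22_level1 he h0 (m22_hub y hc)) m22_L1_o

theorem m22_sl2 {G α : Type*} [Group G] [MulAction G α] {e : ℕ → α} {y : ℕ → G} (he : Set.InjOn e (Set.Iio 24)) (h0 : Tabs e 24 m22_S y 3) (hc : Nat.card G = 443520) :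
    SLev e 24 m22_T (m22_g y) (m22_E (nat_lit 2)) 5 4 6 :=
  (m22_tabs h0).sLev he (m22_level2 he h0 (m22_hub y hc)) m22_L2_o

theorem m22_sl3 {G α : Type*} [Group G] [MulAction G α] {e : ℕ → α} {y : ℕ → G} (he : Set.InjOn e (Set.Iio 24)) (h0 : Tabs e 24 m22_S y 3) (hc : Nat.card G = 443520) :
    SLev e 24 m22_T (m22_g y) (m22_E (nat_lit 3)) 4 2 5 :=
  (m22_tabs h0).sLev he (m22_level3 he h0 (m22_hub y hc)) m22_L3_o

theorem m22_sl4 {G α : Type*} [Group G] [MulAction G α] {e : ℕ → α} {y : ℕ → G} (he : Set.InjOn e (Set.Iio 24)) (h0 : Tabs e 24 m22_S y 3) (hc : Nat.card G = 443520) :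
    SLev e 24 m22_T (m22_g y) (m22_E (nat_lit 4)) 2 0 12 :=
  (m22_tabs h0).sLev he (m22_level4 he h0 (m22_hub y hc)) m22_L4_o

theorem m22_cha {G α : Type*} [Group G] [MulAction G α] {e : ℕ → α} {y : ℕ → G} (he : Set.InjOn e (Set.Iio 24)) (h0 : Tabs e 24 m22_S y 3) (hc : Nat.card G = 443520) :
    ChainOK e 24 m22_T (m22_g y) (m22_la :: m22_La) 12 :=
  ⟨_, m22_sl0 he h0 hc, _, m22_sl1 he h0 hc, _, m22_sl2 he h0 hc, _, m22_sl3 he h0 hc, _, m22_sl4 he h0 hc, rfl⟩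

theorem m22_chb {G α : Type*} [Group G] [MulAction G α] {e : ℕ → α} {y : ℕ → G} (he : Set.InjOn e (Set.Iio 24)) (h0 : Tabs e 24 m22_S y 3) (hc : Nat.card G = 443520) :
    ChainOK e 24 m22_T (m22_g y) (m22_lb :: m22_Lb) 12 :=
  ⟨_, m22_sl0 he h0 hc, _, m22_sl1 he h0 hc, _, m22_sl2 he h0 hc, _, m22_sl3 he h0 hc, _, m22_sl4 he h0 hc, rfl⟩

theorem m22_s1 : ∀ q < 24, siftTop m22_T m22_S m22_inv (nat_lit 24) m22_h (acc1 m22_T m22_S [nat_lit 3,nat_lit 11,nat_lit 6,nat_lit 5,nat_lit 12] (nat_lit 11)) m22_la m22_La q = true :=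
  allRange_zero m22_s1_0

theorem m22_chc {G α : Type*} [Group G] [MulAction G α] {e : ℕ → α} {y : ℕ → G} (he : Set.InjOn e (Set.Iio 24)) (h0 : Tabs e 24 m22_S y 3) (hc : Nat.card G = 443520) :
    ChainOK e 24 m22_T (m22_g y) (m22_lc :: m22_Lc) 12 :=
  ⟨_, m22_sl0 he h0 hc, _, m22_sl1 he h0 hc, _, m22_sl2 he h0 hc, _, m22_sl3 he h0 hc, _, m22_sl4 he h0 hc, rfl⟩

theorem m22_s3 : ∀ q < 24, siftTop m22_T (tri (iterF (m22_S 0) (nat_lit 2)) (m22_S 1) (traceP m22_T m22_Z')) m22_inv (nat_lit 24) m22_h (acc3 m22_T m22_S (tri (iterF (m22_S 0) (nat_lit 2)) (m22_S 1) (traceP m22_T m22_Z')) [nat_lit 3,nat_lit 11,nat_lit 6,nat_lit 5,nat_lit 12]) m22_lc m22_Lc q = true :=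
  allRange_zero m22_s3_0

theorem m22_p : ∀ q < 24, (fun i => force (m22_P i) fun p => band (blt p (nat_lit 24)) (allLt 3 fun x => band (blt (m22_S x i) (nat_lit 24)) (Nat.beq ((tri (iterF (m22_S 0) (nat_lit 2)) (m22_S 1) (traceP m22_T m22_Z')) x p) (m22_P (m22_S x i))))) q = true :=
  allRange_zero m22_p_0

theorem m22_s2 : ∀ q < 24, siftTop m22_T (fun _ => iterF (m22_S 1) (nat_lit 3)) m22_inv (nat_lit 24) [] (acc2 m22_T m22_S [nat_lit 3,nat_lit 11,nat_lit 6,nat_lit 5,nat_lit 12] [nat_lit 1,nat_lit 2] m22_Rels [(1, m22_Z), (nat_lit 2, m22_Z')]) m22_lb m22_Lb q = true :=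
  allRange_zero m22_s2_0

theorem m22_out {G α : Type*} [Group G] [MulAction G α] {e : ℕ → α} {y : ℕ → G} (he : Set.InjOn e (Set.Iio 24)) (h0 : Tabs e 24 m22_S y 3) (hc : Nat.card G = 443520) : Nat.card (Out G) = 2 :=
  have hZ : lettersLt 12 m22_Z' = true := by decide +kernel
  (m22_model he h0 hc).card_out_two (by decide +kernel) hZ
    ((m22_model he h0 hc).aut_cases (p := nat_lit 11) (κ := 3) (a := nat_lit 1) (by norm_num) (by decide +kernel)
      ((m22_model he h0 hc).centralizer (m22_cha he h0 hc) (by decide +kernel) m22_s1)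
      (m22_chb he h0 hc) (by decide +kernel) m22_s2)
    ((m22_model he h0 hc).exists_aut (by decide)
      (tabs_tri ((h0 0 (by decide)).iterF _) (h0 1 (by decide)) ((m22_tabs h0).evalW hZ)) (Q := m22_Q)
      (allRange_of_forall fun i _ hi => m22_p i (by omega)) (by decide +kernel) (by decide +kernel))
    (m22_chc he h0 hc) (by decide +kernel) m22_s3

end Cfsg.Agent.Spor.OutC
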