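import Mathlib
import Cfsg.Agent.Spor.Comp.Pres

/-! Generated by tools/pg: stabiliser chain m23 -/

set_option autoImplicit false
set_option maxRecDepth 100000
set_option linter.unusedVariables false
set_option exponentiation.threshold 100000

namespace Cfsg.Agent.Spor.OutC

open Cfsg.Agent.Spor

noncomputable def m23_S_t0 : BT :=
(.node (.node (.node (.node (.node (.leaf (nat_lit 0xb849514cc98a98b051a7b206f838b2))
 (.leaf (nat_lit 0xbaca464a90aaa6d3206e3d9f108920))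
) (.leaf (nat_lit 0xbc965a847079d899a9a8150d123ac0))
) (.node (.leaf (nat_lit 0xbd4229214f2ce2b3599480c8e69d20))
 (.leaf (nat_lit 0xb8ac853070719347b48538653ac560))
)) (.node (.node (.node (.leaf (nat_lit 0xba4c5721b023d6c1daa7a2a420ce20))
 (.leaf (nat_lit 0xbc4656b2d033a720a8883be89a8960))
) (.leaf (nat_lit 0xbd46c214505bd520cdb43b9098d8c0))
) (.node (.leaf (nat_lit 0xba8edb4a257258820ea67d16114e00))
 (.leaf (nat_lit 0xbcd8fb0db0a3a3522828394cb90920))
))) (.node (.node (.node (.node (.leaf (nat_lit 0xbaac874da7810696443212de5352a0))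
 (.leaf (nat_lit 0xb99f16c8902a193b382a3aeb448860))
) (.leaf (nat_lit 0xb86665d8907892daa9887168389e40))
) (.node (.leaf (nat_lit 0xba9271143074e2c69ad24568f59060))
 (.leaf (nat_lit 0xb88ca74d3042c312b29538e4d792c0))
)) (.node (.node (.node (.leaf (nat_lit 0xb9e8a901e32092d63a06444352cecb))
 (.leaf (nat_lit 0xbbc93a04d0b38ab628683c5b548a40))
) (.leaf (nat_lit 0xb8509915901cc8a7522f3d562359a0))
) (.node (.leaf (nat_lit 0xbcd2614a213be8d2d9ccaa20b50c80))
 (.leaf (nat_lit 0xb8e2194eb04b98d2a9e839166b0a80))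
))))

noncomputable def m23_S_t : BT :=
m23_S_t0

noncomputable def m23_S : ℕ → ℕ → ℕ := fun x i => Nat.land (Nat.shiftRight (BT.get m23_S_t x) (Nat.mul (nat_lit 5) i)) (nat_lit 31)

noncomputable def m23_defs : LT :=
(.node (.node (.node (.node (.node (.leaf [nat_lit 0])
 (.leaf [nat_lit 0,nat_lit 12,nat_lit 11])
) (.leaf [nat_lit 0,nat_lit 7,nat_lit 2,nat_lit 7,nat_lit 5,nat_lit 6,nat_lit 6])
) (.node (.leaf [nat_lit 1,nat_lit 1])
 (.leaf [nat_lit 1,nat_lit 10])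
)) (.node (.node (.node (.leaf [nat_lit 0])
 (.leaf [nat_lit 0,nat_lit 16,nat_lit 15,nat_lit 17])
) (.leaf [nat_lit 0,nat_lit 9,nat_lit 5,nat_lit 5,nat_lit 9])
) (.node (.leaf [nat_lit 0,nat_lit 0,nat_lit 5,nat_lit 4,nat_lit 4,nat_lit 3])
 (.leaf [nat_lit 0,nat_lit 10,nat_lit 13,nat_lit 13,nat_lit 10,nat_lit 13,nat_lit 13])
))) (.node (.node (.node (.node (.leaf [nat_lit 0])
 (.leaf [nat_lit 1,nat_lit 16])
) (.leaf [nat_lit 1,nat_lit 8])
) (.node (.leaf [nat_lit 1,nat_lit 2])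
 (.leaf [nat_lit 1,nat_lit 11])
)) (.node (.node (.node (.leaf [nat_lit 1,nat_lit 0])
 (.leaf [nat_lit 0,nat_lit 16,nat_lit 14,nat_lit 17])
) (.leaf [nat_lit 0,nat_lit 5,nat_lit 5,nat_lit 8,nat_lit 2])
) (.node (.leaf [nat_lit 1,nat_lit 6])
 (.leaf [nat_lit 0,nat_lit 12,nat_lit 13,nat_lit 10,nat_lit 13,nat_lit 13,nat_lit 12,nat_lit 13])
))))
noncomputable def m23_iota : ℕ → ℕ := getP (nat_lit 8) (nat_lit 255) (nat_lit 0x50204010300070609080c0a111013120f0e)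
noncomputable def m23_inv : ℕ → ℕ := getP (nat_lit 8) (nat_lit 255) (nat_lit 0x10110e0f0c0d0a0b08090607040503020100)
noncomputable def m23_hws : LT := .leaf []

noncomputable def m23_T_t0 : BT :=
(.node (.node (.node (.node (.node (.leaf (nat_lit 0xbcd8fb0db0a3a3522828394cb90920))
 (.leaf (nat_lit 0xba4c5721b023d6c1daa7a2a420ce20))
) (.leaf (nat_lit 0xbc965a847079d899a9a8150d123ac0))
) (.node (.leaf (nat_lit 0xbaca464a90aaa6d3206e3d9f108920))
 (.leaf (nat_lit 0xb849514cc98a98b051a7b206f838b2))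
)) (.node (.node (.leaf (nat_lit 0xbc4656b2d033a720a8883be89a8960))
 (.leaf (nat_lit 0xba8edb4a257258820ea67d16114e00))
) (.node (.leaf (nat_lit 0xbd46c214505bd520cdb43b9098d8c0))
 (.leaf (nat_lit 0xbaac874da7810696443212de5352a0))
))) (.node (.node (.node (.node (.leaf (nat_lit 0xb8e2194eb04b98d2a9e839166b0a80))
 (.leaf (nat_lit 0xba9271143074e2c69ad24568f59060))
) (.leaf (nat_lit 0xb86665d8907892daa9887168389e40))
) (.node (.leaf (nat_lit 0xb99f16c8902a193b382a3aeb448860))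
 (.leaf (nat_lit 0xb9e8a901e32092d63a06444352cecb))
)) (.node (.node (.leaf (nat_lit 0xbbc93a04d0b38ab628683c5b548a40))
 (.leaf (nat_lit 0xbcd2614a213be8d2d9ccaa20b50c80))
) (.node (.leaf (nat_lit 0xb8ac853070719347b48538653ac560))
 (.leaf (nat_lit 0xbd4229214f2ce2b3599480c8e69d20))
))))

noncomputable def m23_T_t : BT :=
m23_T_t0

noncomputable def m23_T : ℕ → ℕ → ℕ := fun x i => Nat.land (Nat.shiftRight (BT.get m23_T_t x) (Nat.mul (nat_lit 5) i)) (nat_lit 31)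

noncomputable def m23_E_t0 : BT :=
(.node (.node (.node (.leaf (nat_lit 0xc218440360283603c0d60d03d8830241902a01b0e818c1583b0060102d81900))
 (.leaf (nat_lit 0x81400000000810001000000000000000000000000))
) (.leaf (nat_lit 0xc1e03c058010258300060e8220050580ac1600b04200c1a0340480282604000))
) (.node (.node (.leaf (nat_lit 0xc2582302812c1a0190060b01d81c0360301d80307814c0105b0a60902d05000))
 (.leaf (nat_lit 0xc058130340240201000806001812026060018180000140e01c0340000101800))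
) (.leaf (nat_lit 0x81d83b05601005030006070198040560b01a01c06000c120230460240202800))
))

noncomputable def m23_E_t : BT :=
m23_E_t0

noncomputable def m23_E : ℕ → ℕ → ℕ := fun x i => Nat.land (Nat.shiftRight (BT.get m23_E_t x) (Nat.mul (nat_lit 11) i)) (nat_lit 2047)

theorem m23_slp0 : allLt (nat_lit 17) (fun i => force (Nat.add (nat_lit 3) i) (slpOK m23_S m23_defs (nat_lit 24))) = true := by decide +kernel

theorem m23_ren : allLt (nat_lit 18) (fun x => force (m23_iota x) fun y => band (blt y (nat_lit 20)) (allRange (nat_lit 0) (nat_lit 24) fun i => Nat.beq (m23_S y i) (m23_T x i))) = true := by decide +kernel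

theorem m23_L5_o : band (allRange (nat_lit 0) (nat_lit 24) (orbOK m23_T (nat_lit 4) (m23_E (nat_lit 5)) (Nat.beq (nat_lit 18)))) (band (Nat.ble (nat_lit 16) (count2 (nat_lit 24) fun p => Nat.ble 256 (m23_E (nat_lit 5) p))) (allLt (nat_lit 0) (fun x => Nat.beq (m23_T x (nat_lit 18)) (nat_lit 18)))) = true := by decide +kernel

theorem m23_L4_o : band (allRange (nat_lit 0) (nat_lit 24) (orbOK m23_T (nat_lit 6) (m23_E (nat_lit 4)) (Nat.beq (nat_lit 8)))) (band (Nat.ble (nat_lit 3) (count2 (nat_lit 24) fun p => Nat.ble 256 (m23_E (nat_lit 4) p))) (allLt (nat_lit 4) (fun x => Nat.beq (m23_T x (nat_lit 8)) (nat_lit 8)))) = true := by decide +kernel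

theorem m23_L3_o : band (allRange (nat_lit 0) (nat_lit 24) (orbOK m23_T (nat_lit 8) (m23_E (nat_lit 3)) (Nat.beq (nat_lit 2)))) (band (Nat.ble (nat_lit 20) (count2 (nat_lit 24) fun p => Nat.ble 256 (m23_E (nat_lit 3) p))) (allLt (nat_lit 6) (fun x => Nat.beq (m23_T x (nat_lit 2)) (nat_lit 2)))) = true := by decide +kernel

theorem m23_L2_o : band (allRange (nat_lit 0) (nat_lit 24) (orbOK m23_T (nat_lit 10) (m23_E (nat_lit 2)) (Nat.beq (nat_lit 7)))) (band (Nat.ble (nat_lit 21) (count2 (nat_lit 24) fun p => Nat.ble 256 (m23_E (nat_lit 2) p))) (allLt (nat_lit 8) (fun x => Nat.beq (m23_T x (nat_lit 7)) (nat_lit 7)))) = true := by decide +kernel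

theorem m23_L1_o : band (allRange (nat_lit 0) (nat_lit 24) (orbOK m23_T (nat_lit 12) (m23_E (nat_lit 1)) (Nat.beq (nat_lit 16)))) (band (Nat.ble (nat_lit 22) (count2 (nat_lit 24) fun p => Nat.ble 256 (m23_E (nat_lit 1) p))) (allLt (nat_lit 10) (fun x => Nat.beq (m23_T x (nat_lit 16)) (nat_lit 16)))) = true := by decide +kernel

theorem m23_L0_o : band (allRange (nat_lit 0) (nat_lit 24) (orbOK m23_T (nat_lit 18) (m23_E (nat_lit 0)) (Nat.beq (nat_lit 0)))) (band (Nat.ble (nat_lit 23) (count2 (nat_lit 24) fun p => Nat.ble 256 (m23_E (nat_lit 0) p))) (allLt (nat_lit 12) (fun x => Nat.beq (m23_T x (nat_lit 0)) (nat_lit 0)))) = true := by decide +kernel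

/-- The letters: a strong generating set, deepest stabiliser first. -/
noncomputable def m23_g {G : Type*} [Group G] (a : ℕ → G) : ℕ → G := fun x => slp a 3 m23_defs (m23_iota x)

theorem m23_tabs {G α : Type*} [Group G] [MulAction G α] {e : ℕ → α} {a : ℕ → G} (h0 : Tabs e 24 m23_S a 3) : Tabs e 24 m23_T (m23_g a) 18 :=
  Tabs.rename (ι := m23_iota) (g := slp a 3 m23_defs) ((Tabs.slp_base m23_defs h0).slp_add (by decide) _ m23_slp0) m23_ren

theorem m23_gen {G : Type*} [Group G] (a : ℕ → G) : genLt (m23_g a) 18 = genLt a 3 :=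
  genLt_slp_eq a m23_defs (back := getP 8 255 (nat_lit 0x100e0c)) (by decide +kernel)

theorem m23_low5 {G α : Type*} [Group G] [MulAction G α] {e : ℕ → α} {a : ℕ → G} (he : Set.InjOn e (Set.Iio 24)) (h0 : Tabs e 24 m23_S a 3) :
    LowLevel (genLt (m23_g a) 4) (genLt (m23_g a) 0) (e 18) 16 :=
  Tabs.lowLevel (m23_tabs h0) he (by decide) (by decide) (by decide) m23_L5_o

theorem m23_ge5 {G α : Type*} [Group G] [MulAction G α] {e : ℕ → α} {a : ℕ → G} (he : Set.InjOn e (Set.Iio 24)) (h0 : Tabs e 24 m23_S a 3) :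
    Finite (genLt (m23_g a) 4) → 16 ≤ Nat.card (genLt (m23_g a) 4) := fun hK =>
  (m23_low5 he h0).card hK (one_le_card_fin _)

theorem m23_fix5 {G α : Type*} [Group G] [MulAction G α] {e : ℕ → α} {a : ℕ → G} (he : Set.InjOn e (Set.Iio 24)) (h0 : Tabs e 24 m23_S a 3) :
    ∀ X : Subgroup G, Finite X → (genLt (m23_g a) 4) ≤ X → 16 * Nat.card (fixB e X [18]) ≤ Nat.card X :=
  (m23_low5 he h0).card_fix (card_fix_nil _ _)

theorem m23_low4 {G α : Type*} [Group G] [MulAction G α] {e : ℕ → α} {a : ℕ → G} (he : Set.InjOn e (Set.Iio 24)) (h0 : Tabs e 24 m23_S a 3) :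
    LowLevel (genLt (m23_g a) 6) (genLt (m23_g a) 4) (e 8) 3 :=
  Tabs.lowLevel (m23_tabs h0) he (by decide) (by decide) (by decide) m23_L4_o

theorem m23_ge4 {G α : Type*} [Group G] [MulAction G α] {e : ℕ → α} {a : ℕ → G} (he : Set.InjOn e (Set.Iio 24)) (h0 : Tabs e 24 m23_S a 3) :
    Finite (genLt (m23_g a) 6) → 48 ≤ Nat.card (genLt (m23_g a) 6) := fun hK =>
  (m23_low4 he h0).card hK (m23_ge5 he h0)

theorem m23_fix4 {G α : Type*} [Group G] [MulAction G α] {e : ℕ → α} {a : ℕ → G} (he : Set.InjOn e (Set.Iio 24)) (h0 : Tabs e 24 m23_S a 3) :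
    ∀ X : Subgroup G, Finite X → (genLt (m23_g a) 6) ≤ X → 48 * Nat.card (fixB e X [8, 18]) ≤ Nat.card X :=
  (m23_low4 he h0).card_fix (m23_fix5 he h0)

theorem m23_low3 {G α : Type*} [Group G] [MulAction G α] {e : ℕ → α} {a : ℕ → G} (he : Set.InjOn e (Set.Iio 24)) (h0 : Tabs e 24 m23_S a 3) :
    LowLevel (genLt (m23_g a) 8) (genLt (m23_g a) 6) (e 2) 20 :=
  Tabs.lowLevel (m23_tabs h0) he (by decide) (by decide) (by decide) m23_L3_o

theorem m23_ge3 {G α : Type*} [Group G] [MulAction G α] {e : ℕ → α} {a : ℕ → G} (he : Set.InjOn e (Set.Iio 24)) (h0 : Tabs e 24 m23_S a 3) :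
    Finite (genLt (m23_g a) 8) → 960 ≤ Nat.card (genLt (m23_g a) 8) := fun hK =>
  (m23_low3 he h0).card hK (m23_ge4 he h0)

theorem m23_fix3 {G α : Type*} [Group G] [MulAction G α] {e : ℕ → α} {a : ℕ → G} (he : Set.InjOn e (Set.Iio 24)) (h0 : Tabs e 24 m23_S a 3) :
    ∀ X : Subgroup G, Finite X → (genLt (m23_g a) 8) ≤ X → 960 * Nat.card (fixB e X [2, 8, 18]) ≤ Nat.card X :=
  (m23_low3 he h0).card_fix (m23_fix4 he h0)

theorem m23_low2 {G α : Type*} [Group G] [MulAction G α] {e : ℕ → α} {a : ℕ → G} (he : Set.InjOn e (Set.Iio 24)) (h0 : Tabs e 24 m23_S a 3) :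
    LowLevel (genLt (m23_g a) 10) (genLt (m23_g a) 8) (e 7) 21 :=
  Tabs.lowLevel (m23_tabs h0) he (by decide) (by decide) (by decide) m23_L2_o

theorem m23_ge2 {G α : Type*} [Group G] [MulAction G α] {e : ℕ → α} {a : ℕ → G} (he : Set.InjOn e (Set.Iio 24)) (h0 : Tabs e 24 m23_S a 3) :
    Finite (genLt (m23_g a) 10) → 20160 ≤ Nat.card (genLt (m23_g a) 10) := fun hK =>
  (m23_low2 he h0).card hK (m23_ge3 he h0)

theorem m23_fix2 {G α : Type*} [Group G] [MulAction G α] {e : ℕ → α} {a : ℕ → G} (he : Set.InjOn e (Set.Iio 24)) (h0 : Tabs e 24 m23_S a 3) :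
    ∀ X : Subgroup G, Finite X → (genLt (m23_g a) 10) ≤ X → 20160 * Nat.card (fixB e X [7, 2, 8, 18]) ≤ Nat.card X :=
  (m23_low2 he h0).card_fix (m23_fix3 he h0)

theorem m23_low1 {G α : Type*} [Group G] [MulAction G α] {e : ℕ → α} {a : ℕ → G} (he : Set.InjOn e (Set.Iio 24)) (h0 : Tabs e 24 m23_S a 3) :
    LowLevel (genLt (m23_g a) 12) (genLt (m23_g a) 10) (e 16) 22 :=
  Tabs.lowLevel (m23_tabs h0) he (by decide) (by decide) (by decide) m23_L1_o

theorem m23_ge1 {G α : Type*} [Group G] [MulAction G α] {e : ℕ → α} {a : ℕ → G} (he : Set.InjOn e (Set.Iio 24)) (h0 : Tabs e 24 m23_S a 3) :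
    Finite (genLt (m23_g a) 12) → 443520 ≤ Nat.card (genLt (m23_g a) 12) := fun hK =>
  (m23_low1 he h0).card hK (m23_ge2 he h0)

theorem m23_fix1 {G α : Type*} [Group G] [MulAction G α] {e : ℕ → α} {a : ℕ → G} (he : Set.InjOn e (Set.Iio 24)) (h0 : Tabs e 24 m23_S a 3) :
    ∀ X : Subgroup G, Finite X → (genLt (m23_g a) 12) ≤ X → 443520 * Nat.card (fixB e X [16, 7, 2, 8, 18]) ≤ Nat.card X :=
  (m23_low1 he h0).card_fix (m23_fix2 he h0)

theorem m23_low0 {G α : Type*} [Group G] [MulAction G α] {e : ℕ → α} {a : ℕ → G} (he : Set.InjOn e (Set.Iio 24)) (h0 : Tabs e 24 m23_S a 3) :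
    LowLevel (genLt (m23_g a) 18) (genLt (m23_g a) 12) (e 0) 23 :=
  Tabs.lowLevel (m23_tabs h0) he (by decide) (by decide) (by decide) m23_L0_o

theorem m23_ge0 {G α : Type*} [Group G] [MulAction G α] {e : ℕ → α} {a : ℕ → G} (he : Set.InjOn e (Set.Iio 24)) (h0 : Tabs e 24 m23_S a 3) :
    Finite (genLt (m23_g a) 18) → 10200960 ≤ Nat.card (genLt (m23_g a) 18) := fun hK =>
  (m23_low0 he h0).card hK (m23_ge1 he h0)

theorem m23_fix0 {G α : Type*} [Group G] [MulAction G α] {e : ℕ → α} {a : ℕ → G} (he : Set.InjOn e (Set.Iio 24)) (h0 : Tabs e 24 m23_S a 3) :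
    ∀ X : Subgroup G, Finite X → (genLt (m23_g a) 18) ≤ X → 10200960 * Nat.card (fixB e X [0, 16, 7, 2, 8, 18]) ≤ Nat.card X :=
  (m23_low0 he h0).card_fix (m23_fix1 he h0)

theorem m23_ub0 {G α : Type*} [Group G] [MulAction G α] {e : ℕ → α} {a : ℕ → G} (he : Set.InjOn e (Set.Iio 24)) (h0 : Tabs e 24 m23_S a 3) (hub : Nat.card (genLt a 3) ≠ 0 ∧ Nat.card (genLt a 3) ≤ 10200960) :
    Nat.card (genLt (m23_g a) 18) ≠ 0 ∧ Nat.card (genLt (m23_g a) 18) ≤ 10200960 := by rw [m23_gen]; exact hub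

theorem m23_level0 {G α : Type*} [Group G] [MulAction G α] {e : ℕ → α} {a : ℕ → G} (he : Set.InjOn e (Set.Iio 24)) (h0 : Tabs e 24 m23_S a 3) (hub : Nat.card (genLt a 3) ≠ 0 ∧ Nat.card (genLt a 3) ≤ 10200960) :
    Level (genLt (m23_g a) 18) (genLt (m23_g a) 12) (e 0) 23 :=
  ((m23_low0 he h0).level (c := 443520) (m23_ub0 he h0 hub) (m23_ge1 he h0)).1

theorem m23_ub1 {G α : Type*} [Group G] [MulAction G α] {e : ℕ → α} {a : ℕ → G} (he : Set.InjOn e (Set.Iio 24)) (h0 : Tabs e 24 m23_S a 3) (hub : Nat.card (genLt a 3) ≠ 0 ∧ Nat.card (genLt a 3) ≤ 10200960) :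
    Nat.card (genLt (m23_g a) 12) ≠ 0 ∧ Nat.card (genLt (m23_g a) 12) ≤ 443520 :=
  ((m23_low0 he h0).level (c := 443520) (m23_ub0 he h0 hub) (m23_ge1 he h0)).2

theorem m23_level1 {G α : Type*} [Group G] [MulAction G α] {e : ℕ → α} {a : ℕ → G} (he : Set.InjOn e (Set.Iio 24)) (h0 : Tabs e 24 m23_S a 3) (hub : Nat.card (genLt a 3) ≠ 0 ∧ Nat.card (genLt a 3) ≤ 10200960) :
    Level (genLt (m23_g a) 12) (genLt (m23_g a) 10) (e 16) 22 :=
  ((m23_low1 he h0).level (c := 20160) (m23_ub1 he h0 hub) (m23_ge2 he h0)).1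

theorem m23_ub2 {G α : Type*} [Group G] [MulAction G α] {e : ℕ → α} {a : ℕ → G} (he : Set.InjOn e (Set.Iio 24)) (h0 : Tabs e 24 m23_S a 3) (hub : Nat.card (genLt a 3) ≠ 0 ∧ Nat.card (genLt a 3) ≤ 10200960) :
    Nat.card (genLt (m23_g a) 10) ≠ 0 ∧ Nat.card (genLt (m23_g a) 10) ≤ 20160 :=
  ((m23_low1 he h0).level (c := 20160) (m23_ub1 he h0 hub) (m23_ge2 he h0)).2

theorem m23_level2 {G α : Type*} [Group G] [MulAction G α] {e : ℕ → α} {a : ℕ → G} (he : Set.InjOn e (Set.Iio 24)) (h0 : Tabs e 24 m23_S a 3) (hub : Nat.card (genLt a 3) ≠ 0 ∧ Nat.card (genLt a 3) ≤ 10200960) :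
    Level (genLt (m23_g a) 10) (genLt (m23_g a) 8) (e 7) 21 :=
  ((m23_low2 he h0).level (c := 960) (m23_ub2 he h0 hub) (m23_ge3 he h0)).1

theorem m23_ub3 {G α : Type*} [Group G] [MulAction G α] {e : ℕ → α} {a : ℕ → G} (he : Set.InjOn e (Set.Iio 24)) (h0 : Tabs e 24 m23_S a 3) (hub : Nat.card (genLt a 3) ≠ 0 ∧ Nat.card (genLt a 3) ≤ 10200960) :
    Nat.card (genLt (m23_g a) 8) ≠ 0 ∧ Nat.card (genLt (m23_g a) 8) ≤ 960 :=
  ((m23_low2 he h0).level (c := 960) (m23_ub2 he h0 hub) (m23_ge3 he h0)).2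

theorem m23_level3 {G α : Type*} [Group G] [MulAction G α] {e : ℕ → α} {a : ℕ → G} (he : Set.InjOn e (Set.Iio 24)) (h0 : Tabs e 24 m23_S a 3) (hub : Nat.card (genLt a 3) ≠ 0 ∧ Nat.card (genLt a 3) ≤ 10200960) :
    Level (genLt (m23_g a) 8) (genLt (m23_g a) 6) (e 2) 20 :=
  ((m23_low3 he h0).level (c := 48) (m23_ub3 he h0 hub) (m23_ge4 he h0)).1

theorem m23_ub4 {G α : Type*} [Group G] [MulAction G α] {e : ℕ → α} {a : ℕ → G} (he : Set.InjOn e (Set.Iio 24)) (h0 : Tabs e 24 m23_S a 3) (hub : Nat.card (genLt a 3) ≠ 0 ∧ Nat.card (genLt a 3) ≤ 10200960) :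
    Nat.card (genLt (m23_g a) 6) ≠ 0 ∧ Nat.card (genLt (m23_g a) 6) ≤ 48 :=
  ((m23_low3 he h0).level (c := 48) (m23_ub3 he h0 hub) (m23_ge4 he h0)).2

theorem m23_level4 {G α : Type*} [Group G] [MulAction G α] {e : ℕ → α} {a : ℕ → G} (he : Set.InjOn e (Set.Iio 24)) (h0 : Tabs e 24 m23_S a 3) (hub : Nat.card (genLt a 3) ≠ 0 ∧ Nat.card (genLt a 3) ≤ 10200960) :
    Level (genLt (m23_g a) 6) (genLt (m23_g a) 4) (e 8) 3 :=
  ((m23_low4 he h0).level (c := 16) (m23_ub4 he h0 hub) (m23_ge5 he h0)).1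

theorem m23_ub5 {G α : Type*} [Group G] [MulAction G α] {e : ℕ → α} {a : ℕ → G} (he : Set.InjOn e (Set.Iio 24)) (h0 : Tabs e 24 m23_S a 3) (hub : Nat.card (genLt a 3) ≠ 0 ∧ Nat.card (genLt a 3) ≤ 10200960) :
    Nat.card (genLt (m23_g a) 4) ≠ 0 ∧ Nat.card (genLt (m23_g a) 4) ≤ 16 :=
  ((m23_low4 he h0).level (c := 16) (m23_ub4 he h0 hub) (m23_ge5 he h0)).2

theorem m23_level5 {G α : Type*} [Group G] [MulAction G α] {e : ℕ → α} {a : ℕ → G} (he : Set.InjOn e (Set.Iio 24)) (h0 : Tabs e 24 m23_S a 3) (hub : Nat.card (genLt a 3) ≠ 0 ∧ Nat.card (genLt a 3) ≤ 10200960) :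
    Level (genLt (m23_g a) 4) (genLt (m23_g a) 0) (e 18) 16 :=
  ((m23_low5 he h0).level (c := 1) (m23_ub5 he h0 hub) (one_le_card_fin _)).1

theorem m23_card5 {G α : Type*} [Group G] [MulAction G α] {e : ℕ → α} {a : ℕ → G} (he : Set.InjOn e (Set.Iio 24)) (h0 : Tabs e 24 m23_S a 3) (hub : Nat.card (genLt a 3) ≠ 0 ∧ Nat.card (genLt a 3) ≤ 10200960) :
    Nat.card (genLt (m23_g a) 4) = 16 :=
  (m23_level5 he h0 hub).card (card_genLt_zero _)

theorem m23_base5 {G α : Type*} [Group G] [MulAction G α] {e : ℕ → α} {a : ℕ → G} (he : Set.InjOn e (Set.Iio 24)) (h0 : Tabs e 24 m23_S a 3) (hub : Nat.card (genLt a 3) ≠ 0 ∧ Nat.card (genLt a 3) ≤ 10200960) :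
    IsBase e (genLt (m23_g a) 4) [18] :=
  (m23_level5 he h0 hub).base (isBase_genLt_zero _ _)

theorem m23_card4 {G α : Type*} [Group G] [MulAction G α] {e : ℕ → α} {a : ℕ → G} (he : Set.InjOn e (Set.Iio 24)) (h0 : Tabs e 24 m23_S a 3) (hub : Nat.card (genLt a 3) ≠ 0 ∧ Nat.card (genLt a 3) ≤ 10200960) :
    Nat.card (genLt (m23_g a) 6) = 48 :=
  (m23_level4 he h0 hub).card (m23_card5 he h0 hub)

theorem m23_base4 {G α : Type*} [Group G] [MulAction G α] {e : ℕ → α} {a : ℕ → G} (he : Set.InjOn e (Set.Iio 24)) (h0 : Tabs e 24 m23_S a 3) (hub : Nat.card (genLt a 3) ≠ 0 ∧ Nat.card (genLt a 3) ≤ 10200960) :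
    IsBase e (genLt (m23_g a) 6) [8, 18] :=
  (m23_level4 he h0 hub).base (m23_base5 he h0 hub)

theorem m23_card3 {G α : Type*} [Group G] [MulAction G α] {e : ℕ → α} {a : ℕ → G} (he : Set.InjOn e (Set.Iio 24)) (h0 : Tabs e 24 m23_S a 3) (hub : Nat.card (genLt a 3) ≠ 0 ∧ Nat.card (genLt a 3) ≤ 10200960) :
    Nat.card (genLt (m23_g a) 8) = 960 :=
  (m23_level3 he h0 hub).card (m23_card4 he h0 hub)

theorem m23_base3 {G α : Type*} [Group G] [MulAction G α] {e : ℕ → α} {a : ℕ → G} (he : Set.InjOn e (Set.Iio 24)) (h0 : Tabs e 24 m23_S a 3) (hub : Nat.card (genLt a 3) ≠ 0 ∧ Nat.card (genLt a 3) ≤ 10200960) :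
    IsBase e (genLt (m23_g a) 8) [2, 8, 18] :=
  (m23_level3 he h0 hub).base (m23_base4 he h0 hub)

theorem m23_card2 {G α : Type*} [Group G] [MulAction G α] {e : ℕ → α} {a : ℕ → G} (he : Set.InjOn e (Set.Iio 24)) (h0 : Tabs e 24 m23_S a 3) (hub : Nat.card (genLt a 3) ≠ 0 ∧ Nat.card (genLt a 3) ≤ 10200960) :
    Nat.card (genLt (m23_g a) 10) = 20160 :=
  (m23_level2 he h0 hub).card (m23_card3 he h0 hub)

theorem m23_base2 {G α : Type*} [Group G] [MulAction G α] {e : ℕ → α} {a : ℕ → G} (he : Set.InjOn e (Set.Iio 24)) (h0 : Tabs e 24 m23_S a 3) (hub : Nat.card (genLt a 3) ≠ 0 ∧ Nat.card (genLt a 3) ≤ 10200960) :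
    IsBase e (genLt (m23_g a) 10) [7, 2, 8, 18] :=
  (m23_level2 he h0 hub).base (m23_base3 he h0 hub)

theorem m23_card1 {G α : Type*} [Group G] [MulAction G α] {e : ℕ → α} {a : ℕ → G} (he : Set.InjOn e (Set.Iio 24)) (h0 : Tabs e 24 m23_S a 3) (hub : Nat.card (genLt a 3) ≠ 0 ∧ Nat.card (genLt a 3) ≤ 10200960) :
    Nat.card (genLt (m23_g a) 12) = 443520 :=
  (m23_level1 he h0 hub).card (m23_card2 he h0 hub)

theorem m23_base1 {G α : Type*} [Group G] [MulAction G α] {e : ℕ → α} {a : ℕ → G} (he : Set.InjOn e (Set.Iio 24)) (h0 : Tabs e 24 m23_S a 3) (hub : Nat.card (genLt a 3) ≠ 0 ∧ Nat.card (genLt a 3) ≤ 10200960) :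
    IsBase e (genLt (m23_g a) 12) [16, 7, 2, 8, 18] :=
  (m23_level1 he h0 hub).base (m23_base2 he h0 hub)

theorem m23_card0 {G α : Type*} [Group G] [MulAction G α] {e : ℕ → α} {a : ℕ → G} (he : Set.InjOn e (Set.Iio 24)) (h0 : Tabs e 24 m23_S a 3) (hub : Nat.card (genLt a 3) ≠ 0 ∧ Nat.card (genLt a 3) ≤ 10200960) :
    Nat.card (genLt (m23_g a) 18) = 10200960 :=
  (m23_level0 he h0 hub).card (m23_card1 he h0 hub)

theorem m23_base0 {G α : Type*} [Group G] [MulAction G α] {e : ℕ → α} {a : ℕ → G} (he : Set.InjOn e (Set.Iio 24)) (h0 : Tabs e 24 m23_S a 3) (hub : Nat.card (genLt a 3) ≠ 0 ∧ Nat.card (genLt a 3) ≤ 10200960) :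
    IsBase e (genLt (m23_g a) 18) [0, 16, 7, 2, 8, 18] :=
  (m23_level0 he h0 hub).base (m23_base1 he h0 hub)

theorem m23_hinv {G α : Type*} [Group G] [MulAction G α] {e : ℕ → α} {a : ℕ → G} (he : Set.InjOn e (Set.Iio 24)) (h0 : Tabs e 24 m23_S a 3) (hub : Nat.card (genLt a 3) ≠ 0 ∧ Nat.card (genLt a 3) ≤ 10200960) : ∀ x < 18, m23_g a x * m23_g a (m23_inv x) = 1 :=
  (m23_tabs h0).hinv_of_base (m23_base0 he h0 hub) (by decide +kernel)

theorem m23_card {G α : Type*} [Group G] [MulAction G α] {e : ℕ → α} {a : ℕ → G} (he : Set.InjOn e (Set.Iio 24)) (h0 : Tabs e 24 m23_S a 3) (hub : Nat.card (genLt a 3) ≠ 0 ∧ Nat.card (genLt a 3) ≤ 10200960) :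
    Nat.card (genLt a 3) = 10200960 := by
  rw [← m23_gen]; exact m23_card0 he h0 hub

end Cfsg.Agent.Spor.OutC
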