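import Mathlib
import Cfsg.Agent.Spor.Out.M23Ch
import Cfsg.Agent.Spor.Out.Gen
import Cfsg.Agent.Spor.Blocks

/-! Generated by tools/h59/outgen.py: outer automorphisms, m23 -/

set_option autoImplicit false
set_option maxRecDepth 100000
set_option linter.unusedVariables false
set_option exponentiation.threshold 100000

namespace Cfsg.Agent.Spor.OutC

open Cfsg.Agent.Spor

noncomputable def m23_la : Lv := ⟨m23_E (nat_lit 0), nat_lit 0, nat_lit 0, true, nat_lit 0, [], []⟩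

noncomputable def m23_La : List Lv :=
  [⟨m23_E (nat_lit 1), nat_lit 16, nat_lit 18, false, nat_lit 0, [nat_lit 0], []⟩,
   ⟨m23_E (nat_lit 2), nat_lit 7, nat_lit 19, false, nat_lit 0, [nat_lit 0], []⟩,
   ⟨m23_E (nat_lit 3), nat_lit 2, nat_lit 2, false, nat_lit 0, [nat_lit 0], []⟩,
   ⟨m23_E (nat_lit 4), nat_lit 8, nat_lit 10, false, nat_lit 0, [nat_lit 0,nat_lit 0], []⟩,
   ⟨m23_E (nat_lit 5), nat_lit 18, nat_lit 14, false, nat_lit 1, [nat_lit 0], []⟩]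

noncomputable def m23_lb : Lv := ⟨m23_E (nat_lit 0), nat_lit 0, nat_lit 0, true, nat_lit 0, [], [nat_lit 0]⟩

noncomputable def m23_Lb : List Lv :=
  [⟨m23_E (nat_lit 1), nat_lit 16, nat_lit 16, true, nat_lit 0, [], []⟩,
   ⟨m23_E (nat_lit 2), nat_lit 7, nat_lit 7, false, nat_lit 0, [nat_lit 0], []⟩,
   ⟨m23_E (nat_lit 3), nat_lit 2, nat_lit 2, false, nat_lit 0, [nat_lit 0], []⟩,
   ⟨m23_E (nat_lit 4), nat_lit 8, nat_lit 8, false, nat_lit 0, [nat_lit 0,nat_lit 0], []⟩,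
   ⟨m23_E (nat_lit 5), nat_lit 18, nat_lit 18, false, nat_lit 0, [nat_lit 0], []⟩]

def m23_h : List ℕ := [nat_lit 0,nat_lit 2,nat_lit 5,nat_lit 7,nat_lit 0,nat_lit 5,nat_lit 9,nat_lit 7,nat_lit 5,nat_lit 11,nat_lit 6]

def m23_Z : List ℕ := [nat_lit 4,nat_lit 7,nat_lit 8,nat_lit 7,nat_lit 0,nat_lit 6,nat_lit 3,nat_lit 2,nat_lit 0]

def m23_Rels : List (ℕ × List ℕ × List ℕ) :=
  [(nat_lit 5, [nat_lit 0,nat_lit 0,nat_lit 0,nat_lit 0,nat_lit 0,nat_lit 0,nat_lit 0,nat_lit 1,nat_lit 1,nat_lit 1,nat_lit 1,nat_lit 1,nat_lit 2], [])]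

theorem m23_s1_0 : allRange (nat_lit 0) (nat_lit 24) (siftTop m23_T m23_S m23_inv (nat_lit 24) m23_h (acc1 m23_T m23_S [nat_lit 0,nat_lit 16,nat_lit 7,nat_lit 2,nat_lit 8,nat_lit 18] (nat_lit 23)) m23_la m23_La) = true := by decide +kernel

theorem m23_s2_0 : allRange (nat_lit 0) (nat_lit 24) (siftTop m23_T (fun _ => iterF (m23_S 1) (nat_lit 3)) m23_inv (nat_lit 24) [] (acc2 m23_T m23_S [nat_lit 0,nat_lit 16,nat_lit 7,nat_lit 2,nat_lit 8,nat_lit 18] [nat_lit 1,nat_lit 5] m23_Rels [(1, m23_Z)]) m23_lb m23_Lb) = true := by decide +kernel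

theorem m23_hub {G : Type*} [Group G] (y : ℕ → G) (hc : Nat.card G = 10200960) :
    Nat.card (genLt y 3) ≠ 0 ∧ Nat.card (genLt y 3) ≤ 10200960 :=
  card_genLt_le (K := ⊤) (fun _ _ => trivial) (Subgroup.card_top.trans hc)

theorem m23_model {G α : Type*} [Group G] [MulAction G α] {e : ℕ → α} {y : ℕ → G} (he : Set.InjOn e (Set.Iio 24)) (h0 : Tabs e 24 m23_S y 3) (hc : Nat.card G = 10200960) :
    OutModel e 24 m23_T m23_S (m23_g y) y 18 m23_inv [nat_lit 0,nat_lit 16,nat_lit 7,nat_lit 2,nat_lit 8,nat_lit 18] 10200960 :=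
  have h1 := genLt_eq_of_card (K := ⊤) (fun _ _ => trivial) (Subgroup.card_top.trans hc) (m23_card he h0 (m23_hub y hc))
  ⟨(m23_tabs h0).sifter he (m23_hinv he h0 (m23_hub y hc)) (m23_base0 he h0 (m23_hub y hc)) (by decide +kernel),
    (m23_gen y).trans h1, h0, h1, hc⟩

theorem m23_sl0 {G α : Type*} [Group G] [MulAction G α] {e : ℕ → α} {y : ℕ → G} (he : Set.InjOn e (Set.Iio 24)) (h0 : Tabs e 24 m23_S y 3) (hc : Nat.card G = 10200960) :
    SLev e 24 m23_T (m23_g y) (m23_E (nat_lit 0)) 18 12 0 :=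
  (m23_tabs h0).sLev he (m23_level0 he h0 (m23_hub y hc)) m23_L0_o

theorem m23_sl1 {G α : Type*} [Group G] [MulAction G α] {e : ℕ → α} {y : ℕ → G} (he : Set.InjOn e (Set.Iio 24)) (h0 : Tabs e 24 m23_S y 3) (hc : Nat.card G = 10200960) :
    SLev e 24 m23_T (m23_g y) (m23_E (nat_lit 1)) 12 10 16 :=
  (m23_tabs h0).sLev he (m23_level1 he h0 (m23_hub y hc)) m23_L1_o

theorem m23_sl2 {G α : Type*} [Group G] [MulAction G α] {e : ℕ → α} {y : ℕ → G} (he : Set.InjOn e (Set.Iio 24)) (h0 : Tabs e 24 m23_S y 3) (hc : Nat.card G = 10200960) :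
    SLev e 24 m23_T (m23_g y) (m23_E (nat_lit 2)) 10 8 7 :=
  (m23_tabs h0).sLev he (m23_level2 he h0 (m23_hub y hc)) m23_L2_o

theorem m23_sl3 {G α : Type*} [Group G] [MulAction G α] {e : ℕ → α} {y : ℕ → G} (he : Set.InjOn e (Set.Iio 24)) (h0 : Tabs e 24 m23_S y 3) (hc : Nat.card G = 10200960) :
    SLev e 24 m23_T (m23_g y) (m23_E (nat_lit 3)) 8 6 2 :=
  (m23_tabs h0).sLev he (m23_level3 he h0 (m23_hub y hc)) m23_L3_o

theorem m23_sl4 {G α : Type*} [Group G] [MulAction G α] {e : ℕ → α} {y : ℕ → G} (he : Set.InjOn e (Set.Iio 24)) (h0 : Tabs e 24 m23_S y 3) (hc : Nat.card G = 10200960) :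
    SLev e 24 m23_T (m23_g y) (m23_E (nat_lit 4)) 6 4 8 :=
  (m23_tabs h0).sLev he (m23_level4 he h0 (m23_hub y hc)) m23_L4_o

theorem m23_sl5 {G α : Type*} [Group G] [MulAction G α] {e : ℕ → α} {y : ℕ → G} (he : Set.InjOn e (Set.Iio 24)) (h0 : Tabs e 24 m23_S y 3) (hc : Nat.card G = 10200960) :
    SLev e 24 m23_T (m23_g y) (m23_E (nat_lit 5)) 4 0 18 :=
  (m23_tabs h0).sLev he (m23_level5 he h0 (m23_hub y hc)) m23_L5_o

theorem m23_cha {G α : Type*} [Group G] [MulAction G α] {e : ℕ → α} {y : ℕ → G} (he : Set.InjOn e (Set.Iio 24)) (h0 : Tabs e 24 m23_S y 3) (hc : Nat.card G = 10200960) :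
    ChainOK e 24 m23_T (m23_g y) (m23_la :: m23_La) 18 :=
  ⟨_, m23_sl0 he h0 hc, _, m23_sl1 he h0 hc, _, m23_sl2 he h0 hc, _, m23_sl3 he h0 hc, _, m23_sl4 he h0 hc, _, m23_sl5 he h0 hc, rfl⟩

theorem m23_chb {G α : Type*} [Group G] [MulAction G α] {e : ℕ → α} {y : ℕ → G} (he : Set.InjOn e (Set.Iio 24)) (h0 : Tabs e 24 m23_S y 3) (hc : Nat.card G = 10200960) :
    ChainOK e 24 m23_T (m23_g y) (m23_lb :: m23_Lb) 18 :=
  ⟨_, m23_sl0 he h0 hc, _, m23_sl1 he h0 hc, _, m23_sl2 he h0 hc, _, m23_sl3 he h0 hc, _, m23_sl4 he h0 hc, _, m23_sl5 he h0 hc, rfl⟩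

theorem m23_s1 : ∀ q < 24, siftTop m23_T m23_S m23_inv (nat_lit 24) m23_h (acc1 m23_T m23_S [nat_lit 0,nat_lit 16,nat_lit 7,nat_lit 2,nat_lit 8,nat_lit 18] (nat_lit 23)) m23_la m23_La q = true :=
  allRange_zero m23_s1_0

theorem m23_s2 : ∀ q < 24, siftTop m23_T (fun _ => iterF (m23_S 1) (nat_lit 3)) m23_inv (nat_lit 24) [] (acc2 m23_T m23_S [nat_lit 0,nat_lit 16,nat_lit 7,nat_lit 2,nat_lit 8,nat_lit 18] [nat_lit 1,nat_lit 5] m23_Rels [(1, m23_Z)]) m23_lb m23_Lb q = true :=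
  allRange_zero m23_s2_0

theorem m23_out {G α : Type*} [Group G] [MulAction G α] {e : ℕ → α} {y : ℕ → G} (he : Set.InjOn e (Set.Iio 24)) (h0 : Tabs e 24 m23_S y 3) (hc : Nat.card G = 10200960) : Nat.card (Out G) = 1 :=
  (m23_model he h0 hc).card_out_one (by decide +kernel)
    ((m23_model he h0 hc).aut_cases (p := nat_lit 23) (κ := 2) (a := nat_lit 1) (by norm_num) (by decide +kernel)
      ((m23_model he h0 hc).centralizer (m23_cha he h0 hc) (by decide +kernel) m23_s1)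
      (m23_chb he h0 hc) (by decide +kernel) m23_s2)

end Cfsg.Agent.Spor.OutC
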