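import Mathlib
import Cfsg.Agent.Spor.Comp.Pres

/-! Generated by tools/pg: stabiliser chain m24 -/

set_option autoImplicit false
set_option maxRecDepth 100000
set_option linter.unusedVariables false
set_option exponentiation.threshold 100000

namespace Cfsg.Agent.Spor.OutC

open Cfsg.Agent.Spor

noncomputable def m24_S_t0 : BT :=
(.node (.node (.node (.node (.node (.leaf (nat_lit 0x2a906348b78cf5724a614d1790636))
 (.leaf (nat_lit 0xbae0c782240ba4828d3451ad538a6d))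
) (.node (.leaf (nat_lit 0x93937444e37b56a354a1a598498a00))
 (.leaf (nat_lit 0x78d946c650bba755a924298e8b0801))
)) (.node (.node (.leaf (nat_lit 0x82da89068778985359c38a5579d480))
 (.leaf (nat_lit 0x605f439110ab8b75a931999b200ac3))
) (.leaf (nat_lit 0x895aa64ea3039e744834b248bb8a06))
)) (.node (.node (.node (.leaf (nat_lit 0x49245638ca022971c422a9e6d5c2cf))
 (.leaf (nat_lit 0xb94880b6359b814b1d2c19970509f2))
) (.leaf (nat_lit 0x459a34c8ca7baab642773c485a0820))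
) (.node (.node (.leaf (nat_lit 0xa19471de417d9c56b2b38ad2480900))
 (.leaf (nat_lit 0xbc5ea1b4b4638155c13309ac740892))
) (.leaf (nat_lit 0x9d156bc6470382c4552b818a4189af))
))) (.node (.node (.node (.node (.leaf (nat_lit 0x228511ccf77a6adb14d482d8143a40))
 (.leaf (nat_lit 0x448115da81538ec9bd37698a418a15))
) (.leaf (nat_lit 0x4bc881baaa004ab642933b626b8a56))
) (.node (.node (.leaf (nat_lit 0x604ed2d542048931c2ee346965a12f))
 (.leaf (nat_lit 0xb9590402caaba4f5d12321a21988ed))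
) (.leaf (nat_lit 0x162121aa87b9ac1a9303cad358a97))
)) (.node (.node (.node (.leaf (nat_lit 0x2019530c347ae53859456a13171c57))
 (.leaf (nat_lit 0xb07494db003a365a92521907a8aef))
) (.leaf (nat_lit 0x19e2892ae16bab3250cb602c58092f))
) (.node (.node (.leaf (nat_lit 0x18229404aab48cb642f4391b5989cf))
 (.leaf (nat_lit 0x3c9b4658702bab35a920b99e188888))
) (.leaf (nat_lit 0x3d9f26d228aba650a930b8d8430960))
))))

noncomputable def m24_S_t : BT :=
m24_S_t0

noncomputable def m24_S : ℕ → ℕ → ℕ := fun x i => Nat.land (Nat.shiftRight (BT.get m24_S_t x) (Nat.mul (nat_lit 5) i)) (nat_lit 31)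

noncomputable def m24_defs : LT :=
(.node (.node (.node (.node (.node (.leaf [nat_lit 0])
 (.leaf [nat_lit 0,nat_lit 15,nat_lit 13,nat_lit 14,nat_lit 15,nat_lit 13,nat_lit 14,nat_lit 13,nat_lit 15])
) (.node (.leaf [nat_lit 1,nat_lit 6])
 (.leaf [nat_lit 0,nat_lit 21,nat_lit 20,nat_lit 22])
)) (.node (.node (.leaf [nat_lit 1,nat_lit 1])
 (.leaf [nat_lit 0,nat_lit 18,nat_lit 17,nat_lit 16])
) (.leaf [nat_lit 1,nat_lit 11])
)) (.node (.node (.node (.leaf [nat_lit 0])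
 (.leaf [nat_lit 1,nat_lit 16])
) (.leaf [nat_lit 0,nat_lit 9,nat_lit 9,nat_lit 9])
) (.node (.node (.leaf [nat_lit 0,nat_lit 2,nat_lit 2,nat_lit 1])
 (.leaf [nat_lit 1,nat_lit 21])
) (.leaf [nat_lit 0,nat_lit 12,nat_lit 12,nat_lit 10,nat_lit 11,nat_lit 11])
))) (.node (.node (.node (.node (.leaf [nat_lit 0])
 (.leaf [nat_lit 0,nat_lit 15,nat_lit 14,nat_lit 15])
) (.leaf [nat_lit 1,nat_lit 7])
) (.node (.node (.leaf [nat_lit 1,nat_lit 2])
 (.leaf [nat_lit 0,nat_lit 16,nat_lit 17,nat_lit 16,nat_lit 14,nat_lit 18,nat_lit 17])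
) (.leaf [nat_lit 0,nat_lit 11,nat_lit 10,nat_lit 12])
)) (.node (.node (.node (.leaf [nat_lit 1,nat_lit 0])
 (.leaf [nat_lit 0,nat_lit 18,nat_lit 14,nat_lit 16])
) (.leaf [nat_lit 0,nat_lit 8,nat_lit 8,nat_lit 7,nat_lit 8])
) (.node (.node (.leaf [nat_lit 0,nat_lit 0,nat_lit 4,nat_lit 2])
 (.leaf [nat_lit 0,nat_lit 21,nat_lit 19,nat_lit 22])
) (.leaf [nat_lit 0,nat_lit 10,nat_lit 12,nat_lit 10,nat_lit 11,nat_lit 10])
))))
noncomputable def m24_iota : ℕ → ℕ := getP (nat_lit 8) (nat_lit 255) (nat_lit 0x5020401030008060a0d11161518171413)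
noncomputable def m24_inv : ℕ → ℕ := getP (nat_lit 8) (nat_lit 255) (nat_lit 0xf100d0e0b0c090a080706040503020100)
noncomputable def m24_hws : LT := .leaf []

noncomputable def m24_T_t0 : BT :=
(.node (.node (.node (.node (.node (.leaf (nat_lit 0xb07494db003a365a92521907a8aef))
 (.leaf (nat_lit 0x604ed2d542048931c2ee346965a12f))
) (.leaf (nat_lit 0x459a34c8ca7baab642773c485a0820))
) (.node (.leaf (nat_lit 0xb9590402caaba4f5d12321a21988ed))
 (.leaf (nat_lit 0x2019530c347ae53859456a13171c57))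
)) (.node (.node (.leaf (nat_lit 0x3c9b4658702bab35a920b99e188888))
 (.leaf (nat_lit 0x93937444e37b56a354a1a598498a00))
) (.node (.leaf (nat_lit 0x448115da81538ec9bd37698a418a15))
 (.leaf (nat_lit 0x82da89068778985359c38a5579d480))
))) (.node (.node (.node (.leaf (nat_lit 0x605f439110ab8b75a931999b200ac3))
 (.leaf (nat_lit 0xa19471de417d9c56b2b38ad2480900))
) (.node (.leaf (nat_lit 0xbc5ea1b4b4638155c13309ac740892))
 (.leaf (nat_lit 0x228511ccf77a6adb14d482d8143a40))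
)) (.node (.node (.leaf (nat_lit 0x78d946c650bba755a924298e8b0801))
 (.leaf (nat_lit 0x2a906348b78cf5724a614d1790636))
) (.node (.leaf (nat_lit 0x162121aa87b9ac1a9303cad358a97))
 (.leaf (nat_lit 0x49245638ca022971c422a9e6d5c2cf))
))))

noncomputable def m24_T_t : BT :=
m24_T_t0

noncomputable def m24_T : ℕ → ℕ → ℕ := fun x i => Nat.land (Nat.shiftRight (BT.get m24_T_t x) (Nat.mul (nat_lit 5) i)) (nat_lit 31)

noncomputable def m24_E_t0 : BT :=
(.node (.node (.node (.leaf (nat_lit 0x600c0506b07602c398621060283983303616c2987a0f416c3d81b0261840106303))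
 (.leaf (nat_lit 0x80500a01d0640cc0201d0680a00181b022014180030560200201c0160800202405))
) (.node (.leaf (nat_lit 0x80500a01c08410c0201c0780a00181b0260d4188030560301e01b0760800202405))
 (.leaf (nat_lit 0x60740d8100060700d8080040400100c03000000002004060008030380400201b02))
)) (.node (.node (.leaf (nat_lit 0x80282981407606c098240680a40104b006130260540a60cc2982c0260600180b04))
 (.leaf (nat_lit 0x2050000000020400000000000000400000000000000000000000000000))
) (.leaf (nat_lit 0x80ec0a03c0660081d81d078000018240280d4100040580240202b0180800201305))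
))

noncomputable def m24_E_t : BT :=
m24_E_t0

noncomputable def m24_E : ℕ → ℕ → ℕ := fun x i => Nat.land (Nat.shiftRight (BT.get m24_E_t x) (Nat.mul (nat_lit 11) i)) (nat_lit 2047)

theorem m24_slp0 : allLt (nat_lit 22) (fun i => force (Nat.add (nat_lit 3) i) (slpOK m24_S m24_defs (nat_lit 24))) = true := by decide +kernel

theorem m24_ren : allLt (nat_lit 17) (fun x => force (m24_iota x) fun y => band (blt y (nat_lit 25)) (allRange (nat_lit 0) (nat_lit 24) fun i => Nat.beq (m24_S y i) (m24_T x i))) = true := by decide +kernel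

theorem m24_L6_o : band (allRange (nat_lit 0) (nat_lit 24) (orbOK m24_T (nat_lit 4) (m24_E (nat_lit 6)) (Nat.beq (nat_lit 5)))) (band (Nat.ble (nat_lit 16) (count2 (nat_lit 24) fun p => Nat.ble 256 (m24_E (nat_lit 6) p))) (allLt (nat_lit 0) (fun x => Nat.beq (m24_T x (nat_lit 5)) (nat_lit 5)))) = true := by decide +kernel

theorem m24_L5_o : band (allRange (nat_lit 0) (nat_lit 24) (orbOK m24_T (nat_lit 6) (m24_E (nat_lit 5)) (Nat.beq (nat_lit 10)))) (band (Nat.ble (nat_lit 3) (count2 (nat_lit 24) fun p => Nat.ble 256 (m24_E (nat_lit 5) p))) (allLt (nat_lit 4) (fun x => Nat.beq (m24_T x (nat_lit 10)) (nat_lit 10)))) = true := by decide +kernel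

theorem m24_L4_o : band (allRange (nat_lit 0) (nat_lit 24) (orbOK m24_T (nat_lit 7) (m24_E (nat_lit 4)) (Nat.beq (nat_lit 11)))) (band (Nat.ble (nat_lit 20) (count2 (nat_lit 24) fun p => Nat.ble 256 (m24_E (nat_lit 4) p))) (allLt (nat_lit 6) (fun x => Nat.beq (m24_T x (nat_lit 11)) (nat_lit 11)))) = true := by decide +kernel

theorem m24_L3_o : band (allRange (nat_lit 0) (nat_lit 24) (orbOK m24_T (nat_lit 8) (m24_E (nat_lit 3)) (Nat.beq (nat_lit 6)))) (band (Nat.ble (nat_lit 21) (count2 (nat_lit 24) fun p => Nat.ble 256 (m24_E (nat_lit 3) p))) (allLt (nat_lit 7) (fun x => Nat.beq (m24_T x (nat_lit 6)) (nat_lit 6)))) = true := by decide +kernel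

theorem m24_L2_o : band (allRange (nat_lit 0) (nat_lit 24) (orbOK m24_T (nat_lit 9) (m24_E (nat_lit 2)) (Nat.beq (nat_lit 9)))) (band (Nat.ble (nat_lit 22) (count2 (nat_lit 24) fun p => Nat.ble 256 (m24_E (nat_lit 2) p))) (allLt (nat_lit 8) (fun x => Nat.beq (m24_T x (nat_lit 9)) (nat_lit 9)))) = true := by decide +kernel

theorem m24_L1_o : band (allRange (nat_lit 0) (nat_lit 24) (orbOK m24_T (nat_lit 11) (m24_E (nat_lit 1)) (Nat.beq (nat_lit 14)))) (band (Nat.ble (nat_lit 23) (count2 (nat_lit 24) fun p => Nat.ble 256 (m24_E (nat_lit 1) p))) (allLt (nat_lit 9) (fun x => Nat.beq (m24_T x (nat_lit 14)) (nat_lit 14)))) = true := by decide +kernel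

theorem m24_L0_o : band (allRange (nat_lit 0) (nat_lit 24) (orbOK m24_T (nat_lit 17) (m24_E (nat_lit 0)) (Nat.beq (nat_lit 2)))) (band (Nat.ble (nat_lit 24) (count2 (nat_lit 24) fun p => Nat.ble 256 (m24_E (nat_lit 0) p))) (allLt (nat_lit 11) (fun x => Nat.beq (m24_T x (nat_lit 2)) (nat_lit 2)))) = true := by decide +kernel

/-- The letters: a strong generating set, deepest stabiliser first. -/
noncomputable def m24_g {G : Type*} [Group G] (a : ℕ → G) : ℕ → G := fun x => slp a 3 m24_defs (m24_iota x)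

theorem m24_tabs {G α : Type*} [Group G] [MulAction G α] {e : ℕ → α} {a : ℕ → G} (h0 : Tabs e 24 m24_S a 3) : Tabs e 24 m24_T (m24_g a) 17 :=
  Tabs.rename (ι := m24_iota) (g := slp a 3 m24_defs) ((Tabs.slp_base m24_defs h0).slp_add (by decide) _ m24_slp0) m24_ren

theorem m24_gen {G : Type*} [Group G] (a : ℕ → G) : genLt (m24_g a) 17 = genLt a 3 :=
  genLt_slp_eq a m24_defs (back := getP 8 255 (nat_lit 0xf0d0b)) (by decide +kernel)

theorem m24_low6 {G α : Type*} [Group G] [MulAction G α] {e : ℕ → α} {a : ℕ → G} (he : Set.InjOn e (Set.Iio 24)) (h0 : Tabs e 24 m24_S a 3) :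
    LowLevel (genLt (m24_g a) 4) (genLt (m24_g a) 0) (e 5) 16 :=
  Tabs.lowLevel (m24_tabs h0) he (by decide) (by decide) (by decide) m24_L6_o

theorem m24_ge6 {G α : Type*} [Group G] [MulAction G α] {e : ℕ → α} {a : ℕ → G} (he : Set.InjOn e (Set.Iio 24)) (h0 : Tabs e 24 m24_S a 3) :
    Finite (genLt (m24_g a) 4) → 16 ≤ Nat.card (genLt (m24_g a) 4) := fun hK =>
  (m24_low6 he h0).card hK (one_le_card_fin _)

theorem m24_fix6 {G α : Type*} [Group G] [MulAction G α] {e : ℕ → α} {a : ℕ → G} (he : Set.InjOn e (Set.Iio 24)) (h0 : Tabs e 24 m24_S a 3) :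
    ∀ X : Subgroup G, Finite X → (genLt (m24_g a) 4) ≤ X → 16 * Nat.card (fixB e X [5]) ≤ Nat.card X :=
  (m24_low6 he h0).card_fix (card_fix_nil _ _)

theorem m24_low5 {G α : Type*} [Group G] [MulAction G α] {e : ℕ → α} {a : ℕ → G} (he : Set.InjOn e (Set.Iio 24)) (h0 : Tabs e 24 m24_S a 3) :
    LowLevel (genLt (m24_g a) 6) (genLt (m24_g a) 4) (e 10) 3 :=
  Tabs.lowLevel (m24_tabs h0) he (by decide) (by decide) (by decide) m24_L5_o

theorem m24_ge5 {G α : Type*} [Group G] [MulAction G α] {e : ℕ → α} {a : ℕ → G} (he : Set.InjOn e (Set.Iio 24)) (h0 : Tabs e 24 m24_S a 3) :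
    Finite (genLt (m24_g a) 6) → 48 ≤ Nat.card (genLt (m24_g a) 6) := fun hK =>
  (m24_low5 he h0).card hK (m24_ge6 he h0)

theorem m24_fix5 {G α : Type*} [Group G] [MulAction G α] {e : ℕ → α} {a : ℕ → G} (he : Set.InjOn e (Set.Iio 24)) (h0 : Tabs e 24 m24_S a 3) :
    ∀ X : Subgroup G, Finite X → (genLt (m24_g a) 6) ≤ X → 48 * Nat.card (fixB e X [10, 5]) ≤ Nat.card X :=
  (m24_low5 he h0).card_fix (m24_fix6 he h0)

theorem m24_low4 {G α : Type*} [Group G] [MulAction G α] {e : ℕ → α} {a : ℕ → G} (he : Set.InjOn e (Set.Iio 24)) (h0 : Tabs e 24 m24_S a 3) :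
    LowLevel (genLt (m24_g a) 7) (genLt (m24_g a) 6) (e 11) 20 :=
  Tabs.lowLevel (m24_tabs h0) he (by decide) (by decide) (by decide) m24_L4_o

theorem m24_ge4 {G α : Type*} [Group G] [MulAction G α] {e : ℕ → α} {a : ℕ → G} (he : Set.InjOn e (Set.Iio 24)) (h0 : Tabs e 24 m24_S a 3) :
    Finite (genLt (m24_g a) 7) → 960 ≤ Nat.card (genLt (m24_g a) 7) := fun hK =>
  (m24_low4 he h0).card hK (m24_ge5 he h0)

theorem m24_fix4 {G α : Type*} [Group G] [MulAction G α] {e : ℕ → α} {a : ℕ → G} (he : Set.InjOn e (Set.Iio 24)) (h0 : Tabs e 24 m24_S a 3) :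
    ∀ X : Subgroup G, Finite X → (genLt (m24_g a) 7) ≤ X → 960 * Nat.card (fixB e X [11, 10, 5]) ≤ Nat.card X :=
  (m24_low4 he h0).card_fix (m24_fix5 he h0)

theorem m24_low3 {G α : Type*} [Group G] [MulAction G α] {e : ℕ → α} {a : ℕ → G} (he : Set.InjOn e (Set.Iio 24)) (h0 : Tabs e 24 m24_S a 3) :
    LowLevel (genLt (m24_g a) 8) (genLt (m24_g a) 7) (e 6) 21 :=
  Tabs.lowLevel (m24_tabs h0) he (by decide) (by decide) (by decide) m24_L3_o

theorem m24_ge3 {G α : Type*} [Group G] [MulAction G α] {e : ℕ → α} {a : ℕ → G} (he : Set.InjOn e (Set.Iio 24)) (h0 : Tabs e 24 m24_S a 3) :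
    Finite (genLt (m24_g a) 8) → 20160 ≤ Nat.card (genLt (m24_g a) 8) := fun hK =>
  (m24_low3 he h0).card hK (m24_ge4 he h0)

theorem m24_fix3 {G α : Type*} [Group G] [MulAction G α] {e : ℕ → α} {a : ℕ → G} (he : Set.InjOn e (Set.Iio 24)) (h0 : Tabs e 24 m24_S a 3) :
    ∀ X : Subgroup G, Finite X → (genLt (m24_g a) 8) ≤ X → 20160 * Nat.card (fixB e X [6, 11, 10, 5]) ≤ Nat.card X :=
  (m24_low3 he h0).card_fix (m24_fix4 he h0)

theorem m24_low2 {G α : Type*} [Group G] [MulAction G α] {e : ℕ → α} {a : ℕ → G} (he : Set.InjOn e (Set.Iio 24)) (h0 : Tabs e 24 m24_S a 3) :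
    LowLevel (genLt (m24_g a) 9) (genLt (m24_g a) 8) (e 9) 22 :=
  Tabs.lowLevel (m24_tabs h0) he (by decide) (by decide) (by decide) m24_L2_o

theorem m24_ge2 {G α : Type*} [Group G] [MulAction G α] {e : ℕ → α} {a : ℕ → G} (he : Set.InjOn e (Set.Iio 24)) (h0 : Tabs e 24 m24_S a 3) :
    Finite (genLt (m24_g a) 9) → 443520 ≤ Nat.card (genLt (m24_g a) 9) := fun hK =>
  (m24_low2 he h0).card hK (m24_ge3 he h0)

theorem m24_fix2 {G α : Type*} [Group G] [MulAction G α] {e : ℕ → α} {a : ℕ → G} (he : Set.InjOn e (Set.Iio 24)) (h0 : Tabs e 24 m24_S a 3) :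
    ∀ X : Subgroup G, Finite X → (genLt (m24_g a) 9) ≤ X → 443520 * Nat.card (fixB e X [9, 6, 11, 10, 5]) ≤ Nat.card X :=
  (m24_low2 he h0).card_fix (m24_fix3 he h0)

theorem m24_low1 {G α : Type*} [Group G] [MulAction G α] {e : ℕ → α} {a : ℕ → G} (he : Set.InjOn e (Set.Iio 24)) (h0 : Tabs e 24 m24_S a 3) :
    LowLevel (genLt (m24_g a) 11) (genLt (m24_g a) 9) (e 14) 23 :=
  Tabs.lowLevel (m24_tabs h0) he (by decide) (by decide) (by decide) m24_L1_o

theorem m24_ge1 {G α : Type*} [Group G] [MulAction G α] {e : ℕ → α} {a : ℕ → G} (he : Set.InjOn e (Set.Iio 24)) (h0 : Tabs e 24 m24_S a 3) :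
    Finite (genLt (m24_g a) 11) → 10200960 ≤ Nat.card (genLt (m24_g a) 11) := fun hK =>
  (m24_low1 he h0).card hK (m24_ge2 he h0)

theorem m24_fix1 {G α : Type*} [Group G] [MulAction G α] {e : ℕ → α} {a : ℕ → G} (he : Set.InjOn e (Set.Iio 24)) (h0 : Tabs e 24 m24_S a 3) :
    ∀ X : Subgroup G, Finite X → (genLt (m24_g a) 11) ≤ X → 10200960 * Nat.card (fixB e X [14, 9, 6, 11, 10, 5]) ≤ Nat.card X :=
  (m24_low1 he h0).card_fix (m24_fix2 he h0)

theorem m24_low0 {G α : Type*} [Group G] [MulAction G α] {e : ℕ → α} {a : ℕ → G} (he : Set.InjOn e (Set.Iio 24)) (h0 : Tabs e 24 m24_S a 3) :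
    LowLevel (genLt (m24_g a) 17) (genLt (m24_g a) 11) (e 2) 24 :=
  Tabs.lowLevel (m24_tabs h0) he (by decide) (by decide) (by decide) m24_L0_o

theorem m24_ge0 {G α : Type*} [Group G] [MulAction G α] {e : ℕ → α} {a : ℕ → G} (he : Set.InjOn e (Set.Iio 24)) (h0 : Tabs e 24 m24_S a 3) :
    Finite (genLt (m24_g a) 17) → 244823040 ≤ Nat.card (genLt (m24_g a) 17) := fun hK =>
  (m24_low0 he h0).card hK (m24_ge1 he h0)

theorem m24_fix0 {G α : Type*} [Group G] [MulAction G α] {e : ℕ → α} {a : ℕ → G} (he : Set.InjOn e (Set.Iio 24)) (h0 : Tabs e 24 m24_S a 3) :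
    ∀ X : Subgroup G, Finite X → (genLt (m24_g a) 17) ≤ X → 244823040 * Nat.card (fixB e X [2, 14, 9, 6, 11, 10, 5]) ≤ Nat.card X :=
  (m24_low0 he h0).card_fix (m24_fix1 he h0)

theorem m24_ub0 {G α : Type*} [Group G] [MulAction G α] {e : ℕ → α} {a : ℕ → G} (he : Set.InjOn e (Set.Iio 24)) (h0 : Tabs e 24 m24_S a 3) (hub : Nat.card (genLt a 3) ≠ 0 ∧ Nat.card (genLt a 3) ≤ 244823040) :
    Nat.card (genLt (m24_g a) 17) ≠ 0 ∧ Nat.card (genLt (m24_g a) 17) ≤ 244823040 := by rw [m24_gen]; exact hub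

theorem m24_level0 {G α : Type*} [Group G] [MulAction G α] {e : ℕ → α} {a : ℕ → G} (he : Set.InjOn e (Set.Iio 24)) (h0 : Tabs e 24 m24_S a 3) (hub : Nat.card (genLt a 3) ≠ 0 ∧ Nat.card (genLt a 3) ≤ 244823040) :
    Level (genLt (m24_g a) 17) (genLt (m24_g a) 11) (e 2) 24 :=
  ((m24_low0 he h0).level (c := 10200960) (m24_ub0 he h0 hub) (m24_ge1 he h0)).1

theorem m24_ub1 {G α : Type*} [Group G] [MulAction G α] {e : ℕ → α} {a : ℕ → G} (he : Set.InjOn e (Set.Iio 24)) (h0 : Tabs e 24 m24_S a 3) (hub : Nat.card (genLt a 3) ≠ 0 ∧ Nat.card (genLt a 3) ≤ 244823040) :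
    Nat.card (genLt (m24_g a) 11) ≠ 0 ∧ Nat.card (genLt (m24_g a) 11) ≤ 10200960 :=
  ((m24_low0 he h0).level (c := 10200960) (m24_ub0 he h0 hub) (m24_ge1 he h0)).2

theorem m24_level1 {G α : Type*} [Group G] [MulAction G α] {e : ℕ → α} {a : ℕ → G} (he : Set.InjOn e (Set.Iio 24)) (h0 : Tabs e 24 m24_S a 3) (hub : Nat.card (genLt a 3) ≠ 0 ∧ Nat.card (genLt a 3) ≤ 244823040) :
    Level (genLt (m24_g a) 11) (genLt (m24_g a) 9) (e 14) 23 :=
  ((m24_low1 he h0).level (c := 443520) (m24_ub1 he h0 hub) (m24_ge2 he h0)).1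

theorem m24_ub2 {G α : Type*} [Group G] [MulAction G α] {e : ℕ → α} {a : ℕ → G} (he : Set.InjOn e (Set.Iio 24)) (h0 : Tabs e 24 m24_S a 3) (hub : Nat.card (genLt a 3) ≠ 0 ∧ Nat.card (genLt a 3) ≤ 244823040) :
    Nat.card (genLt (m24_g a) 9) ≠ 0 ∧ Nat.card (genLt (m24_g a) 9) ≤ 443520 :=
  ((m24_low1 he h0).level (c := 443520) (m24_ub1 he h0 hub) (m24_ge2 he h0)).2

theorem m24_level2 {G α : Type*} [Group G] [MulAction G α] {e : ℕ → α} {a : ℕ → G} (he : Set.InjOn e (Set.Iio 24)) (h0 : Tabs e 24 m24_S a 3) (hub : Nat.card (genLt a 3) ≠ 0 ∧ Nat.card (genLt a 3) ≤ 244823040) :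
    Level (genLt (m24_g a) 9) (genLt (m24_g a) 8) (e 9) 22 :=
  ((m24_low2 he h0).level (c := 20160) (m24_ub2 he h0 hub) (m24_ge3 he h0)).1

theorem m24_ub3 {G α : Type*} [Group G] [MulAction G α] {e : ℕ → α} {a : ℕ → G} (he : Set.InjOn e (Set.Iio 24)) (h0 : Tabs e 24 m24_S a 3) (hub : Nat.card (genLt a 3) ≠ 0 ∧ Nat.card (genLt a 3) ≤ 244823040) :
    Nat.card (genLt (m24_g a) 8) ≠ 0 ∧ Nat.card (genLt (m24_g a) 8) ≤ 20160 :=
  ((m24_low2 he h0).level (c := 20160) (m24_ub2 he h0 hub) (m24_ge3 he h0)).2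

theorem m24_level3 {G α : Type*} [Group G] [MulAction G α] {e : ℕ → α} {a : ℕ → G} (he : Set.InjOn e (Set.Iio 24)) (h0 : Tabs e 24 m24_S a 3) (hub : Nat.card (genLt a 3) ≠ 0 ∧ Nat.card (genLt a 3) ≤ 244823040) :
    Level (genLt (m24_g a) 8) (genLt (m24_g a) 7) (e 6) 21 :=
  ((m24_low3 he h0).level (c := 960) (m24_ub3 he h0 hub) (m24_ge4 he h0)).1

theorem m24_ub4 {G α : Type*} [Group G] [MulAction G α] {e : ℕ → α} {a : ℕ → G} (he : Set.InjOn e (Set.Iio 24)) (h0 : Tabs e 24 m24_S a 3) (hub : Nat.card (genLt a 3) ≠ 0 ∧ Nat.card (genLt a 3) ≤ 244823040) :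
    Nat.card (genLt (m24_g a) 7) ≠ 0 ∧ Nat.card (genLt (m24_g a) 7) ≤ 960 :=
  ((m24_low3 he h0).level (c := 960) (m24_ub3 he h0 hub) (m24_ge4 he h0)).2

theorem m24_level4 {G α : Type*} [Group G] [MulAction G α] {e : ℕ → α} {a : ℕ → G} (he : Set.InjOn e (Set.Iio 24)) (h0 : Tabs e 24 m24_S a 3) (hub : Nat.card (genLt a 3) ≠ 0 ∧ Nat.card (genLt a 3) ≤ 244823040) :
    Level (genLt (m24_g a) 7) (genLt (m24_g a) 6) (e 11) 20 :=
  ((m24_low4 he h0).level (c := 48) (m24_ub4 he h0 hub) (m24_ge5 he h0)).1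

theorem m24_ub5 {G α : Type*} [Group G] [MulAction G α] {e : ℕ → α} {a : ℕ → G} (he : Set.InjOn e (Set.Iio 24)) (h0 : Tabs e 24 m24_S a 3) (hub : Nat.card (genLt a 3) ≠ 0 ∧ Nat.card (genLt a 3) ≤ 244823040) :
    Nat.card (genLt (m24_g a) 6) ≠ 0 ∧ Nat.card (genLt (m24_g a) 6) ≤ 48 :=
  ((m24_low4 he h0).level (c := 48) (m24_ub4 he h0 hub) (m24_ge5 he h0)).2

theorem m24_level5 {G α : Type*} [Group G] [MulAction G α] {e : ℕ → α} {a : ℕ → G} (he : Set.InjOn e (Set.Iio 24)) (h0 : Tabs e 24 m24_S a 3) (hub : Nat.card (genLt a 3) ≠ 0 ∧ Nat.card (genLt a 3) ≤ 244823040) :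
    Level (genLt (m24_g a) 6) (genLt (m24_g a) 4) (e 10) 3 :=
  ((m24_low5 he h0).level (c := 16) (m24_ub5 he h0 hub) (m24_ge6 he h0)).1

theorem m24_ub6 {G α : Type*} [Group G] [MulAction G α] {e : ℕ → α} {a : ℕ → G} (he : Set.InjOn e (Set.Iio 24)) (h0 : Tabs e 24 m24_S a 3) (hub : Nat.card (genLt a 3) ≠ 0 ∧ Nat.card (genLt a 3) ≤ 244823040) :
    Nat.card (genLt (m24_g a) 4) ≠ 0 ∧ Nat.card (genLt (m24_g a) 4) ≤ 16 :=
  ((m24_low5 he h0).level (c := 16) (m24_ub5 he h0 hub) (m24_ge6 he h0)).2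

theorem m24_level6 {G α : Type*} [Group G] [MulAction G α] {e : ℕ → α} {a : ℕ → G} (he : Set.InjOn e (Set.Iio 24)) (h0 : Tabs e 24 m24_S a 3) (hub : Nat.card (genLt a 3) ≠ 0 ∧ Nat.card (genLt a 3) ≤ 244823040) :
    Level (genLt (m24_g a) 4) (genLt (m24_g a) 0) (e 5) 16 :=
  ((m24_low6 he h0).level (c := 1) (m24_ub6 he h0 hub) (one_le_card_fin _)).1

theorem m24_card6 {G α : Type*} [Group G] [MulAction G α] {e : ℕ → α} {a : ℕ → G} (he : Set.InjOn e (Set.Iio 24)) (h0 : Tabs e 24 m24_S a 3) (hub : Nat.card (genLt a 3) ≠ 0 ∧ Nat.card (genLt a 3) ≤ 244823040) :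
    Nat.card (genLt (m24_g a) 4) = 16 :=
  (m24_level6 he h0 hub).card (card_genLt_zero _)

theorem m24_base6 {G α : Type*} [Group G] [MulAction G α] {e : ℕ → α} {a : ℕ → G} (he : Set.InjOn e (Set.Iio 24)) (h0 : Tabs e 24 m24_S a 3) (hub : Nat.card (genLt a 3) ≠ 0 ∧ Nat.card (genLt a 3) ≤ 244823040) :
    IsBase e (genLt (m24_g a) 4) [5] :=
  (m24_level6 he h0 hub).base (isBase_genLt_zero _ _)

theorem m24_card5 {G α : Type*} [Group G] [MulAction G α] {e : ℕ → α} {a : ℕ → G} (he : Set.InjOn e (Set.Iio 24)) (h0 : Tabs e 24 m24_S a 3) (hub : Nat.card (genLt a 3) ≠ 0 ∧ Nat.card (genLt a 3) ≤ 244823040) :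
    Nat.card (genLt (m24_g a) 6) = 48 :=
  (m24_level5 he h0 hub).card (m24_card6 he h0 hub)

theorem m24_base5 {G α : Type*} [Group G] [MulAction G α] {e : ℕ → α} {a : ℕ → G} (he : Set.InjOn e (Set.Iio 24)) (h0 : Tabs e 24 m24_S a 3) (hub : Nat.card (genLt a 3) ≠ 0 ∧ Nat.card (genLt a 3) ≤ 244823040) :
    IsBase e (genLt (m24_g a) 6) [10, 5] :=
  (m24_level5 he h0 hub).base (m24_base6 he h0 hub)

theorem m24_card4 {G α : Type*} [Group G] [MulAction G α] {e : ℕ → α} {a : ℕ → G} (he : Set.InjOn e (Set.Iio 24)) (h0 : Tabs e 24 m24_S a 3) (hub : Nat.card (genLt a 3) ≠ 0 ∧ Nat.card (genLt a 3) ≤ 244823040) :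
    Nat.card (genLt (m24_g a) 7) = 960 :=
  (m24_level4 he h0 hub).card (m24_card5 he h0 hub)

theorem m24_base4 {G α : Type*} [Group G] [MulAction G α] {e : ℕ → α} {a : ℕ → G} (he : Set.InjOn e (Set.Iio 24)) (h0 : Tabs e 24 m24_S a 3) (hub : Nat.card (genLt a 3) ≠ 0 ∧ Nat.card (genLt a 3) ≤ 244823040) :
    IsBase e (genLt (m24_g a) 7) [11, 10, 5] :=
  (m24_level4 he h0 hub).base (m24_base5 he h0 hub)

theorem m24_card3 {G α : Type*} [Group G] [MulAction G α] {e : ℕ → α} {a : ℕ → G} (he : Set.InjOn e (Set.Iio 24)) (h0 : Tabs e 24 m24_S a 3) (hub : Nat.card (genLt a 3) ≠ 0 ∧ Nat.card (genLt a 3) ≤ 244823040) :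
    Nat.card (genLt (m24_g a) 8) = 20160 :=
  (m24_level3 he h0 hub).card (m24_card4 he h0 hub)

theorem m24_base3 {G α : Type*} [Group G] [MulAction G α] {e : ℕ → α} {a : ℕ → G} (he : Set.InjOn e (Set.Iio 24)) (h0 : Tabs e 24 m24_S a 3) (hub : Nat.card (genLt a 3) ≠ 0 ∧ Nat.card (genLt a 3) ≤ 244823040) :
    IsBase e (genLt (m24_g a) 8) [6, 11, 10, 5] :=
  (m24_level3 he h0 hub).base (m24_base4 he h0 hub)

theorem m24_card2 {G α : Type*} [Group G] [MulAction G α] {e : ℕ → α} {a : ℕ → G} (he : Set.InjOn e (Set.Iio 24)) (h0 : Tabs e 24 m24_S a 3) (hub : Nat.card (genLt a 3) ≠ 0 ∧ Nat.card (genLt a 3) ≤ 244823040) :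
    Nat.card (genLt (m24_g a) 9) = 443520 :=
  (m24_level2 he h0 hub).card (m24_card3 he h0 hub)

theorem m24_base2 {G α : Type*} [Group G] [MulAction G α] {e : ℕ → α} {a : ℕ → G} (he : Set.InjOn e (Set.Iio 24)) (h0 : Tabs e 24 m24_S a 3) (hub : Nat.card (genLt a 3) ≠ 0 ∧ Nat.card (genLt a 3) ≤ 244823040) :
    IsBase e (genLt (m24_g a) 9) [9, 6, 11, 10, 5] :=
  (m24_level2 he h0 hub).base (m24_base3 he h0 hub)

theorem m24_card1 {G α : Type*} [Group G] [MulAction G α] {e : ℕ → α} {a : ℕ → G} (he : Set.InjOn e (Set.Iio 24)) (h0 : Tabs e 24 m24_S a 3) (hub : Nat.card (genLt a 3) ≠ 0 ∧ Nat.card (genLt a 3) ≤ 244823040) :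
    Nat.card (genLt (m24_g a) 11) = 10200960 :=
  (m24_level1 he h0 hub).card (m24_card2 he h0 hub)

theorem m24_base1 {G α : Type*} [Group G] [MulAction G α] {e : ℕ → α} {a : ℕ → G} (he : Set.InjOn e (Set.Iio 24)) (h0 : Tabs e 24 m24_S a 3) (hub : Nat.card (genLt a 3) ≠ 0 ∧ Nat.card (genLt a 3) ≤ 244823040) :
    IsBase e (genLt (m24_g a) 11) [14, 9, 6, 11, 10, 5] :=
  (m24_level1 he h0 hub).base (m24_base2 he h0 hub)

theorem m24_card0 {G α : Type*} [Group G] [MulAction G α] {e : ℕ → α} {a : ℕ → G} (he : Set.InjOn e (Set.Iio 24)) (h0 : Tabs e 24 m24_S a 3) (hub : Nat.card (genLt a 3) ≠ 0 ∧ Nat.card (genLt a 3) ≤ 244823040) :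
    Nat.card (genLt (m24_g a) 17) = 244823040 :=
  (m24_level0 he h0 hub).card (m24_card1 he h0 hub)

theorem m24_base0 {G α : Type*} [Group G] [MulAction G α] {e : ℕ → α} {a : ℕ → G} (he : Set.InjOn e (Set.Iio 24)) (h0 : Tabs e 24 m24_S a 3) (hub : Nat.card (genLt a 3) ≠ 0 ∧ Nat.card (genLt a 3) ≤ 244823040) :
    IsBase e (genLt (m24_g a) 17) [2, 14, 9, 6, 11, 10, 5] :=
  (m24_level0 he h0 hub).base (m24_base1 he h0 hub)

theorem m24_hinv {G α : Type*} [Group G] [MulAction G α] {e : ℕ → α} {a : ℕ → G} (he : Set.InjOn e (Set.Iio 24)) (h0 : Tabs e 24 m24_S a 3) (hub : Nat.card (genLt a 3) ≠ 0 ∧ Nat.card (genLt a 3) ≤ 244823040) : ∀ x < 17, m24_g a x * m24_g a (m24_inv x) = 1 :=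
  (m24_tabs h0).hinv_of_base (m24_base0 he h0 hub) (by decide +kernel)

theorem m24_card {G α : Type*} [Group G] [MulAction G α] {e : ℕ → α} {a : ℕ → G} (he : Set.InjOn e (Set.Iio 24)) (h0 : Tabs e 24 m24_S a 3) (hub : Nat.card (genLt a 3) ≠ 0 ∧ Nat.card (genLt a 3) ≤ 244823040) :
    Nat.card (genLt a 3) = 244823040 := by
  rw [← m24_gen]; exact m24_card0 he h0 hub

end Cfsg.Agent.Spor.OutC
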