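import Mathlib
import Cfsg.Agent.Spor.Out.M24Ch
import Cfsg.Agent.Spor.Out.Gen
import Cfsg.Agent.Spor.Blocks

/-! Generated by tools/h59/outgen.py: outer automorphisms, m24 -/

set_option autoImplicit false
set_option maxRecDepth 100000
set_option linter.unusedVariables false
set_option exponentiation.threshold 100000

namespace Cfsg.Agent.Spor.OutC

open Cfsg.Agent.Spor

noncomputable def m24_la : Lv := ⟨m24_E (nat_lit 0), nat_lit 2, nat_lit 0, true, nat_lit 0, [], []⟩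

noncomputable def m24_La : List Lv :=
  [⟨m24_E (nat_lit 1), nat_lit 14, nat_lit 22, false, nat_lit 0, [nat_lit 0], []⟩,
   ⟨m24_E (nat_lit 2), nat_lit 9, nat_lit 10, false, nat_lit 0, [nat_lit 0], []⟩,
   ⟨m24_E (nat_lit 3), nat_lit 6, nat_lit 9, false, nat_lit 0, [nat_lit 0], []⟩,
   ⟨m24_E (nat_lit 4), nat_lit 11, nat_lit 5, false, nat_lit 0, [nat_lit 0], []⟩,
   ⟨m24_E (nat_lit 5), nat_lit 10, nat_lit 19, false, nat_lit 0, [nat_lit 0,nat_lit 0,nat_lit 0], []⟩,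
   ⟨m24_E (nat_lit 6), nat_lit 5, nat_lit 8, false, nat_lit 1, [nat_lit 0], []⟩]

noncomputable def m24_lb : Lv := ⟨m24_E (nat_lit 0), nat_lit 2, nat_lit 2, true, nat_lit 0, [], []⟩

noncomputable def m24_Lb : List Lv :=
  [⟨m24_E (nat_lit 1), nat_lit 14, nat_lit 14, false, nat_lit 0, [nat_lit 0], []⟩,
   ⟨m24_E (nat_lit 2), nat_lit 9, nat_lit 9, false, nat_lit 0, [nat_lit 0], []⟩,
   ⟨m24_E (nat_lit 3), nat_lit 6, nat_lit 6, false, nat_lit 0, [nat_lit 0], []⟩,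
   ⟨m24_E (nat_lit 4), nat_lit 11, nat_lit 11, false, nat_lit 0, [nat_lit 0], []⟩,
   ⟨m24_E (nat_lit 5), nat_lit 10, nat_lit 10, false, nat_lit 0, [nat_lit 0,nat_lit 0], []⟩,
   ⟨m24_E (nat_lit 6), nat_lit 5, nat_lit 5, false, nat_lit 0, [nat_lit 0], []⟩]

def m24_h : List ℕ := [nat_lit 1,nat_lit 4,nat_lit 6,nat_lit 1,nat_lit 7,nat_lit 0,nat_lit 5,nat_lit 7,nat_lit 8,nat_lit 0,nat_lit 2,nat_lit 12,nat_lit 3]

def m24_Z : List ℕ := [nat_lit 15]

def m24_Rels : List (ℕ × List ℕ × List ℕ) :=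
  [(nat_lit 6, [nat_lit 0,nat_lit 2], []),
   (nat_lit 6, [nat_lit 0,nat_lit 1,nat_lit 1,nat_lit 1,nat_lit 2], [])]

theorem m24_s1_0 : allRange (nat_lit 0) (nat_lit 24) (siftTop m24_T m24_S m24_inv (nat_lit 24) m24_h (acc1 m24_T m24_S [nat_lit 2,nat_lit 14,nat_lit 9,nat_lit 6,nat_lit 11,nat_lit 10,nat_lit 5] (nat_lit 23)) m24_la m24_La) = true := by decide +kernel

theorem m24_s2_0 : allRange (nat_lit 0) (nat_lit 24) (siftTop m24_T (fun _ => iterF (m24_S 1) (nat_lit 7)) m24_inv (nat_lit 24) [] (acc2 m24_T m24_S [nat_lit 2,nat_lit 14,nat_lit 9,nat_lit 6,nat_lit 11,nat_lit 10,nat_lit 5] [nat_lit 1,nat_lit 5] m24_Rels [(1, m24_Z)]) m24_lb m24_Lb) = true := by decide +kernel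

theorem m24_hub {G : Type*} [Group G] (y : ℕ → G) (hc : Nat.card G = 244823040) :
    Nat.card (genLt y 3) ≠ 0 ∧ Nat.card (genLt y 3) ≤ 244823040 :=
  card_genLt_le (K := ⊤) (fun _ _ => trivial) (Subgroup.card_top.trans hc)

theorem m24_model {G α : Type*} [Group G] [MulAction G α] {e : ℕ → α} {y : ℕ → G} (he : Set.InjOn e (Set.Iio 24)) (h0 : Tabs e 24 m24_S y 3) (hc : Nat.card G = 244823040) :
    OutModel e 24 m24_T m24_S (m24_g y) y 17 m24_inv [nat_lit 2,nat_lit 14,nat_lit 9,nat_lit 6,nat_lit 11,nat_lit 10,nat_lit 5] 244823040 :=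
  have h1 := genLt_eq_of_card (K := ⊤) (fun _ _ => trivial) (Subgroup.card_top.trans hc) (m24_card he h0 (m24_hub y hc))
  ⟨(m24_tabs h0).sifter he (m24_hinv he h0 (m24_hub y hc)) (m24_base0 he h0 (m24_hub y hc)) (by decide +kernel),
    (m24_gen y).trans h1, h0, h1, hc⟩

theorem m24_sl0 {G α : Type*} [Group G] [MulAction G α] {e : ℕ → α} {y : ℕ → G} (he : Set.InjOn e (Set.Iio 24)) (h0 : Tabs e 24 m24_S y 3) (hc : Nat.card G = 244823040) :
    SLev e 24 m24_T (m24_g y) (m24_E (nat_lit 0)) 17 11 2 :=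
  (m24_tabs h0).sLev he (m24_level0 he h0 (m24_hub y hc)) m24_L0_o

theorem m24_sl1 {G α : Type*} [Group G] [MulAction G α] {e : ℕ → α} {y : ℕ → G} (he : Set.InjOn e (Set.Iio 24)) (h0 : Tabs e 24 m24_S y 3) (hc : Nat.card G = 244823040) :
    SLev e 24 m24_T (m24_g y) (m24_E (nat_lit 1)) 11 9 14 :=
  (m24_tabs h0).sLev he (m24_level1 he h0 (m24_hub y hc)) m24_L1_o

theorem m24_sl2 {G α : Type*} [Group G] [MulAction G α] {e : ℕ → α} {y : ℕ → G} (he : Set.InjOn e (Set.Iio 24)) (h0 : Tabs e 24 m24_S y 3) (hc : Nat.card G = 244823040) :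
    SLev e 24 m24_T (m24_g y) (m24_E (nat_lit 2)) 9 8 9 :=
  (m24_tabs h0).sLev he (m24_level2 he h0 (m24_hub y hc)) m24_L2_o

theorem m24_sl3 {G α : Type*} [Group G] [MulAction G α] {e : ℕ → α} {y : ℕ → G} (he : Set.InjOn e (Set.Iio 24)) (h0 : Tabs e 24 m24_S y 3) (hc : Nat.card G = 244823040) :
    SLev e 24 m24_T (m24_g y) (m24_E (nat_lit 3)) 8 7 6 :=
  (m24_tabs h0).sLev he (m24_level3 he h0 (m24_hub y hc)) m24_L3_o

theorem m24_sl4 {G α : Type*} [Group G] [MulAction G α] {e : ℕ → α} {y : ℕ → G} (he : Set.InjOn e (Set.Iio 24)) (h0 : Tabs e 24 m24_S y 3) (hc : Nat.card G = 244823040) :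
    SLev e 24 m24_T (m24_g y) (m24_E (nat_lit 4)) 7 6 11 :=
  (m24_tabs h0).sLev he (m24_level4 he h0 (m24_hub y hc)) m24_L4_o

theorem m24_sl5 {G α : Type*} [Group G] [MulAction G α] {e : ℕ → α} {y : ℕ → G} (he : Set.InjOn e (Set.Iio 24)) (h0 : Tabs e 24 m24_S y 3) (hc : Nat.card G = 244823040) :
    SLev e 24 m24_T (m24_g y) (m24_E (nat_lit 5)) 6 4 10 :=
  (m24_tabs h0).sLev he (m24_level5 he h0 (m24_hub y hc)) m24_L5_o

theorem m24_sl6 {G α : Type*} [Group G] [MulAction G α] {e : ℕ → α} {y : ℕ → G} (he : Set.InjOn e (Set.Iio 24)) (h0 : Tabs e 24 m24_S y 3) (hc : Nat.card G = 244823040) :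
    SLev e 24 m24_T (m24_g y) (m24_E (nat_lit 6)) 4 0 5 :=
  (m24_tabs h0).sLev he (m24_level6 he h0 (m24_hub y hc)) m24_L6_o

theorem m24_cha {G α : Type*} [Group G] [MulAction G α] {e : ℕ → α} {y : ℕ → G} (he : Set.InjOn e (Set.Iio 24)) (h0 : Tabs e 24 m24_S y 3) (hc : Nat.card G = 244823040) :
    ChainOK e 24 m24_T (m24_g y) (m24_la :: m24_La) 17 :=
  ⟨_, m24_sl0 he h0 hc, _, m24_sl1 he h0 hc, _, m24_sl2 he h0 hc, _, m24_sl3 he h0 hc, _, m24_sl4 he h0 hc, _, m24_sl5 he h0 hc, _, m24_sl6 he h0 hc, rfl⟩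

theorem m24_chb {G α : Type*} [Group G] [MulAction G α] {e : ℕ → α} {y : ℕ → G} (he : Set.InjOn e (Set.Iio 24)) (h0 : Tabs e 24 m24_S y 3) (hc : Nat.card G = 244823040) :
    ChainOK e 24 m24_T (m24_g y) (m24_lb :: m24_Lb) 17 :=
  ⟨_, m24_sl0 he h0 hc, _, m24_sl1 he h0 hc, _, m24_sl2 he h0 hc, _, m24_sl3 he h0 hc, _, m24_sl4 he h0 hc, _, m24_sl5 he h0 hc, _, m24_sl6 he h0 hc, rfl⟩

theorem m24_s1 : ∀ q < 24, siftTop m24_T m24_S m24_inv (nat_lit 24) m24_h (acc1 m24_T m24_S [nat_lit 2,nat_lit 14,nat_lit 9,nat_lit 6,nat_lit 11,nat_lit 10,nat_lit 5] (nat_lit 23)) m24_la m24_La q = true :=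
  allRange_zero m24_s1_0

theorem m24_s2 : ∀ q < 24, siftTop m24_T (fun _ => iterF (m24_S 1) (nat_lit 7)) m24_inv (nat_lit 24) [] (acc2 m24_T m24_S [nat_lit 2,nat_lit 14,nat_lit 9,nat_lit 6,nat_lit 11,nat_lit 10,nat_lit 5] [nat_lit 1,nat_lit 5] m24_Rels [(1, m24_Z)]) m24_lb m24_Lb q = true :=
  allRange_zero m24_s2_0

theorem m24_out {G α : Type*} [Group G] [MulAction G α] {e : ℕ → α} {y : ℕ → G} (he : Set.InjOn e (Set.Iio 24)) (h0 : Tabs e 24 m24_S y 3) (hc : Nat.card G = 244823040) : Nat.card (Out G) = 1 :=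
  (m24_model he h0 hc).card_out_one (by decide +kernel)
    ((m24_model he h0 hc).aut_cases (p := nat_lit 23) (κ := 2) (a := nat_lit 1) (by norm_num) (by decide +kernel)
      ((m24_model he h0 hc).centralizer (m24_cha he h0 hc) (by decide +kernel) m24_s1)
      (m24_chb he h0 hc) (by decide +kernel) m24_s2)

end Cfsg.Agent.Spor.OutC
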