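import Mathlib
import Cfsg.Agent.Spor.Dodecad
import Cfsg.Agent.Spor.M24
import Cfsg.Agent.Spor.Out.M24
import Cfsg.Agent.Spor.Out.M23
import Cfsg.Agent.Spor.Out.M22
import Cfsg.Agent.Spor.Out.M12
import Cfsg.Agent.Spor.Out.M11

/-!
# The outer automorphism groups of the Mathieu groups
-/

set_option autoImplicit false

namespace Cfsg.Agent.Spor.OutC

open MB MulAction
open scoped Pointwise

theorem pt_injOn : Set.InjOn pt (Set.Iio 24) := fun _ hi _ hj h => (pt_inj hi hj).1 h

theorem tabs_code {C : ℕ → ℕ} {S : ℕ → ℕ → ℕ} {m : ℕ}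
    (h : allLt m (fun l => band (inM24 (C l)) (allLt 24 fun i => Nat.beq (ap (C l) i) (S l i))) = true) :
    (∀ l < m, toPerm (C l) ∈ M24 ∧ code (toPerm (C l)) = C l) ∧ Tabs pt 24 S (fun l => toPerm (C l)) m := by
  have h1 := fun l hl => (band_iff _ _).1 ((allLt_iff _ _).1 h l hl)
  refine ⟨fun l hl => ⟨toPerm_mem (h1 l hl).1, code_toPerm' (h1 l hl).1⟩, fun l hl i hi => ?_⟩
  rw [← (nbeq_iff _ _).1 ((allLt_iff _ _).1 (h1 l hl).2 i hi), ← code_toPerm' (h1 l hl).1]
  refine ⟨ap_code_lt _ hi, ?_⟩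
  rw [code_toPerm' (h1 l hl).1, Equiv.Perm.smul_def, apply_pt _ hi, code_toPerm' (h1 l hl).1]

theorem fix_pt {g : ℕ → Equiv.Perm GolayPt} {S : ℕ → ℕ → ℕ} {m : ℕ} (h : Tabs pt 24 S g m) (p : GolayPt)
    (hc : allLt m (fun x => Nat.beq (S x (ix p)) (ix p)) = true) : ∀ l < m, g l • p = p := fun l hl => by
  simpa only [mem_stabilizer_iff, pt_ix] using h.le_stabilizer (ix_lt p) hc (mem_genLt _ hl)

theorem fix_dod {g : Equiv.Perm GolayPt} {c : ℕ} (h : code g = c) (h1 : act c 340831 = 340831) :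
    g • Spor.squareDodecad = Spor.squareDodecad := by rw [Dod.squareDodecad_eq, smul_unmask, h, h1]

/-- Three generators. -/
noncomputable def m24C (l : ℕ) : ℕ := tri 13812812570893581514404672470320694 179237063980357334881626538074454592 379774668616123878555688415958254287 l

theorem m24_c : (∀ l < 3, toPerm (m24C l) ∈ M24 ∧ code (toPerm (m24C l)) = m24C l) ∧
    Tabs pt 24 m24_S (fun l => toPerm (m24C l)) 3 := tabs_code (by decide +kernel)

theorem card_out_m24 : Nat.card (Out M24) = 1 :=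
  m24_out pt_injOn (m24_c.2.subL (K := M24) fun l hl =>
    (m24_c.1 l hl).1) Golay.card_M24

/-- Three generators. -/
noncomputable def m23C (l : ℕ) : ℕ := tri 956869679117147850351525859922819250 969266509974091126808968824089694880 967315582093439719611618671972109856 l

theorem m23_c : (∀ l < 3, toPerm (m23C l) ∈ M24 ∧ code (toPerm (m23C l)) = m23C l) ∧
    Tabs pt 24 m23_S (fun l => toPerm (m23C l)) 3 := tabs_code (by decide +kernel)

theorem card_out_m23 : Nat.card (Out Spor.M23) = 1 :=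
  m23_out pt_injOn (m23_c.2.subL (K := Spor.M23) fun l hl =>
    ⟨(m23_c.1 l hl).1, fix_pt m23_c.2 _ (by decide +kernel) l hl⟩) Golay.card_M23

/-- Three generators. -/
noncomputable def m22C (l : ℕ) : ℕ := tri 957431638373167658572553851807341760 980229180430245615269158768666320928 961494381793758869245151527554893024 l

theorem m22_c : (∀ l < 3, toPerm (m22C l) ∈ M24 ∧ code (toPerm (m22C l)) = m22C l) ∧
    Tabs pt 24 m22_S (fun l => toPerm (m22C l)) 3 := tabs_code (by decide +kernel)

theorem card_out_m22 : Nat.card (Out Spor.M22) = 2 :=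
  m22_out pt_injOn (m22_c.2.subL (K := Spor.M22) fun l hl =>
    ⟨⟨(m22_c.1 l hl).1, fix_pt m22_c.2 _ (by decide +kernel) l hl⟩,
      fix_pt m22_c.2 _ (by decide +kernel) l hl⟩) Golay.card_M22

/-- Three generators. -/
noncomputable def m12C (l : ℕ) : ℕ := tri 220981103268753340651164118567460998 305993673027804779344320636246918560 815909010218608802230411834859459139 l

theorem m12_c : (∀ l < 3, toPerm (m12C l) ∈ M24 ∧ code (toPerm (m12C l)) = m12C l) ∧
    Tabs pt 24 m12_S (fun l => toPerm (m12C l)) 3 := tabs_code (by decide +kernel)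

theorem card_out_m12 : Nat.card (Out Spor.M12) = 2 :=
  m12_out pt_injOn (m12_c.2.subL (K := Spor.M12) fun l hl =>
    ⟨(m12_c.1 l hl).1, fix_dod (m12_c.1 l hl).2 ((nbeq_iff _ _).1 ((allLt_iff _ fun l => Nat.beq (act (m12C l) 340831) 340831).1 (by decide +kernel) l hl))⟩) Dod.card_SporM12

/-- Three generators. -/
noncomputable def m11C (l : ℕ) : ℕ := tri 817082222127190729961119890020697216 313429986437186046059806064087539744 648441755269428208718993426702993440 l

theorem m11_c : (∀ l < 3, toPerm (m11C l) ∈ M24 ∧ code (toPerm (m11C l)) = m11C l) ∧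
    Tabs pt 24 m11_S (fun l => toPerm (m11C l)) 3 := tabs_code (by decide +kernel)

theorem card_out_m11 : Nat.card (Out Spor.M11) = 1 :=
  m11_out pt_injOn (m11_c.2.subL (K := Spor.M11) fun l hl =>
    ⟨⟨(m11_c.1 l hl).1, fix_dod (m11_c.1 l hl).2 ((nbeq_iff _ _).1 ((allLt_iff _ fun l => Nat.beq (act (m11C l) 340831) 340831).1 (by decide +kernel) l hl))⟩,
      fix_pt m11_c.2 _ (by decide +kernel) l hl⟩) Dod.card_SporM11

end Cfsg.Agent.Spor.OutC
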