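import Mathlib
import Cfsg.Agent.Spor.Out.Co2M
import Cfsg.Agent.Spor.Out.Gen2
import Cfsg.Agent.Spor.LeechSimple

/-!
# The outer automorphism group of `Co1`

The letters: `0 = X` (order 23), `1 = W` (order 11, normalises `X`), `2 = Z` (order 3, centralises `W`), `3, 4, 5` their
inverses, `6 = -1`, `7` a sign change centralising `W`, `8` the third generator of the stabiliser of `vO`.
-/

set_option autoImplicit false
set_option maxRecDepth 100000

namespace Cfsg.Agent.Spor.LC

open Cfsg.Agent.Spor.Leech MulAction
open Cfsg.Agent.Spor.Golay (ptIdx ptOf ptIdx_ptOf ptIdx_lt ptOf_ptIdx)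

/-- The letters `2, …, 7`. -/
def c1B : BT :=
  (.node (.node (.node (.leaf 0xfffe000200020002000200000002000000020002000000000002000200000000000200000001fffffffffffffffffffc0001fffdfffe0001fffe00000002000000020002000000000001fffdfffffffffffe00000001fffffffffffffffc000000020001fffdfffdfffe00000001fffffffdfffe000000000002000200000000000200000001fffffffffffc0000000000020001fffdfffe0001fffffffe000000020001fffffffffffe0001fffffffffffe00000001fffffffc0000000000000002000200020001fffdfffffffdfffffffe00020000000000020001fffffffffffdfffffffdfffc000000000000000000000000000000000000000200000001fffffffffffe0002000000000001fffdfffffffdfffc0001fffdfffdfffdfffe0001fffe00020001fffdfffffffe00000001fffdfffffffffffe0002000000000001fffc0001fffffffffffffffffffffffffffffffffffffffffffe00000001fffffffffffdfffdfffffffffffe0001fffbfffe000000020001fffe0001fffe0002000200020002000200000001fffffffdfffdfffffffffffdfffdfffffffbfffe000000020000000000000000000000020001fffe00020001fffffffe00000001fffe000000000001fffdfffc00000001fffffffe00000000000000000000000000000000000000000001ff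fffffe000000000001fffdfffffffc00020001fffffffdfffffffdfffdfffe0001fffe000000000000000000000001fffffffdfffffffffffe0001fffbfffffffe000200000001fffffffe0001fffdfffdfffe0001fffdfffe0002000200000001fffffffe0001fffffffbfffe0002000000000001fffffffe000000000000000000000001fffe0001fffe0001fffffffdfffffffe0001fffc00000001fffe00000000000200000001fffffffffffffffffffffffffffffffffffffffffffe00000001fffffffbfffdfffe000000000002000200000001fffffffdfffe0001fffdfffdfffffffffffffffffffffffdfffffffdfffc000000020001fffffffffffe0001fffffffe00000001fffe0001fffdfffe0001fffe0001fffe000200000001fffc0001fffe0000000000020001fffffffffffdfffffffdfffffffffffffffffffffffffffffffffffffffffffdfffbfffe000000000001fffe000000000001fffe00000002000000020001fffdfffdfffe000200020001fffdfffdfffc0002000000020001fffffffffffdfffe000000000001fffffffdfffffffffffffffffffffffffffffffffffffffc0001fffffffdfffffffffffdfffdfffffffffffdfffe0000000200000001fffe00020001fffdfffffffffffffffc0000000200000002000000000001fffdfffffffffffdfffdfffffffdfffffffe00020001fffdfffdfffffffffffbfffffffffffdfffffffdfffffffffffe0002000000000001fffdfffffffdfffffffe000200020001fffdfffffffbfffffffffffffffe000000020000000000020001fffffffffffdfffe00000001fffffffdfffdfffe0001fffdfffbfffffffffffffffffffdfffffffdfffffffffffdfffdfffffffffffdfffdfffffffdfffffffdfffdfffdfffe0002)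
  (.leaf 0xfffffffffffffffffffffffffffffffffffffffffffffffffffffffffffffffffffffffffffffffffffffffffffffff7fffffffffffffffffffffffffffffffffffffffffffffffffffffffffffffffffffffffffffffffffffffffffff7fffffffffffffffffffffffffffffffffffffffffffffffffffffffffffffffffffffffffffffffffffffffffff7fffffffffffffffffffffffffffffffffffffffffffffffffffffffffffffffffffffffffffffffffffffffffff7fffffffffffffffffffffffffffffffffffffffffffffffffffffffffffffffffffffffffffffffffffffffffff7fffffffffffffffffffffffffffffffffffffffffffffffffffffffffffffffffffffffffffffffffffffffffff7fffffffffffffffffffffffffffffffffffffffffffffffffffffffffffffffffffffffffffffffffffffffffff7fffffffffffffffffffffffffffffffffffffffffffffffffffffffffffffffffffffffffffffffffffffffffff7fffffffffffffffffffffffffffffffffffffffffffffffffffffffffffffffffffffffffffffffffffffffffff7fffffffffffffffffffffffffffffffffffffffffffffffffffffffffffffffffffffffffffffffffffffffffff7fffffffffffffffffffffffffffffffffffffffffffffffffffffffffffffffffffffffffffffffffffffffffff7ffffffffffffffffffffffffffffffffffffff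fffffffffffffffffffffffffffffffffffffffffffffffffffff7fffffffffffffffffffffffffffffffffffffffffffffffffffffffffffffffffffffffffffffffffffffffffff7fffffffffffffffffffffffffffffffffffffffffffffffffffffffffffffffffffffffffffffffffffffffffff7fffffffffffffffffffffffffffffffffffffffffffffffffffffffffffffffffffffffffffffffffffffffffff7fffffffffffffffffffffffffffffffffffffffffffffffffffffffffffffffffffffffffffffffffffffffffff7fffffffffffffffffffffffffffffffffffffffffffffffffffffffffffffffffffffffffffffffffffffffffff7fffffffffffffffffffffffffffffffffffffffffffffffffffffffffffffffffffffffffffffffffffffffffff7fffffffffffffffffffffffffffffffffffffffffffffffffffffffffffffffffffffffffffffffffffffffffff7fffffffffffffffffffffffffffffffffffffffffffffffffffffffffffffffffffffffffffffffffffffffffff7fffffffffffffffffffffffffffffffffffffffffffffffffffffffffffffffffffffffffffffffffffffffffff7fffffffffffffffffffffffffffffffffffffffffffffffffffffffffffffffffffffffffffffffffffffffffff7fffffffffffffffffffffffffffffffffffffffffffffffffffffffffffffffffffffffffffffffffffffffffff7fffffffffffffffffffffffffffffffffffffffffffffffffffffffffffffffffffffffffffffffffffffffffff800000000000000000000000000000000000000000000000000000000000000000000000000000000000000000000))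
  (.leaf 0x1000000000000000000000000000000000000000000000000000000000000000000000000000000000000000000000008000000000000000000000000000000000000000000000000000000000000000000000000000000000000000800000000000000000000000000000000000000000000000000000000000000000000000000000000000000080000000000000000000000000000000000000000000000000000000000000000000000000000000000000008000000000000000000000000000000000000000000000000000000000000000000000000000000000000000800000000000000000000000000000000000000000000000000000000000000000000000000000000000000080000000000000000000000000000000000000000000000000000000000000000000000000000000000000008000000000000000000000000000000000000000000000000000000000000000000000000000000000000000800000000000000000000000000000000000000000000000000000000000000000000000000000000000000080000000000000000000000000000000000000000000000000000000000000000000000000000000000000008000000000000000000000000000000000000000000000000000000000000000000000000000000000000000800000000000000000000000000000000000000000000000000000000000000000000000000000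000000000080000000000000000000000000000000000000000000000000000000000000000000000000000000000000000000000000000000000000000000000000000000000000000000000000000000000000000000000000000000000080000000000000000000000000000000000000000000000000000000000000000000000000000000000000008000000000000000000000000000000000000000000000000000000000000000000000000000000000000000800000000000000000000000000000000000000000000000000000000000000000000000000000000000000080000000000000000000000000000000000000000000000000000000000000000000000000000000000000008000000000000000000000000000000000000000000000000000000000000000000000000000000000000000800000000000000000000000000000000000000000000000000000000000000000000000000000000000000080000000000000000000000000000000000000000000000000000000000000000000000000000000000000008000000000000000000000000000000000000000000000000000000000000000000000000000000000000000800000000000000000000000000000000000000000000000000000000000000000000000000000000000000080000000000000000000000000000000000000000000000000000000000000000000000000000000000000008000000000000000000000000000000000000000000000000000000000000000000000000000000000000000800000000000000000000000000000000000000000000000000000000000000000000000000000000000000000000))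
  (.node (.node (.leaf 0x10000000000000000000000000000000000000000000000000000000000000000000000000000000000000000000000080008000000000000000000000000000000000000000000000000000000000000000000000000000000000000000000000000000000000000000000000000000000000000000000000000000000000000000000000000000000000000000800000000000000000000000000000000000000000000000000000000000000000000000000000000000000000008000000000000000000000000000000000000000000000000000000000000000000000000000000000000000000080000000000000000000000000000000000000000000000000000000000000000000000000000000000000000000800000000000000000000000000000000000000000000000000000000000000000000000000000000000000000008000000000000000000000000000000000000000000000000000000000000000000000000000000000000000000080000000000000000000000000000000000000000000000000000000000000000000000000000000000000000000800000000000000000000000000000000000000000000000000000000000000000000000000000000000000000008000000000000000000000000000000000000000000000000000000000000000000000000000000000000000000080000000000000000000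00000000000000000000000000000000000000000000000000000000000000000000000080000000000000000000000000000000000000000000000000000000000000000000000000000000000000000000800000000000000000000000000000000000000000000000000000000000000000000000000000000000000000008000000000000000000000000000000000000000000000000000000000000000000000000000000000000000000080000000000000000000000000000000000000000000000000000000000000000000000000000000000000000000800000000000000000000000000000000000000000000000000000000000000000000000000000000000000000008000000000000000000000000000000000000000000000000000000000000000000000000000000000000000000080000000000000000000000000000000000000000000000000000000000000000000000000000000000000000000800000000000000000000000000000000000000000000000000000000000000000000000000000000000000000008000000000000000000000000000000000000000000000000000000000000000000000000000000000000000000080000000000000000000000000000000000000000000000000000000000000000000000000000000000000000000800000000000000000000000000000000000000000000000000000000000000000000000000000000000000000008000000000000000000000000000000000000000000000000000000000000000000000000000000000000000000080000000000000000000000000000000000000000000000000000000000000000000000000000000000000000)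
  (.leaf 0x100000000000000000000000000000000000000000000000000000000000000000000000000000000000000000000000800000000000000000000000000000000000000000000000000000000000000000000000000000000000000000008000000000000000000000000000000000000000000000000000000000000000000000000000000000000000000080000000000000000000000000000000000000000000000000000000000000000000000000000000000000000000800000000000000000000000000000000000000000000000000000000000000000000000000000000000000000007fffffffffffffffffffffffffffffffffffffffffffffffffffffffffffffffffffffffffffffffffffffffffff800000000000000000000000000000000000000000000000000000000000000000000000000000000000000000007fffffffffffffffffffffffffffffffffffffffffffffffffffffffffffffffffffffffffffffffffffffffffff80000000000000000000000000000000000000000000000000000000000000000000000000000000000000000000800000000000000000000000000000000000000000000000000000000000000000000000000000000000000000007fffffffffffffffffffffffffffffffffffffffffffffffffffffffffffffffffffffffffffffffffffffffffff7fffffffffffffffffffffffffffffffffffff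ffffffffffffffffffffffffffffffffffffffffffffffffffffff80000000000000000000000000000000000000000000000000000000000000000000000000000000000000000000800000000000000000000000000000000000000000000000000000000000000000000000000000000000000000007fffffffffffffffffffffffffffffffffffffffffffffffffffffffffffffffffffffffffffffffffffffffffff7fffffffffffffffffffffffffffffffffffffffffffffffffffffffffffffffffffffffffffffffffffffffffff800000000000000000000000000000000000000000000000000000000000000000000000000000000000000000007fffffffffffffffffffffffffffffffffffffffffffffffffffffffffffffffffffffffffffffffffffffffffff800000000000000000000000000000000000000000000000000000000000000000000000000000000000000000007fffffffffffffffffffffffffffffffffffffffffffffffffffffffffffffffffffffffffffffffffffffffffff7fffffffffffffffffffffffffffffffffffffffffffffffffffffffffffffffffffffffffffffffffffffffffff7fffffffffffffffffffffffffffffffffffffffffffffffffffffffffffffffffffffffffffffffffffffffffff7fffffffffffffffffffffffffffffffffffffffffffffffffffffffffffffffffffffffffffffffffffffffffff7fffffffffffffffffffffffffffffffffffffffffffffffffffffffffffffffffffffffffffffffffffffffffff800000000000000000000000000000000000000000000000000000000000000000000000000000000000000000000))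
  (.leaf 0x10001fffdfffdfffdfffdfffffffdfffffffdfffdfffffffffffdfffdfffffffffffdfffffffdfffffffffffffffffffbfffe00020001fffe0001fffffffdfffffffdfffdfffffffffffe0002000000000001fffffffdfffffffffffffffbfffffffdfffe000200020001fffffffe000000020001fffffffffffdfffdfffffffffffdfffffffdfffffffffffbfffffffffffdfffe00020001fffe00000001fffffffdfffe000000000001fffe000000000001fffffffdfffffffbfffffffffffffffdfffdfffdfffe00020000000200000001fffdfffffffffffdfffe00000000000200000001fffbfffffffffffffffffffffffffffffffffffffffdfffffffe000000000001fffdfffffffffffe000200000001fffbfffe0002000200020001fffe0001fffdfffe000200000001fffffffe0002000000000001fffdfffffffffffdfffbfffe00000000000000000000000000000000000000000001fffffffe0000000000020002000000000001fffdfffc0001fffffffdfffe0001fffe0001fffdfffdfffdfffdfffdfffffffe0000000200020000000000020001fffffffc0001fffffffdfffffffffffffffffffffffdfffe0001fffdfffe00000001fffffffe0001fffffffffffe0001fffbfffffffe00000001fffffffffffffffffffffffffffffffffffffffffffe00000001fffffffffffe0001fffffffbfffdfffe000000020000000200020001fffe0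001fffffffffffffffffffffffe00000002000000000001fffdfffc00000001fffdfffffffe00000001fffe000200020001fffe00020001fffdfffdfffffffe00000001fffdfffffffc0001fffdfffffffffffe00000001fffffffffffffffffffffffe0001fffe0001fffe0000000200000001fffdfffbfffffffe0001fffffffffffdfffffffe00000000000000000000000000000000000000000001fffffffdfffffffc00020001fffffffffffdfffdfffffffe000000020001fffe0002000200000000000000000000000200000001fffbfffffffdfffe000000000001fffe00000001fffffffe0001fffe00020001fffe0001fffe0001fffdfffffffdfffbfffe0001fffffffffffdfffe0000000000020000000200000000000000000000000000000000000000000001fffc0001fffffffffffe0001fffffffffffe0001fffffffdfffffffdfffe000200020001fffdfffdfffe00020001fffbfffdfffffffdfffe0000000000020001fffffffffffe00000001fffffffffffffffffffffffffffffffffffffffbfffe0000000200000000000200020000000000020001fffffffdfffffffe0001fffdfffe0001fffffffffffffffbfffffffdfffffffdfffffffffffe000200000000000200020000000200000001fffdfffe00020001fffffffffffc00000000000200000002000000000001fffdfffffffffffe00020000000200000001fffdfffdfffe0001fffffffc0000000000000001fffffffdfffffffffffdfffe0000000000020001fffffffe0000000200020001fffe0001fffc0000000000000000000200000002000000000002000200000000000200020000000200000002000200020001fffe)))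

/-- The nine letters. -/
noncomputable def c1R (l : ℕ) : ℕ :=
  Bool.rec (Bool.rec (c1B.get (Nat.sub l 2)) (co2R 2) (Nat.beq l 8)) (co2R l) (Nat.ble l 1)

/-- The nine letters as elements. -/
noncomputable def c1g (l : ℕ) : Co0 := el (c1R l)

theorem c1_ok : Spor.allLt 9 (fun l => matOK (c1R l)) = true := by decide +kernel

theorem c1_okW {w : List ℕ} (h : lettersLt 9 w = true) : ∀ l ∈ w, matOK (c1R l) = true := fun l hl =>
  (Spor.allLt_iff _ _).1 c1_ok l ((lettersLt_iff _ _).1 h l hl)

/-- The code of `e8 (ptOf i)`. -/
def cE (i : ℕ) : ℕ := Nat.mul 8 (Nat.add (ones 24) (Nat.pow 65536 i))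

theorem cd_e8 : ∀ i < 24, cd (e8 (ptOf i) : Vec) = cE i := by decide +kernel

/-- Two words give the same element. -/
noncomputable def eqW (u v : List ℕ) : Bool :=
  band (lettersLt 9 u) (band (lettersLt 9 v) (Spor.allLt 24 fun i => Nat.beq (appW c1R u (cE i)) (appW c1R v (cE i))))

theorem eq_of_eqW (u v : List ℕ) (h : eqW u v = true := by decide +kernel) : evalW c1g u = evalW c1g v := by
  rw [eqW, band_iff, band_iff] at h
  refine co0_ext_e8 fun p => cd_inj_nm (by rw [nm_smul, nm_e8]) (by rw [nm_smul, nm_e8]) ?_
  refine (cd_evalW (c1_okW h.1) (nm_e8 p).le).trans (Eq.trans ?_ (cd_evalW (c1_okW h.2.1) (nm_e8 p).le).symm)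
  rw [← ptOf_ptIdx p, cd_e8 _ (ptIdx_lt p)]
  exact (nbeq_iff _ _).1 ((Spor.allLt_iff _ _).1 h.2.2 _ (ptIdx_lt p))

theorem cd_word {w : List ℕ} (h : lettersLt 9 w = true) : cd ((evalW c1g w • vO : Λ) : Vec) = appW c1R w cO := by
  rw [← cd_vO]; exact cd_evalW (c1_okW h) (by rw [nm_vO]; norm_num)

theorem c1g_six : c1g 6 = negOne := co0_ext_e8 fun p => by
  rw [negOne_smul, ← ptOf_ptIdx p]
  refine el_smul_eq (c1_okW (w := [6]) rfl 6 (by simp)) (nm_e8 _).le (by rw [nm_neg, nm_e8]) ?_
  have h : ∀ i < 24, app (c1R 6) (cE i) = cd ((-e8 (ptOf i) : Λ) : Vec) := by decide +kernel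
  rw [cd_e8 _ (ptIdx_lt p), h _ (ptIdx_lt p)]

/-! ### Fixed vectors -/

theorem fix_coord {l : ℕ} (hl : l < 9) {σ ρ : ℕ → ℕ}
    (h : ∀ i < 24, σ i < 24 ∧ app (c1R l) (cE i) = cE (σ i)) (hρ : ∀ i < 24, ρ i < 24 ∧ ∃ k < 23, σ^[k] (ρ i) = i)
    {y : Λ} (hy : c1g l • y = y) {i : ℕ} (hi : i < 24) : (y : Vec) (ptOf i) = (y : Vec) (ptOf (ρ i)) := by
  have h1 : ∀ i < 24, (y : Vec) (ptOf (σ i)) = (y : Vec) (ptOf i) := fun i hi => by
    have h2 : c1g l • e8 (ptOf i) = e8 (ptOf (σ i)) := el_smul_eq ((Spor.allLt_iff _ _).1 c1_ok l hl) (nm_e8 _).le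
      (nm_e8 _).le (by rw [cd_e8 _ hi, cd_e8 _ (h i hi).1, (h i hi).2])
    have h3 := ip_smul (c1g l) y (e8 (ptOf i))
    rw [hy, h2, ip_e8, ip_e8] at h3
    omega
  have h2 : ∀ k, ∀ i < 24, σ^[k] i < 24 ∧ (y : Vec) (ptOf (σ^[k] i)) = (y : Vec) (ptOf i) := fun k => by
    induction k with
    | zero => exact fun i hi => ⟨hi, rfl⟩
    | succ k ih => exact fun i hi => ⟨(ih _ (h i hi).1).1, (ih _ (h i hi).1).2.trans (h1 i hi)⟩
  obtain ⟨h3, k, -, h4⟩ := hρ i hi
  rw [← (h2 k _ h3).2, h4]

/-- A vector constant on the squares and on the non-squares. -/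
def Fv (a b c d : ℤ) : Vec := fun p =>
  [a, b, b, b, b, c, b, c, b, b, c, c, b, b, c, c, b, c, b, c, c, c, c, d].getD (ptIdx p) 0

theorem dot_Fv (a b c d a' b' c' d' : ℤ) :
    dotInt (Fv a b c d) (Fv a' b' c' d') = a * a' + 11 * (b * b') + 11 * (c * c') + d * d' := by
  rw [dotInt_def, sum_ptOf, Finset.sum_congr rfl (g := fun i =>
    [a, b, b, b, b, c, b, c, b, b, c, c, b, b, c, c, b, c, b, c, c, c, c, d].getD i 0 *
    [a', b', b', b', b', c', b', c', b', b', c', c', b', b', c', c', b', c', b', c', c', c', c', d'].getD i 0)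
    fun i hi => by rw [Fv, Fv, ptIdx_ptOf (Finset.mem_range.1 hi)]]
  simp only [Finset.sum_range_succ, Finset.range_zero, Finset.sum_empty, List.getD_cons_succ, List.getD_cons_zero]
  ring

/-- Twelve words. -/
def c1T : LT :=
  (.node (.node (.node (.node (.leaf [])
  (.leaf [6, 2, 2]))
  (.leaf [7, 2]))
  (.node (.node (.leaf [2, 2])
  (.leaf [6, 7, 2]))
  (.leaf [6])))
  (.node (.node (.node (.leaf [2])
  (.leaf [6, 7]))
  (.leaf [7, 2, 2]))
  (.node (.node (.leaf [7])
  (.leaf [6, 7, 2, 2]))
  (.leaf [6, 2]))))

theorem Fv_list : ∀ a ∈ Finset.Icc (-5 : ℤ) 5, ∀ d ∈ Finset.Icc (-5 : ℤ) 5, ∀ b ∈ Finset.Icc (-1 : ℤ) 1,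
    ∀ c ∈ Finset.Icc (-1 : ℤ) 1, a * a + 11 * (b * b) + 11 * (c * c) + d * d = 32 →
    8 ∣ a * 1 + 11 * (b * 1) + 11 * (c * 1) + d * -3 → 8 ∣ a * -1 + 11 * (b * -1) + 11 * (c * 1) + d * -3 →
    ∃ i < 12, cd (Fv a b c d) = appW c1R (c1T.get i) cO ∧ (a = b → b = c → i = 0 ∨ i = 6) := by
  decide +kernel

theorem c1T_lt (i : ℕ) : lettersLt 9 (c1T.get i) = true := LT.all_get (by decide +kernel) i

theorem exists_T {y : Λ} (hn : nm y = 32) {a b c d : ℤ} (hy : (y : Vec) = Fv a b c d) :
    ∃ i < 12, evalW c1g (c1T.get i) • vO = y ∧ (a = b → b = c → i = 0 ∨ i = 6) := by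
  have e1 : (vO : Vec) = Fv 1 1 1 (-3) := by decide +kernel
  have e2 : ((evalW c1g [7] • vO : Λ) : Vec) = Fv (-1) (-1) 1 (-3) := by
    rw [← dec_cd (bd_of_nm (x := evalW c1g [7] • vO) (by rw [nm_smul, nm_vO]; norm_num)), cd_word rfl]
    decide +kernel
  have h1 := eight_dvd_ip y vO
  have h2 := eight_dvd_ip y (evalW c1g [7] • vO)
  have h3 := hn
  rw [nm_eq_ip, ip_def, hy, dot_Fv] at h3
  rw [ip_def, hy, e1, dot_Fv] at h1
  rw [ip_def, hy, e2, dot_Fv] at h2
  have h4 := mul_self_nonneg a
  have h5 := mul_self_nonneg b
  have h6 := mul_self_nonneg c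
  have h7 := mul_self_nonneg d
  obtain ⟨i, hi, h8, h9⟩ := Fv_list a (Finset.mem_Icc.2 ⟨by nlinarith, by nlinarith⟩)
    d (Finset.mem_Icc.2 ⟨by nlinarith, by nlinarith⟩) b (Finset.mem_Icc.2 ⟨by nlinarith, by nlinarith⟩)
    c (Finset.mem_Icc.2 ⟨by nlinarith, by nlinarith⟩) h3 h1 h2
  exact ⟨i, hi, cd_inj_nm (by rw [nm_smul, nm_vO]; norm_num) (by omega) (by rw [cd_word (c1T_lt i), hy, h8]), h9⟩

theorem fix_W {y : Λ} (hn : nm y = 32) (hy : c1g 1 • y = y) : ∃ i < 12, evalW c1g (c1T.get i) • vO = y := by
  refine (exists_T hn (a := (y : Vec) (ptOf 0)) (b := (y : Vec) (ptOf 1)) (c := (y : Vec) (ptOf 5))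
    (d := (y : Vec) (ptOf 23)) (funext fun p => ?_)).imp fun i h => ⟨h.1, h.2.1⟩
  have hi := ptIdx_lt p
  rw [Fv, ← congrArg (y : Vec) (ptOf_ptIdx p), fix_coord (l := 1) (by decide) (σ := fun i => if i = 23 then 23 else 2 * i % 23)
    (ρ := fun i => [0, 1, 1, 1, 1, 5, 1, 5, 1, 1, 5, 5, 1, 1, 5, 5, 1, 5, 1, 5, 5, 5, 5, 23].getD i 0)
    (by decide +kernel) (by decide +kernel) hy hi]
  generalize ptIdx p = i at hi
  interval_cases i <;> rfl

theorem fix_X {y : Λ} (hn : nm y = 32) (hy : c1g 0 • y = y) : y = vO ∨ y = -vO := by
  obtain ⟨i, -, h1, h2⟩ := exists_T hn (a := (y : Vec) (ptOf 0)) (b := (y : Vec) (ptOf 0)) (c := (y : Vec) (ptOf 0))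
    (d := (y : Vec) (ptOf 23)) (funext fun p => by
      have hi := ptIdx_lt p
      rw [Fv, ← congrArg (y : Vec) (ptOf_ptIdx p), fix_coord (l := 0) (by decide)
        (σ := fun i => if i = 23 then 23 else (i + 1) % 23) (ρ := fun i => if i = 23 then 23 else 0)
        (by decide +kernel) (by decide +kernel) hy hi]
      generalize ptIdx p = i at hi
      interval_cases i <;> rfl)
  rcases h2 rfl rfl with rfl | rfl
  · exact Or.inl (h1.symm.trans (one_smul _ _))
  · refine Or.inr (h1.symm.trans ?_)
    rw [show evalW c1g (c1T.get 6) = c1g 6 from mul_one _, c1g_six, negOne_smul]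

/-! ### Centralisers -/

theorem co1_sw_0 : allRange (nat_lit 0) (nat_lit 4600) (siftTop OutC.co2_T (fun _ => OutC.co2_S 1) OutC.co2_inv (nat_lit 4600) [] (acc1 OutC.co2_T (fun _ => OutC.co2_S 1) [nat_lit 2423,nat_lit 2967,nat_lit 3459,nat_lit 2626,nat_lit 3599,nat_lit 2473] (nat_lit 11)) OutC.co2_lb OutC.co2_Lb) = true := by decide +kernel

theorem co1_sw : ∀ q < 4600, siftTop OutC.co2_T (fun _ => OutC.co2_S 1) OutC.co2_inv (nat_lit 4600) [] (acc1 OutC.co2_T (fun _ => OutC.co2_S 1) [nat_lit 2423,nat_lit 2967,nat_lit 3459,nat_lit 2626,nat_lit 3599,nat_lit 2473] (nat_lit 11)) OutC.co2_lb OutC.co2_Lb q = true :=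
  allRange_zero co1_sw_0

theorem c1_model : OutModel (fun i => vec (c46 i)) 4600 OutC.co2_T OutC.co2_S
    (OutC.co2_g (subL (stabilizer Co0 vO) fun l => el (co2R l))) (subL (stabilizer Co0 vO) fun l => el (co2R l)) 13
    OutC.co2_inv [2423, 2967, 3459, 2626, 3599, 2473] 42305421312000 :=
  OutC.co2_model c46_inj co2_tabs0 (card_stab32 nm_vO)

theorem c1_coe {l : ℕ} (hl : l < 3) :
    ((subL (stabilizer Co0 vO) (fun l => el (co2R l)) l : stabilizer Co0 vO) : Co0) = el (co2R l) :=
  coe_subL (co2R_mem l hl)

theorem stab_X {c : Co0} (h : c • vO = vO) (hc : c * c1g 0 = c1g 0 * c) : c ∈ Subgroup.zpowers (c1g 0) := by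
  obtain ⟨j, hj⟩ := c1_model.centralizer (OutC.co2_cha c46_inj co2_tabs0 (card_stab32 nm_vO)) (by decide +kernel)
    OutC.co2_s1 ⟨c, h⟩ (Subtype.ext (by rw [Subgroup.coe_mul, Subgroup.coe_mul, c1_coe (by decide)]; exact hc))
  have h1 := congrArg Subtype.val hj
  simp only [SubgroupClass.coe_zpow, c1_coe (show 0 < 3 by decide)] at h1
  exact ⟨j, h1⟩

theorem stab_W {c : Co0} (h : c • vO = vO) (hc : c * c1g 1 = c1g 1 * c) : c ∈ Subgroup.zpowers (c1g 1) := by
  obtain ⟨j, hj⟩ := c1_model.sif.centralizer (S := fun _ => OutC.co2_S 1) (co2_tabs0 1 (by decide))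
    (c1_model.top ▸ trivial) (OutC.co2_chb c46_inj co2_tabs0 (card_stab32 nm_vO)) (by decide +kernel) co1_sw
    (a := ⟨c, h⟩) (c1_model.top ▸ trivial)
    (Subtype.ext (by rw [Subgroup.coe_mul, Subgroup.coe_mul, c1_coe (by decide)]; exact hc))
  have h1 := congrArg Subtype.val hj
  simp only [SubgroupClass.coe_zpow, c1_coe (show 1 < 3 by decide)] at h1
  exact ⟨j, h1⟩

/-- The projection. -/
noncomputable abbrev pr1 : Co0 →* Spor.Co1 := QuotientGroup.mk' (Subgroup.center Co0)

theorem pr1_eq_one {g : Co0} : pr1 g = 1 ↔ g = 1 ∨ g = negOne := by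
  rw [QuotientGroup.mk'_apply, QuotientGroup.eq_one_iff, mem_center_iff]

theorem pr1_negOne : pr1 negOne = 1 := pr1_eq_one.2 (Or.inr rfl)

theorem lift_comm {c a : Co0} {n : ℕ} (ha : a ^ (2 * n + 1) = 1) (h : pr1 c * pr1 a = pr1 a * pr1 c) :
    c * a = a * c := by
  have h1 : pr1 (c * a * c⁻¹ * a⁻¹) = 1 := by simp only [map_mul, map_inv, h]; group
  rcases pr1_eq_one.1 h1 with h2 | h2
  · rw [mul_inv_eq_one, mul_inv_eq_iff_eq_mul] at h2
    exact h2
  · rw [mul_inv_eq_iff_eq_mul] at h2
    have h3 := congrArg (· ^ (2 * n + 1)) h2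
    simp only [conj_pow, ha, mul_one, mul_inv_cancel] at h3
    rw [(show Commute negOne a from (negOne_comm a).symm).mul_pow, ha, mul_one, pow_succ, pow_mul, sq,
      negOne_mul_self, one_pow, one_mul] at h3
    exact absurd h3.symm negOne_ne_one

theorem evalW_replicate {G : Type*} [Group G] (g : ℕ → G) (w : List ℕ) (n : ℕ) :
    evalW g (List.replicate n w).flatten = evalW g w ^ n := by
  induction n with
  | zero => simp
  | succ n ih => rw [List.replicate_succ, List.flatten_cons, evalW_append, ih, pow_succ']

theorem pow_of_eqW (l n : ℕ) (h : eqW (List.replicate n [l]).flatten [] = true := by decide +kernel) :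
    c1g l ^ n = 1 := by
  have h1 := eq_of_eqW _ _ h
  rwa [evalW_replicate, evalW_cons, evalW_nil, mul_one] at h1

theorem smul_vO (l : ℕ) (hl : l < 2) : c1g l • vO = vO := by
  interval_cases l
  exacts [co2R_mem 0 (by decide), co2R_mem 1 (by decide)]

theorem cent_X (a : Spor.Co1) (h : a * pr1 (c1g 0) = pr1 (c1g 0) * a) : a ∈ Subgroup.zpowers (pr1 (c1g 0)) := by
  obtain ⟨c, rfl⟩ := QuotientGroup.mk'_surjective _ a
  have h1 := lift_comm (n := 11) (pow_of_eqW 0 23) h
  rw [← MonoidHom.map_zpowers]
  rcases fix_X (y := c • vO) (by rw [nm_smul, nm_vO]) (by rw [← mul_smul, ← h1, mul_smul, smul_vO 0 (by decide)])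
    with h2 | h2
  · exact ⟨c, stab_X h2 h1, rfl⟩
  · exact ⟨negOne * c, stab_X (by rw [mul_smul, h2, negOne_smul, neg_neg])
      (by rw [mul_assoc, h1, ← mul_assoc, ← negOne_comm, mul_assoc]), by rw [map_mul, pr1_negOne, one_mul]⟩

theorem c1T_spec : ∀ i < 12, eqW (c1T.get i ++ [1]) (1 :: c1T.get i) = true ∧
    eqW (List.replicate 6 (c1T.get i)).flatten [] = true ∧ (eqW (List.replicate 2 (c1T.get i)).flatten [] = true ∨
      c1T.get i ∈ [[2], [6, 2], [2, 2], [6, 2, 2]]) := by decide +kernel

theorem cent_W {a : Spor.Co1} (h : a * pr1 (c1g 1) = pr1 (c1g 1) * a) (h3 : a ^ 3 = 1) (h1 : a ≠ 1) :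
    a = pr1 (evalW c1g [2]) ∨ a = pr1 (evalW c1g [2, 2]) := by
  obtain ⟨c, rfl⟩ := QuotientGroup.mk'_surjective _ a
  have h2 := lift_comm (n := 5) (pow_of_eqW 1 11) h
  obtain ⟨i, hi, h4⟩ := fix_W (y := c • vO) (by rw [nm_smul, nm_vO])
    (by rw [← mul_smul, ← h2, mul_smul, smul_vO 1 (by decide)])
  obtain ⟨t1, t2, t3⟩ := c1T_spec i hi
  have t4 := eq_of_eqW _ _ t1
  have t5 := eq_of_eqW _ _ t2
  rw [evalW_append, evalW_cons, evalW_cons, evalW_nil, mul_one] at t4
  rw [evalW_replicate, evalW_nil] at t5
  have t6 : Commute (evalW c1g (c1T.get i)) (c1g 1) := t4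
  obtain ⟨j, hj⟩ := stab_W (c := (evalW c1g (c1T.get i))⁻¹ * c) (by rw [mul_smul, ← h4, inv_smul_smul])
    (t6.inv_left.mul_left h2)
  have h5 : c = evalW c1g (c1T.get i) * c1g 1 ^ j := by rw [show c1g 1 ^ j = _ from hj, mul_inv_cancel_left]
  have h6 : c ^ 3 * c ^ 3 = 1 := by
    rcases pr1_eq_one.1 ((map_pow pr1 c 3).trans h3) with e | e
    · rw [e, one_mul]
    · rw [e, negOne_mul_self]
  have h7 : c1g 1 ^ j = 1 := by
    rw [← pow_add, h5, (t6.zpow_right j).mul_pow, t5, one_mul] at h6
    have h8 : (c1g 1 ^ j) ^ 11 = 1 := by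
      rw [← zpow_natCast, ← zpow_mul, mul_comm, zpow_mul, zpow_natCast, pow_of_eqW 1 11, one_zpow]
    have h9 : (c1g 1 ^ j) ^ (11 + 1) = 1 := by rw [show 11 + 1 = (3 + 3) * 2 from rfl, pow_mul, h6, one_pow]
    rwa [pow_succ, h8, one_mul] at h9
  rw [h7, mul_one] at h5
  rcases t3 with t3 | t3
  · have t7 := eq_of_eqW _ _ t3
    rw [evalW_replicate, evalW_nil, ← h5] at t7
    rw [pow_succ, ← map_pow, t7, map_one, one_mul] at h3
    exact absurd h3 h1
  · have e : ∀ w, pr1 (evalW c1g (6 :: w)) = pr1 (evalW c1g w) := fun w => by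
      rw [evalW_cons, map_mul, c1g_six, pr1_negOne, one_mul]
    simp only [List.mem_cons, List.not_mem_nil, or_false] at t3
    rw [h5]
    rcases t3 with t | t | t | t <;> rw [t]
    exacts [Or.inl rfl, Or.inl (e _), Or.inr rfl, Or.inr (e _)]

/-! ### Generation -/

/-- The third generator of the stabiliser as a word. -/
def c1W : List ℕ := [0, 1, 2, 3, 3, 2, 3, 2, 3, 1, 3, 2, 3, 5, 0, 5, 0, 0, 4, 2, 3, 4, 5, 3, 2, 1, 1, 1, 2, 0, 2, 0, 5, 1, 1, 1, 3, 2, 2, 1, 3, 5, 0, 4, 2, 3, 1, 0, 0, 1, 2, 1, 0, 5, 1, 3, 2, 0, 4, 0, 5, 3, 2, 3, 4, 2, 0, 0, 2, 0, 0, 0, 0, 5, 5, 3, 5, 0, 0, 4, 5, 0, 5, 3, 4, 5, 0, 1, 5, 4, 3, 5, 3, 5, 4, 4, 0, 2, 4, 4, 0, 2, 2, 3, 5, 0, 4, 5, 3, 4, 5, 3, 3, 4, 5, 3, 2, 0, 0, 5, 1, 5, 4, 3, 5, 3, 1, 2, 1, 1, 3, 2, 2, 0, 1, 1, 0, 5, 0, 2, 3, 2, 0, 1, 1, 0, 2, 0, 2, 3, 1, 0]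

theorem c1_gen {K : Subgroup Co0} (h : ∀ l < 3, c1g l ∈ K) (hN : negOne ∈ K) : K = ⊤ := by
  have h1 : ∀ l < 6, c1g l ∈ K := fun l hl => by
    have h2 : ∀ l < 3, eqW [l, l + 3] [] = true := by decide +kernel
    by_cases h3 : l < 3
    · exact h l h3
    obtain ⟨l, rfl⟩ : ∃ m, l = m + 3 := ⟨l - 3, by omega⟩
    have h4 := eq_of_eqW _ _ (h2 l (by omega))
    rw [evalW_cons, evalW_cons, evalW_nil, mul_one] at h4
    rw [eq_inv_of_mul_eq_one_right h4]
    exact K.inv_mem (h l (by omega))
  have h8 : c1g 8 ∈ K := by
    have h2 := eq_of_eqW c1W [8]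
    rw [evalW_cons, evalW_nil, mul_one] at h2
    rw [← h2]
    exact evalW_mem fun l hl => h1 l ((lettersLt_iff 6 c1W).1 (by decide +kernel) l hl)
  have h2 : ∀ a : Co0, a • vO = vO → a ∈ K := fun a ha => by
    have h3 : genLt (subL (stabilizer Co0 vO) fun l => el (co2R l)) 3 ≤ K.comap (stabilizer Co0 vO).subtype :=
      genLt_le fun l hl => by
        rw [Subgroup.mem_comap, Subgroup.coe_subtype, c1_coe hl]
        interval_cases l
        exacts [h 0 (by decide), h 1 (by decide), h8]
    exact h3 (x := ⟨a, ha⟩) (c1_model.gen ▸ trivial)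
  have h3 : ∀ w : List ℕ, (∀ l ∈ w, l ∈ [0, 2, 6, 8]) → evalW c1g w ∈ K := fun w hw => evalW_mem fun l hl => by
    have h4 := hw l hl
    simp only [List.mem_cons, List.not_mem_nil, or_false] at h4
    rcases h4 with rfl | rfl | rfl | rfl
    exacts [h 0 (by decide), h 2 (by decide), c1g_six ▸ hN, h8]
  have h4 : ∀ t ∈ [32800, 32736, 32784, 32776, 32768, 32760, 32752], ∃ w ∈ ([[], [6], [6, 2], [2, 0, 8, 0, 2], [2, 0, 2], [2, 0, 8, 6, 0, 2], [2]] : List (List ℕ)),
      (∀ l ∈ w, l ∈ [0, 2, 6, 8]) ∧ lettersLt 9 w = true ∧ ipc cO (appW c1R w cO) = t := by decide +kernel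
  refine eq_top_iff.2 fun g _ => ?_
  have hb : ∀ a : Co0, nm (a • vO) = 32 := fun a => by rw [nm_smul, nm_vO]
  obtain ⟨w, -, w1, w2, w3⟩ := h4 (32768 + ip vO (g • vO)).toNat (by
    rcases ip_cases32 nm_vO (hb g) with e | e | e | e | e | e | e
    · rw [e, ip_self, nm_vO]; decide
    · rw [e, ip_neg_right, ip_self, nm_vO]; decide
    all_goals rw [e]; decide)
  have h5 := ipc_cd (bd_of_nm (x := vO) (by rw [nm_vO]; norm_num))
    (bd_of_nm (x := evalW c1g w • vO) (by rw [hb]; norm_num))
  rw [cd_vO, cd_word w2, w3] at h5
  have h6 := le_nm (v := vO) (fun e => by simpa [e, nm_zero] using nm_vO)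
  have h7 := nm_nonneg (vO + g • vO)
  rw [nm_add, hb, nm_vO] at h7
  obtain ⟨a, a1, a2⟩ := trans_pair nm_vO (hb (evalW c1g w)) nm_vO (hb g) (by omega)
  have h9 := h2 ((a * evalW c1g w)⁻¹ * g) (by rw [mul_smul, ← a2, ← mul_smul a, inv_smul_smul])
  exact (K.mul_mem_cancel_left (K.inv_mem (K.mul_mem (h2 a a1) (h3 w w1)))).1 h9

theorem c1_rel : ∀ r ∈ [1, 5], ∀ z ∈ [[2], [2, 2]], (r = 1 ∧ z = [2]) ∨
    (lettersLt 9 (List.replicate 22 (List.replicate r [0] ++ [[1], [1], z]).flatten).flatten = true ∧
      appW c1R (List.replicate 22 (List.replicate r [0] ++ [[1], [1], z]).flatten).flatten cO ≠ cO ∧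
      appW c1R (List.replicate 22 (List.replicate r [0] ++ [[1], [1], z]).flatten).flatten cO ≠ appW c1R [6] cO) := by
  decide +kernel

theorem card_out_Co1 : Nat.card (Out Spor.Co1) = 1 := by
  refine Subgroup.index_eq_one.2 (eq_top_iff.2 fun σ _ => ?_)
  have hne : ∀ w : List ℕ, lettersLt 9 w = true → appW c1R w cO ≠ cO → appW c1R w cO ≠ appW c1R [6] cO →
      pr1 (evalW c1g w) ≠ 1 := fun w h1 h2 h3 h4 => by
    rcases pr1_eq_one.1 h4 with e | e
    · exact h2 (by rw [← cd_word h1, e, one_smul, cd_vO])
    · exact h3 (by rw [← cd_word h1, e, ← cd_word rfl, evalW_cons, evalW_nil, mul_one, c1g_six])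
  have hx : pr1 (c1g 0) ≠ 1 := fun h => by
    have h1 : c1g 0 ≠ 1 := fun e => by
      have := cd_evalW (R := c1R) (w := [0]) (c1_okW rfl) (nm_e8 (ptOf 0)).le
      rw [evalW_cons, evalW_nil, mul_one, show el (c1R 0) = 1 from e, one_smul, cd_e8 0 (by decide)] at this
      exact absurd this (by decide +kernel)
    have h2 := pow_of_eqW 0 23
    rw [(pr1_eq_one.1 h).resolve_left h1, show 23 = 2 * 11 + 1 from rfl, pow_succ, pow_mul, sq, negOne_mul_self,
      one_pow, one_mul] at h2
    exact negOne_ne_one h2
  have hw : c1g 1 * c1g 0 = c1g 0 ^ 2 * c1g 1 := by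
    have h := eq_of_eqW [1, 0] [0, 0, 1]
    simpa only [evalW_cons, evalW_nil, mul_one, sq, mul_assoc] using h
  have : Finite Spor.Co1 := Nat.finite_of_card_ne_zero (by rw [card_Co1]; norm_num)
  obtain ⟨g, r, hr, g0, g1⟩ := exists_normal_form (p := 23) (κ := 2) (N := 180772904632320000) (R := [1, 5])
    (by norm_num) hx (by rw [← map_pow, pow_of_eqW 0 23, map_one]) (card_Co1.trans (by norm_num)) (by norm_num) cent_X
    (w := pr1 (c1g 1)) (by rw [← map_mul, hw, map_mul, map_pow]) (by norm_num)
    (fun i hi h0 => by
      have h : ∀ i < 23, i ≠ 0 → ∃ a < 11, ∃ r ∈ [1, 5], i * 2 ^ a % 23 = r := by decide +kernel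
      obtain ⟨a, -, h1⟩ := h i hi h0
      exact ⟨a, h1⟩) σ
  let β : MulAut Spor.Co1 := MulAut.conj g * σ
  have b0 : β (pr1 (c1g 0)) = pr1 (c1g 0) ^ r := g0
  have b1 : β (pr1 (c1g 1)) = pr1 (c1g 1) := g1
  have hz : c1g 2 * c1g 1 = c1g 1 * c1g 2 := by
    simpa only [evalW_cons, evalW_nil, mul_one] using eq_of_eqW [2, 1] [1, 2]
  obtain ⟨z, hz, b2⟩ : ∃ z ∈ [[2], [2, 2]], β (pr1 (c1g 2)) = pr1 (evalW c1g z) := by
    rcases cent_W (a := β (pr1 (c1g 2))) (by rw [← b1, ← map_mul, ← map_mul, ← map_mul, ← map_mul, hz])
      (by rw [← map_pow, ← map_pow, pow_of_eqW 2 3, map_one, map_one]) (fun h => hne [2] rfl (by decide +kernel)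
        (by decide +kernel) (by rwa [evalW_cons, evalW_nil, mul_one, ← β.map_eq_one_iff])) with e | e
    exacts [⟨_, by simp, e⟩, ⟨_, by simp, e⟩]
  have key : ∀ (r : ℕ) (z : List ℕ),
      evalW c1g (List.replicate 22 (List.replicate r [0] ++ [[1], [1], z]).flatten).flatten =
        (c1g 0 ^ r * (c1g 1 * (c1g 1 * evalW c1g z))) ^ 22 := fun r z => by
    rw [evalW_replicate, List.flatten_append, evalW_append, evalW_replicate]
    simp only [List.flatten_cons, List.flatten_nil, evalW_append, evalW_cons, evalW_nil, mul_one]
  rcases c1_rel r hr z hz with ⟨rfl, rfl⟩ | ⟨c1, c2, c3⟩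
  · have h1 : (MonoidHom.eqLocus (β : Spor.Co1 →* Spor.Co1) (MonoidHom.id _)).comap pr1 = ⊤ :=
      c1_gen (fun l hl => by
        interval_cases l
        exacts [b0.trans (pow_one _), b1, b2.trans (congrArg pr1 (mul_one _))])
        (by rw [Subgroup.mem_comap, pr1_negOne]; exact one_mem _)
    refine ⟨g⁻¹, MulEquiv.ext fun a => ?_⟩
    obtain ⟨c, rfl⟩ := QuotientGroup.mk'_surjective _ a
    have h2 : g * σ (pr1 c) * g⁻¹ = pr1 c := h1.ge (Subgroup.mem_top c)
    rw [MulAut.conj_apply, inv_inv, mul_assoc, inv_mul_eq_iff_eq_mul, ← eq_mul_inv_iff_mul_eq, h2]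
  · refine absurd ?_ (hne _ c1 c2 c3)
    have h1 := (key 1 [2]).symm.trans (eq_of_eqW _ [])
    have h2 := congrArg (fun a => β (pr1 a)) h1
    simp only [evalW_cons, evalW_nil, mul_one, pow_one, map_pow, map_mul, map_one, b0, b1, b2] at h2
    rw [key]
    simpa only [map_pow, map_mul] using h2

end Cfsg.Agent.Spor.LC
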