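import Mathlib
import Cfsg.Agent.Spor.Comp.Pres

/-! Generated by tools/pg: stabiliser chain hs2 -/

set_option autoImplicit false
set_option maxRecDepth 100000
set_option linter.unusedVariables false
set_option exponentiation.threshold 100000

namespace Cfsg.Agent.Spor.OutC

open Cfsg.Agent.Spor

noncomputable def hs2_S_t0 : BT :=
(.node (.node (.node (.node (.leaf (nat_lit 0xaefc80dc65e82711724c76c6e79824460158cc29038a2569454187e01828f99b091e5158faf5f84a5acd43589bd02cdcc3947974e16c51e1b52ea4ca609d55501d9380095d9cc520b44b7757a0686acb745055a61c10e85))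
 (.leaf (nat_lit 0x360c7bb3c498a25d2e91d1c32a882aea18639131c09829190911a6d84d14a28b2259b40a7c0967cac125a665ab7494582054c94da596e50da97ae617f8059784f5b18a044d2fae871564ee60c79cf16840f3efc970009dd))
) (.node (.leaf (nat_lit 0x2436b989e382d63cf662f8c8c39f8b00b2d11494596281d8fc289536bcfe58b498c8a772cd6530521ad182d305c70501caa00435a78e9821651ce178442fdb9b612d5866559a7c2a75427254893610ae24cdc644007575d))
 (.leaf (nat_lit 0xc72f0b6bea5d2b5b0acc1ad5eaa3a65a8bc72566a4c52a48a26b81af116ac3d7efa05077767a84d80d3466a98b0891adacb8caf384edcbcca88828f3a48f8e36d4c984b4a7148e78690407088c17202430e190898a00082))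
)) (.node (.node (.leaf (nat_lit 0x36a40970d2d50442393d7b10651e188039a6f11dccbd559bd711634e2272b0a20d24359ac93479e95e3e92e98312a0c28b1377113b2e5b242452dd23f50ec2c740c19c03d7a2508e1bf2d68453590158da37d6dc5c0b080))
 (.leaf (nat_lit 0x9a4501e0a880214ca1fc42642aa367657170c2e2cbb494247191a14ea26c6cc3edcd0ac14870360658bc7aaaead296c4a76cad4c01f0da2f937092c757ec4fc65591838e29c10378b48c35d2563b29f540f41d88c4d5c82))
) (.node (.leaf (nat_lit 0xc6a9f01ae5403d10f0658bf4a32e25591979e2cdca153219f7f5611d9314a258f86e5a7241db61ee1aa842441271b5162d0788c346012024a269989904e2069a88b29a066f413d4d93a6e157d99d2d05b0e7072656c705d))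
 (.leaf (nat_lit 0xc75aab632ac1a91168658978b0c67f11f1548f1a39af2a4913f51d525b0a0c0a745ece77166284d81acd0c498b02c8e1acbc7ae384edc14f5c890a08ea899c026af9800be8143aca4101e3855916344db0ecc284ba94d97))
))) (.node (.node (.node (.leaf (nat_lit 0x7c223b13b0c03038a261ac370c107139a2bbe44dd982b0736455e9842e7d9d2844ed279299daf0d11ab2748e5a5b0068392b146cd781ccbfad1924aa96c1211650b6041444ae1f8de9e917b105804864faaa6e8a5add503))
 (.leaf (nat_lit 0x8e313a156d883b5a5ac9d88287a6273e30da539e816301f1ac744fd7469474a6926680b8ccb8213797bf74aa5ae6ac2da0bec8911c352114866702c8a16c0337211187368aa4a6a545dab068620d59b840e2cf0838e263c))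
) (.node (.leaf (nat_lit 0x18f505f6d02b5912165a9624d651423b0c79a95fd3906024468225035d81dab643d5140375992aa7af1f2304046152535b38e4ba26e9c30b86f313eb056b96c666e2f506e2d0704125a46d4152990982d0e686d49ce8ecf))
 (.leaf (nat_lit 0x1afd0602486e9986cdece385ead40068201216178b972234a8f24ac4b7081c0c4facbc6c6dcb810ecf93b4a58a39ab932c56159144eb4724608af616a78b57754ae18ac762a8697c8cf1e9718c98284b70e19551820a853))
)) (.node (.node (.leaf (nat_lit 0xbe4d24470e475a1e8c4bfc6c8e213f35e5daaa1a2044aec92b13e59058dc351c4e983d2a75698115da8b5c6534e1aa64bb0b1db1bb810b3e4a1d98c82a8094ac2a054bc46848634e9618a0f0434f0a55b35180029879797))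
 (.leaf (nat_lit 0x949503642a8992a86dab3005c7db1cf04c41a59ec8058d84c06b4fd05c0433438126d244745384d82cc0b0ad8c92b0e3276578f2858df11110eefe18aa5d3fb430298ad39794bb7120bab4e79a20e68a30f04cbe8f2e157))
) (.node (.leaf (nat_lit 0x36868c2c0d5d195842e1f3b75b849832a14000e78bb31574ba0c0ac8462995e9a8312282095134f7c74772feb89310c45580f6c174cb67111ea29e168d80ab2c18d4a5270f3cace19927d482e348bedc60e96d498835db1))
 (.leaf (nat_lit 0x994d0225466021b67629b1c5eaaec54a8d094e9ae3973c4100cdecc287120dd0024a8c7739cb88cda6b42cc98ad3f5182c3d7d4944e8ce244d82e615eaed25b06af18accdea826148c81f5c5bc1a29f490f1c90406080bf))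
))))

noncomputable def hs2_S_t : BT :=
hs2_S_t0

noncomputable def hs2_S : ℕ → ℕ → ℕ := fun x i => Nat.land (Nat.shiftRight (BT.get hs2_S_t x) (Nat.mul (nat_lit 7) i)) (nat_lit 127)

noncomputable def hs2_defs : LT :=
(.node (.node (.node (.node (.leaf [nat_lit 0])
 (.leaf [nat_lit 0,nat_lit 7,nat_lit 6,nat_lit 5,nat_lit 5,nat_lit 6,nat_lit 7,nat_lit 7,nat_lit 6,nat_lit 5,nat_lit 6])
) (.node (.leaf [nat_lit 1,nat_lit 1])
 (.leaf [nat_lit 0,nat_lit 8,nat_lit 9,nat_lit 10,nat_lit 9,nat_lit 10,nat_lit 9,nat_lit 10,nat_lit 10])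
)) (.node (.node (.leaf [nat_lit 0])
 (.leaf [nat_lit 1,nat_lit 8])
) (.node (.leaf [nat_lit 0,nat_lit 1,nat_lit 3,nat_lit 1,nat_lit 1,nat_lit 1,nat_lit 1])
 (.leaf [nat_lit 0,nat_lit 11,nat_lit 12,nat_lit 11])
))) (.node (.node (.node (.leaf [nat_lit 0])
 (.leaf [nat_lit 0,nat_lit 6,nat_lit 5,nat_lit 6,nat_lit 7,nat_lit 6])
) (.node (.leaf [nat_lit 0,nat_lit 2,nat_lit 0,nat_lit 2,nat_lit 0,nat_lit 2,nat_lit 3,nat_lit 2])
 (.leaf [nat_lit 0,nat_lit 8,nat_lit 8,nat_lit 9,nat_lit 8,nat_lit 8,nat_lit 9,nat_lit 8,nat_lit 8,nat_lit 9])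
)) (.node (.node (.leaf [nat_lit 1,nat_lit 0])
 (.leaf [nat_lit 0,nat_lit 9,nat_lit 10,nat_lit 9,nat_lit 10,nat_lit 9,nat_lit 10,nat_lit 10,nat_lit 9,nat_lit 10,nat_lit 9,nat_lit 10])
) (.node (.leaf [nat_lit 1,nat_lit 5])
 (.leaf [nat_lit 0,nat_lit 11,nat_lit 13,nat_lit 11])
))))
noncomputable def hs2_iota : ℕ → ℕ := getP (nat_lit 8) (nat_lit 255) (nat_lit 0x20401030006090b0f0e)
noncomputable def hs2_inv : ℕ → ℕ := getP (nat_lit 8) (nat_lit 255) (nat_lit 0x9070805060403020100)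
noncomputable def hs2_hws : LT := .leaf []

noncomputable def hs2_T_t0 : BT :=
(.node (.node (.node (.node (.leaf (nat_lit 0xc75aab632ac1a91168658978b0c67f11f1548f1a39af2a4913f51d525b0a0c0a745ece77166284d81acd0c498b02c8e1acbc7ae384edc14f5c890a08ea899c026af9800be8143aca4101e3855916344db0ecc284ba94d97))
 (.leaf (nat_lit 0x2436b989e382d63cf662f8c8c39f8b00b2d11494596281d8fc289536bcfe58b498c8a772cd6530521ad182d305c70501caa00435a78e9821651ce178442fdb9b612d5866559a7c2a75427254893610ae24cdc644007575d))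
) (.leaf (nat_lit 0xc6a9f01ae5403d10f0658bf4a32e25591979e2cdca153219f7f5611d9314a258f86e5a7241db61ee1aa842441271b5162d0788c346012024a269989904e2069a88b29a066f413d4d93a6e157d99d2d05b0e7072656c705d))
) (.node (.leaf (nat_lit 0x949503642a8992a86dab3005c7db1cf04c41a59ec8058d84c06b4fd05c0433438126d244745384d82cc0b0ad8c92b0e3276578f2858df11110eefe18aa5d3fb430298ad39794bb7120bab4e79a20e68a30f04cbe8f2e157))
 (.leaf (nat_lit 0xbe4d24470e475a1e8c4bfc6c8e213f35e5daaa1a2044aec92b13e59058dc351c4e983d2a75698115da8b5c6534e1aa64bb0b1db1bb810b3e4a1d98c82a8094ac2a054bc46848634e9618a0f0434f0a55b35180029879797))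
)) (.node (.node (.node (.leaf (nat_lit 0x994d0225466021b67629b1c5eaaec54a8d094e9ae3973c4100cdecc287120dd0024a8c7739cb88cda6b42cc98ad3f5182c3d7d4944e8ce244d82e615eaed25b06af18accdea826148c81f5c5bc1a29f490f1c90406080bf))
 (.leaf (nat_lit 0x36a40970d2d50442393d7b10651e188039a6f11dccbd559bd711634e2272b0a20d24359ac93479e95e3e92e98312a0c28b1377113b2e5b242452dd23f50ec2c740c19c03d7a2508e1bf2d68453590158da37d6dc5c0b080))
) (.leaf (nat_lit 0xaefc80dc65e82711724c76c6e79824460158cc29038a2569454187e01828f99b091e5158faf5f84a5acd43589bd02cdcc3947974e16c51e1b52ea4ca609d55501d9380095d9cc520b44b7757a0686acb745055a61c10e85))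
) (.node (.leaf (nat_lit 0x8e313a156d883b5a5ac9d88287a6273e30da539e816301f1ac744fd7469474a6926680b8ccb8213797bf74aa5ae6ac2da0bec8911c352114866702c8a16c0337211187368aa4a6a545dab068620d59b840e2cf0838e263c))
 (.leaf (nat_lit 0x7c223b13b0c03038a261ac370c107139a2bbe44dd982b0736455e9842e7d9d2844ed279299daf0d11ab2748e5a5b0068392b146cd781ccbfad1924aa96c1211650b6041444ae1f8de9e917b105804864faaa6e8a5add503))
)))

noncomputable def hs2_T_t : BT :=
hs2_T_t0

noncomputable def hs2_T : ℕ → ℕ → ℕ := fun x i => Nat.land (Nat.shiftRight (BT.get hs2_T_t x) (Nat.mul (nat_lit 7) i)) (nat_lit 127)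

noncomputable def hs2_E_t0 : BT :=
(.node (.node (.node (.leaf (nat_lit 0x403403300301400401405403406406400307400403208303409403209309306401409402306309408303307308406405405405408306404300409305302307309409300400409308402406306409407408402406408406404401403207407403301206403406400409403305401205303308409307405309407405400401302508406302407305302407100406402304402402404403))
 (.leaf (nat_lit 0x301000000000000000000000000000000201000000000000000000000000200000000000000000000000000300000100000000000000000000000000000000000000000000000000000000000000000000000000000000000000000000000000000000000000000000000000000000000000000400000000000000000000000000000000000000))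
) (.leaf (nat_lit 0x803502000000000000702000000801700803300601000000502500000502603600700700203701000700701000800403000501503702501000701503000701603403000000801603700000100000702000000000000000000500000000400700000000000000800000700501700702000000500702600601603000603803000401603601703703000000000602000000603302602402))
) (.node (.leaf (nat_lit 0x701504000503502502502300000601702602604600000000404704000600700702502600700704000600602000700604000702603601500000404701403603504704000600601600504400803000602000000000401400204603000000602602000502401000701302500603604604502100603601501704404303504603000504700603703602000000000600403000504700604604))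
 (.leaf (nat_lit 0x500000000602601402000000000000000702000700000502802000000000000000301000502802000702100601000000701600000601000000000000702702300000000000500000000000000000000000000000000000000000000000400000702000501802000000000401602000602000000000000000000701000000000000000202000000402000600000))
))

noncomputable def hs2_E_t : BT :=
hs2_E_t0

noncomputable def hs2_E : ℕ → ℕ → ℕ := fun x i => Nat.land (Nat.shiftRight (BT.get hs2_E_t x) (Nat.mul (nat_lit 12) i)) (nat_lit 4095)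

theorem hs2_slp0 : allLt (nat_lit 13) (fun i => force (Nat.add (nat_lit 3) i) (slpOK hs2_S hs2_defs (nat_lit 100))) = true := by decide +kernel

theorem hs2_ren : allLt (nat_lit 10) (fun x => force (hs2_iota x) fun y => band (blt y (nat_lit 16)) (allRange (nat_lit 0) (nat_lit 100) fun i => Nat.beq (hs2_S y i) (hs2_T x i))) = true := by decide +kernel

theorem hs2_L4_o : band (allRange (nat_lit 0) (nat_lit 100) (orbOK hs2_T (nat_lit 2) (hs2_E (nat_lit 4)) (Nat.beq (nat_lit 58)))) (band (Nat.ble (nat_lit 6) (count2 (nat_lit 100) fun p => Nat.ble 256 (hs2_E (nat_lit 4) p))) (allLt (nat_lit 0) (fun x => Nat.beq (hs2_T x (nat_lit 58)) (nat_lit 58)))) = true := by decide +kernel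

theorem hs2_L3_o : band (allRange (nat_lit 0) (nat_lit 100) (orbOK hs2_T (nat_lit 3) (hs2_E (nat_lit 3)) (Nat.beq (nat_lit 65)))) (band (Nat.ble (nat_lit 32) (count2 (nat_lit 100) fun p => Nat.ble 256 (hs2_E (nat_lit 3) p))) (allLt (nat_lit 2) (fun x => Nat.beq (hs2_T x (nat_lit 65)) (nat_lit 65)))) = true := by decide +kernel

theorem hs2_L2_o : band (allRange (nat_lit 0) (nat_lit 100) (orbOK hs2_T (nat_lit 4) (hs2_E (nat_lit 2)) (Nat.beq (nat_lit 49)))) (band (Nat.ble (nat_lit 60) (count2 (nat_lit 100) fun p => Nat.ble 256 (hs2_E (nat_lit 2) p))) (allLt (nat_lit 3) (fun x => Nat.beq (hs2_T x (nat_lit 49)) (nat_lit 49)))) = true := by decide +kernel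

theorem hs2_L1_o : band (allRange (nat_lit 0) (nat_lit 100) (orbOK hs2_T (nat_lit 5) (hs2_E (nat_lit 1)) (Nat.beq (nat_lit 24)))) (band (Nat.ble (nat_lit 77) (count2 (nat_lit 100) fun p => Nat.ble 256 (hs2_E (nat_lit 1) p))) (allLt (nat_lit 4) (fun x => Nat.beq (hs2_T x (nat_lit 24)) (nat_lit 24)))) = true := by decide +kernel

theorem hs2_L0_o : band (allRange (nat_lit 0) (nat_lit 100) (orbOK hs2_T (nat_lit 10) (hs2_E (nat_lit 0)) (Nat.beq (nat_lit 7)))) (band (Nat.ble (nat_lit 100) (count2 (nat_lit 100) fun p => Nat.ble 256 (hs2_E (nat_lit 0) p))) (allLt (nat_lit 5) (fun x => Nat.beq (hs2_T x (nat_lit 7)) (nat_lit 7)))) = true := by decide +kernel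

/-- The letters: a strong generating set, deepest stabiliser first. -/
noncomputable def hs2_g {G : Type*} [Group G] (a : ℕ → G) : ℕ → G := fun x => slp a 3 hs2_defs (hs2_iota x)

theorem hs2_tabs {G α : Type*} [Group G] [MulAction G α] {e : ℕ → α} {a : ℕ → G} (h0 : Tabs e 100 hs2_S a 3) : Tabs e 100 hs2_T (hs2_g a) 10 :=
  Tabs.rename (ι := hs2_iota) (g := slp a 3 hs2_defs) ((Tabs.slp_base hs2_defs h0).slp_add (by decide) _ hs2_slp0) hs2_ren

theorem hs2_gen {G : Type*} [Group G] (a : ℕ → G) : genLt (hs2_g a) 10 = genLt a 3 :=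
  genLt_slp_eq a hs2_defs (back := getP 8 255 (nat_lit 0x90705)) (by decide +kernel)

theorem hs2_low4 {G α : Type*} [Group G] [MulAction G α] {e : ℕ → α} {a : ℕ → G} (he : Set.InjOn e (Set.Iio 100)) (h0 : Tabs e 100 hs2_S a 3) :
    LowLevel (genLt (hs2_g a) 2) (genLt (hs2_g a) 0) (e 58) 6 :=
  Tabs.lowLevel (hs2_tabs h0) he (by decide) (by decide) (by decide) hs2_L4_o

theorem hs2_ge4 {G α : Type*} [Group G] [MulAction G α] {e : ℕ → α} {a : ℕ → G} (he : Set.InjOn e (Set.Iio 100)) (h0 : Tabs e 100 hs2_S a 3) :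
    Finite (genLt (hs2_g a) 2) → 6 ≤ Nat.card (genLt (hs2_g a) 2) := fun hK =>
  (hs2_low4 he h0).card hK (one_le_card_fin _)

theorem hs2_fix4 {G α : Type*} [Group G] [MulAction G α] {e : ℕ → α} {a : ℕ → G} (he : Set.InjOn e (Set.Iio 100)) (h0 : Tabs e 100 hs2_S a 3) :
    ∀ X : Subgroup G, Finite X → (genLt (hs2_g a) 2) ≤ X → 6 * Nat.card (fixB e X [58]) ≤ Nat.card X :=
  (hs2_low4 he h0).card_fix (card_fix_nil _ _)

theorem hs2_low3 {G α : Type*} [Group G] [MulAction G α] {e : ℕ → α} {a : ℕ → G} (he : Set.InjOn e (Set.Iio 100)) (h0 : Tabs e 100 hs2_S a 3) :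
    LowLevel (genLt (hs2_g a) 3) (genLt (hs2_g a) 2) (e 65) 32 :=
  Tabs.lowLevel (hs2_tabs h0) he (by decide) (by decide) (by decide) hs2_L3_o

theorem hs2_ge3 {G α : Type*} [Group G] [MulAction G α] {e : ℕ → α} {a : ℕ → G} (he : Set.InjOn e (Set.Iio 100)) (h0 : Tabs e 100 hs2_S a 3) :
    Finite (genLt (hs2_g a) 3) → 192 ≤ Nat.card (genLt (hs2_g a) 3) := fun hK =>
  (hs2_low3 he h0).card hK (hs2_ge4 he h0)

theorem hs2_fix3 {G α : Type*} [Group G] [MulAction G α] {e : ℕ → α} {a : ℕ → G} (he : Set.InjOn e (Set.Iio 100)) (h0 : Tabs e 100 hs2_S a 3) :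
    ∀ X : Subgroup G, Finite X → (genLt (hs2_g a) 3) ≤ X → 192 * Nat.card (fixB e X [65, 58]) ≤ Nat.card X :=
  (hs2_low3 he h0).card_fix (hs2_fix4 he h0)

theorem hs2_low2 {G α : Type*} [Group G] [MulAction G α] {e : ℕ → α} {a : ℕ → G} (he : Set.InjOn e (Set.Iio 100)) (h0 : Tabs e 100 hs2_S a 3) :
    LowLevel (genLt (hs2_g a) 4) (genLt (hs2_g a) 3) (e 49) 60 :=
  Tabs.lowLevel (hs2_tabs h0) he (by decide) (by decide) (by decide) hs2_L2_o

theorem hs2_ge2 {G α : Type*} [Group G] [MulAction G α] {e : ℕ → α} {a : ℕ → G} (he : Set.InjOn e (Set.Iio 100)) (h0 : Tabs e 100 hs2_S a 3) :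
    Finite (genLt (hs2_g a) 4) → 11520 ≤ Nat.card (genLt (hs2_g a) 4) := fun hK =>
  (hs2_low2 he h0).card hK (hs2_ge3 he h0)

theorem hs2_fix2 {G α : Type*} [Group G] [MulAction G α] {e : ℕ → α} {a : ℕ → G} (he : Set.InjOn e (Set.Iio 100)) (h0 : Tabs e 100 hs2_S a 3) :
    ∀ X : Subgroup G, Finite X → (genLt (hs2_g a) 4) ≤ X → 11520 * Nat.card (fixB e X [49, 65, 58]) ≤ Nat.card X :=
  (hs2_low2 he h0).card_fix (hs2_fix3 he h0)

theorem hs2_low1 {G α : Type*} [Group G] [MulAction G α] {e : ℕ → α} {a : ℕ → G} (he : Set.InjOn e (Set.Iio 100)) (h0 : Tabs e 100 hs2_S a 3) :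
    LowLevel (genLt (hs2_g a) 5) (genLt (hs2_g a) 4) (e 24) 77 :=
  Tabs.lowLevel (hs2_tabs h0) he (by decide) (by decide) (by decide) hs2_L1_o

theorem hs2_ge1 {G α : Type*} [Group G] [MulAction G α] {e : ℕ → α} {a : ℕ → G} (he : Set.InjOn e (Set.Iio 100)) (h0 : Tabs e 100 hs2_S a 3) :
    Finite (genLt (hs2_g a) 5) → 887040 ≤ Nat.card (genLt (hs2_g a) 5) := fun hK =>
  (hs2_low1 he h0).card hK (hs2_ge2 he h0)

theorem hs2_fix1 {G α : Type*} [Group G] [MulAction G α] {e : ℕ → α} {a : ℕ → G} (he : Set.InjOn e (Set.Iio 100)) (h0 : Tabs e 100 hs2_S a 3) :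
    ∀ X : Subgroup G, Finite X → (genLt (hs2_g a) 5) ≤ X → 887040 * Nat.card (fixB e X [24, 49, 65, 58]) ≤ Nat.card X :=
  (hs2_low1 he h0).card_fix (hs2_fix2 he h0)

theorem hs2_low0 {G α : Type*} [Group G] [MulAction G α] {e : ℕ → α} {a : ℕ → G} (he : Set.InjOn e (Set.Iio 100)) (h0 : Tabs e 100 hs2_S a 3) :
    LowLevel (genLt (hs2_g a) 10) (genLt (hs2_g a) 5) (e 7) 100 :=
  Tabs.lowLevel (hs2_tabs h0) he (by decide) (by decide) (by decide) hs2_L0_o

theorem hs2_ge0 {G α : Type*} [Group G] [MulAction G α] {e : ℕ → α} {a : ℕ → G} (he : Set.InjOn e (Set.Iio 100)) (h0 : Tabs e 100 hs2_S a 3) :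
    Finite (genLt (hs2_g a) 10) → 88704000 ≤ Nat.card (genLt (hs2_g a) 10) := fun hK =>
  (hs2_low0 he h0).card hK (hs2_ge1 he h0)

theorem hs2_fix0 {G α : Type*} [Group G] [MulAction G α] {e : ℕ → α} {a : ℕ → G} (he : Set.InjOn e (Set.Iio 100)) (h0 : Tabs e 100 hs2_S a 3) :
    ∀ X : Subgroup G, Finite X → (genLt (hs2_g a) 10) ≤ X → 88704000 * Nat.card (fixB e X [7, 24, 49, 65, 58]) ≤ Nat.card X :=
  (hs2_low0 he h0).card_fix (hs2_fix1 he h0)

theorem hs2_ub0 {G α : Type*} [Group G] [MulAction G α] {e : ℕ → α} {a : ℕ → G} (he : Set.InjOn e (Set.Iio 100)) (h0 : Tabs e 100 hs2_S a 3) (hub : Nat.card (genLt a 3) ≠ 0 ∧ Nat.card (genLt a 3) ≤ 88704000) :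
    Nat.card (genLt (hs2_g a) 10) ≠ 0 ∧ Nat.card (genLt (hs2_g a) 10) ≤ 88704000 := by rw [hs2_gen]; exact hub

theorem hs2_level0 {G α : Type*} [Group G] [MulAction G α] {e : ℕ → α} {a : ℕ → G} (he : Set.InjOn e (Set.Iio 100)) (h0 : Tabs e 100 hs2_S a 3) (hub : Nat.card (genLt a 3) ≠ 0 ∧ Nat.card (genLt a 3) ≤ 88704000) :
    Level (genLt (hs2_g a) 10) (genLt (hs2_g a) 5) (e 7) 100 :=
  ((hs2_low0 he h0).level (c := 887040) (hs2_ub0 he h0 hub) (hs2_ge1 he h0)).1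

theorem hs2_ub1 {G α : Type*} [Group G] [MulAction G α] {e : ℕ → α} {a : ℕ → G} (he : Set.InjOn e (Set.Iio 100)) (h0 : Tabs e 100 hs2_S a 3) (hub : Nat.card (genLt a 3) ≠ 0 ∧ Nat.card (genLt a 3) ≤ 88704000) :
    Nat.card (genLt (hs2_g a) 5) ≠ 0 ∧ Nat.card (genLt (hs2_g a) 5) ≤ 887040 :=
  ((hs2_low0 he h0).level (c := 887040) (hs2_ub0 he h0 hub) (hs2_ge1 he h0)).2

theorem hs2_level1 {G α : Type*} [Group G] [MulAction G α] {e : ℕ → α} {a : ℕ → G} (he : Set.InjOn e (Set.Iio 100)) (h0 : Tabs e 100 hs2_S a 3) (hub : Nat.card (genLt a 3) ≠ 0 ∧ Nat.card (genLt a 3) ≤ 88704000) :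
    Level (genLt (hs2_g a) 5) (genLt (hs2_g a) 4) (e 24) 77 :=
  ((hs2_low1 he h0).level (c := 11520) (hs2_ub1 he h0 hub) (hs2_ge2 he h0)).1

theorem hs2_ub2 {G α : Type*} [Group G] [MulAction G α] {e : ℕ → α} {a : ℕ → G} (he : Set.InjOn e (Set.Iio 100)) (h0 : Tabs e 100 hs2_S a 3) (hub : Nat.card (genLt a 3) ≠ 0 ∧ Nat.card (genLt a 3) ≤ 88704000) :
    Nat.card (genLt (hs2_g a) 4) ≠ 0 ∧ Nat.card (genLt (hs2_g a) 4) ≤ 11520 :=
  ((hs2_low1 he h0).level (c := 11520) (hs2_ub1 he h0 hub) (hs2_ge2 he h0)).2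

theorem hs2_level2 {G α : Type*} [Group G] [MulAction G α] {e : ℕ → α} {a : ℕ → G} (he : Set.InjOn e (Set.Iio 100)) (h0 : Tabs e 100 hs2_S a 3) (hub : Nat.card (genLt a 3) ≠ 0 ∧ Nat.card (genLt a 3) ≤ 88704000) :
    Level (genLt (hs2_g a) 4) (genLt (hs2_g a) 3) (e 49) 60 :=
  ((hs2_low2 he h0).level (c := 192) (hs2_ub2 he h0 hub) (hs2_ge3 he h0)).1

theorem hs2_ub3 {G α : Type*} [Group G] [MulAction G α] {e : ℕ → α} {a : ℕ → G} (he : Set.InjOn e (Set.Iio 100)) (h0 : Tabs e 100 hs2_S a 3) (hub : Nat.card (genLt a 3) ≠ 0 ∧ Nat.card (genLt a 3) ≤ 88704000) :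
    Nat.card (genLt (hs2_g a) 3) ≠ 0 ∧ Nat.card (genLt (hs2_g a) 3) ≤ 192 :=
  ((hs2_low2 he h0).level (c := 192) (hs2_ub2 he h0 hub) (hs2_ge3 he h0)).2

theorem hs2_level3 {G α : Type*} [Group G] [MulAction G α] {e : ℕ → α} {a : ℕ → G} (he : Set.InjOn e (Set.Iio 100)) (h0 : Tabs e 100 hs2_S a 3) (hub : Nat.card (genLt a 3) ≠ 0 ∧ Nat.card (genLt a 3) ≤ 88704000) :
    Level (genLt (hs2_g a) 3) (genLt (hs2_g a) 2) (e 65) 32 :=
  ((hs2_low3 he h0).level (c := 6) (hs2_ub3 he h0 hub) (hs2_ge4 he h0)).1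

theorem hs2_ub4 {G α : Type*} [Group G] [MulAction G α] {e : ℕ → α} {a : ℕ → G} (he : Set.InjOn e (Set.Iio 100)) (h0 : Tabs e 100 hs2_S a 3) (hub : Nat.card (genLt a 3) ≠ 0 ∧ Nat.card (genLt a 3) ≤ 88704000) :
    Nat.card (genLt (hs2_g a) 2) ≠ 0 ∧ Nat.card (genLt (hs2_g a) 2) ≤ 6 :=
  ((hs2_low3 he h0).level (c := 6) (hs2_ub3 he h0 hub) (hs2_ge4 he h0)).2

theorem hs2_level4 {G α : Type*} [Group G] [MulAction G α] {e : ℕ → α} {a : ℕ → G} (he : Set.InjOn e (Set.Iio 100)) (h0 : Tabs e 100 hs2_S a 3) (hub : Nat.card (genLt a 3) ≠ 0 ∧ Nat.card (genLt a 3) ≤ 88704000) :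
    Level (genLt (hs2_g a) 2) (genLt (hs2_g a) 0) (e 58) 6 :=
  ((hs2_low4 he h0).level (c := 1) (hs2_ub4 he h0 hub) (one_le_card_fin _)).1

theorem hs2_card4 {G α : Type*} [Group G] [MulAction G α] {e : ℕ → α} {a : ℕ → G} (he : Set.InjOn e (Set.Iio 100)) (h0 : Tabs e 100 hs2_S a 3) (hub : Nat.card (genLt a 3) ≠ 0 ∧ Nat.card (genLt a 3) ≤ 88704000) :
    Nat.card (genLt (hs2_g a) 2) = 6 :=
  (hs2_level4 he h0 hub).card (card_genLt_zero _)

theorem hs2_base4 {G α : Type*} [Group G] [MulAction G α] {e : ℕ → α} {a : ℕ → G} (he : Set.InjOn e (Set.Iio 100)) (h0 : Tabs e 100 hs2_S a 3) (hub : Nat.card (genLt a 3) ≠ 0 ∧ Nat.card (genLt a 3) ≤ 88704000) :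
    IsBase e (genLt (hs2_g a) 2) [58] :=
  (hs2_level4 he h0 hub).base (isBase_genLt_zero _ _)

theorem hs2_card3 {G α : Type*} [Group G] [MulAction G α] {e : ℕ → α} {a : ℕ → G} (he : Set.InjOn e (Set.Iio 100)) (h0 : Tabs e 100 hs2_S a 3) (hub : Nat.card (genLt a 3) ≠ 0 ∧ Nat.card (genLt a 3) ≤ 88704000) :
    Nat.card (genLt (hs2_g a) 3) = 192 :=
  (hs2_level3 he h0 hub).card (hs2_card4 he h0 hub)

theorem hs2_base3 {G α : Type*} [Group G] [MulAction G α] {e : ℕ → α} {a : ℕ → G} (he : Set.InjOn e (Set.Iio 100)) (h0 : Tabs e 100 hs2_S a 3) (hub : Nat.card (genLt a 3) ≠ 0 ∧ Nat.card (genLt a 3) ≤ 88704000) :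
    IsBase e (genLt (hs2_g a) 3) [65, 58] :=
  (hs2_level3 he h0 hub).base (hs2_base4 he h0 hub)

theorem hs2_card2 {G α : Type*} [Group G] [MulAction G α] {e : ℕ → α} {a : ℕ → G} (he : Set.InjOn e (Set.Iio 100)) (h0 : Tabs e 100 hs2_S a 3) (hub : Nat.card (genLt a 3) ≠ 0 ∧ Nat.card (genLt a 3) ≤ 88704000) :
    Nat.card (genLt (hs2_g a) 4) = 11520 :=
  (hs2_level2 he h0 hub).card (hs2_card3 he h0 hub)

theorem hs2_base2 {G α : Type*} [Group G] [MulAction G α] {e : ℕ → α} {a : ℕ → G} (he : Set.InjOn e (Set.Iio 100)) (h0 : Tabs e 100 hs2_S a 3) (hub : Nat.card (genLt a 3) ≠ 0 ∧ Nat.card (genLt a 3) ≤ 88704000) :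
    IsBase e (genLt (hs2_g a) 4) [49, 65, 58] :=
  (hs2_level2 he h0 hub).base (hs2_base3 he h0 hub)

theorem hs2_card1 {G α : Type*} [Group G] [MulAction G α] {e : ℕ → α} {a : ℕ → G} (he : Set.InjOn e (Set.Iio 100)) (h0 : Tabs e 100 hs2_S a 3) (hub : Nat.card (genLt a 3) ≠ 0 ∧ Nat.card (genLt a 3) ≤ 88704000) :
    Nat.card (genLt (hs2_g a) 5) = 887040 :=
  (hs2_level1 he h0 hub).card (hs2_card2 he h0 hub)

theorem hs2_base1 {G α : Type*} [Group G] [MulAction G α] {e : ℕ → α} {a : ℕ → G} (he : Set.InjOn e (Set.Iio 100)) (h0 : Tabs e 100 hs2_S a 3) (hub : Nat.card (genLt a 3) ≠ 0 ∧ Nat.card (genLt a 3) ≤ 88704000) :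
    IsBase e (genLt (hs2_g a) 5) [24, 49, 65, 58] :=
  (hs2_level1 he h0 hub).base (hs2_base2 he h0 hub)

theorem hs2_card0 {G α : Type*} [Group G] [MulAction G α] {e : ℕ → α} {a : ℕ → G} (he : Set.InjOn e (Set.Iio 100)) (h0 : Tabs e 100 hs2_S a 3) (hub : Nat.card (genLt a 3) ≠ 0 ∧ Nat.card (genLt a 3) ≤ 88704000) :
    Nat.card (genLt (hs2_g a) 10) = 88704000 :=
  (hs2_level0 he h0 hub).card (hs2_card1 he h0 hub)

theorem hs2_base0 {G α : Type*} [Group G] [MulAction G α] {e : ℕ → α} {a : ℕ → G} (he : Set.InjOn e (Set.Iio 100)) (h0 : Tabs e 100 hs2_S a 3) (hub : Nat.card (genLt a 3) ≠ 0 ∧ Nat.card (genLt a 3) ≤ 88704000) :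
    IsBase e (genLt (hs2_g a) 10) [7, 24, 49, 65, 58] :=
  (hs2_level0 he h0 hub).base (hs2_base1 he h0 hub)

theorem hs2_hinv {G α : Type*} [Group G] [MulAction G α] {e : ℕ → α} {a : ℕ → G} (he : Set.InjOn e (Set.Iio 100)) (h0 : Tabs e 100 hs2_S a 3) (hub : Nat.card (genLt a 3) ≠ 0 ∧ Nat.card (genLt a 3) ≤ 88704000) : ∀ x < 10, hs2_g a x * hs2_g a (hs2_inv x) = 1 :=
  (hs2_tabs h0).hinv_of_base (hs2_base0 he h0 hub) (by decide +kernel)

theorem hs2_card {G α : Type*} [Group G] [MulAction G α] {e : ℕ → α} {a : ℕ → G} (he : Set.InjOn e (Set.Iio 100)) (h0 : Tabs e 100 hs2_S a 3) (hub : Nat.card (genLt a 3) ≠ 0 ∧ Nat.card (genLt a 3) ≤ 88704000) :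
    Nat.card (genLt a 3) = 88704000 := by
  rw [← hs2_gen]; exact hs2_card0 he h0 hub

end Cfsg.Agent.Spor.OutC
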