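import Mathlib
import Cfsg.Agent.Spor.Out.HS2Ch
import Cfsg.Agent.Spor.Out.Gen
import Cfsg.Agent.Spor.Blocks

/-! Generated by tools/h59/outgen.py: outer automorphisms, hs2 -/

set_option autoImplicit false
set_option maxRecDepth 100000
set_option linter.unusedVariables false
set_option exponentiation.threshold 100000

namespace Cfsg.Agent.Spor.OutC

open Cfsg.Agent.Spor

noncomputable def hs2_la : Lv := ⟨hs2_E (nat_lit 0), nat_lit 7, nat_lit 0, true, nat_lit 0, [], []⟩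

noncomputable def hs2_La : List Lv :=
  [⟨hs2_E (nat_lit 1), nat_lit 24, nat_lit 5, false, nat_lit 0, [nat_lit 0], []⟩,
   ⟨hs2_E (nat_lit 2), nat_lit 49, nat_lit 43, false, nat_lit 0, [nat_lit 0], []⟩,
   ⟨hs2_E (nat_lit 3), nat_lit 65, nat_lit 74, false, nat_lit 0, [nat_lit 0], []⟩,
   ⟨hs2_E (nat_lit 4), nat_lit 58, nat_lit 94, false, nat_lit 0, [nat_lit 0,nat_lit 0,nat_lit 0,nat_lit 0,nat_lit 0,nat_lit 0], []⟩]

noncomputable def hs2_lb : Lv := ⟨hs2_E (nat_lit 0), nat_lit 7, nat_lit 7, true, nat_lit 0, [], []⟩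

noncomputable def hs2_Lb : List Lv :=
  [⟨hs2_E (nat_lit 1), nat_lit 24, nat_lit 24, false, nat_lit 0, [nat_lit 0], []⟩,
   ⟨hs2_E (nat_lit 2), nat_lit 49, nat_lit 49, false, nat_lit 0, [nat_lit 0], []⟩,
   ⟨hs2_E (nat_lit 3), nat_lit 65, nat_lit 65, false, nat_lit 0, [nat_lit 0], []⟩,
   ⟨hs2_E (nat_lit 4), nat_lit 58, nat_lit 58, false, nat_lit 0, [nat_lit 0], []⟩]

def hs2_h : List ℕ := [nat_lit 1,nat_lit 2,nat_lit 0,nat_lit 2,nat_lit 3,nat_lit 0,nat_lit 3,nat_lit 4,nat_lit 2,nat_lit 0,nat_lit 4,nat_lit 2,nat_lit 0,nat_lit 9,nat_lit 5,nat_lit 3]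

def hs2_Z : List ℕ := [nat_lit 9]

def hs2_Rels : List (ℕ × List ℕ × List ℕ) :=
  [(nat_lit 4, [nat_lit 0,nat_lit 1,nat_lit 1,nat_lit 1,nat_lit 2], []),
   (nat_lit 4, [nat_lit 0,nat_lit 0,nat_lit 0,nat_lit 0,nat_lit 0,nat_lit 0,nat_lit 0,nat_lit 1,nat_lit 1,nat_lit 1,nat_lit 1,nat_lit 1,nat_lit 2,nat_lit 0,nat_lit 2], [])]

theorem hs2_s1_0 : allRange (nat_lit 0) (nat_lit 100) (siftTop hs2_T hs2_S hs2_inv (nat_lit 100) hs2_h (acc1 hs2_T hs2_S [nat_lit 7,nat_lit 24,nat_lit 49,nat_lit 65,nat_lit 58] (nat_lit 11)) hs2_la hs2_La) = true := by decide +kernel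

theorem hs2_s2_0 : allRange (nat_lit 0) (nat_lit 100) (siftTop hs2_T (fun _ => iterF (hs2_S 1) (nat_lit 8)) hs2_inv (nat_lit 100) [] (acc2 hs2_T hs2_S [nat_lit 7,nat_lit 24,nat_lit 49,nat_lit 65,nat_lit 58] [nat_lit 1] hs2_Rels [(1, hs2_Z)]) hs2_lb hs2_Lb) = true := by decide +kernel

theorem hs2_hub {G : Type*} [Group G] (y : ℕ → G) (hc : Nat.card G = 88704000) :
    Nat.card (genLt y 3) ≠ 0 ∧ Nat.card (genLt y 3) ≤ 88704000 :=
  card_genLt_le (K := ⊤) (fun _ _ => trivial) (Subgroup.card_top.trans hc)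

theorem hs2_model {G α : Type*} [Group G] [MulAction G α] {e : ℕ → α} {y : ℕ → G} (he : Set.InjOn e (Set.Iio 100)) (h0 : Tabs e 100 hs2_S y 3) (hc : Nat.card G = 88704000) :
    OutModel e 100 hs2_T hs2_S (hs2_g y) y 10 hs2_inv [nat_lit 7,nat_lit 24,nat_lit 49,nat_lit 65,nat_lit 58] 88704000 :=
  have h1 := genLt_eq_of_card (K := ⊤) (fun _ _ => trivial) (Subgroup.card_top.trans hc) (hs2_card he h0 (hs2_hub y hc))
  ⟨(hs2_tabs h0).sifter he (hs2_hinv he h0 (hs2_hub y hc)) (hs2_base0 he h0 (hs2_hub y hc)) (by decide +kernel),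
    (hs2_gen y).trans h1, h0, h1, hc⟩

theorem hs2_sl0 {G α : Type*} [Group G] [MulAction G α] {e : ℕ → α} {y : ℕ → G} (he : Set.InjOn e (Set.Iio 100)) (h0 : Tabs e 100 hs2_S y 3) (hc : Nat.card G = 88704000) :
    SLev e 100 hs2_T (hs2_g y) (hs2_E (nat_lit 0)) 10 5 7 :=
  (hs2_tabs h0).sLev he (hs2_level0 he h0 (hs2_hub y hc)) hs2_L0_o

theorem hs2_sl1 {G α : Type*} [Group G] [MulAction G α] {e : ℕ → α} {y : ℕ → G} (he : Set.InjOn e (Set.Iio 100)) (h0 : Tabs e 100 hs2_S y 3) (hc : Nat.card G = 88704000) :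
    SLev e 100 hs2_T (hs2_g y) (hs2_E (nat_lit 1)) 5 4 24 :=
  (hs2_tabs h0).sLev he (hs2_level1 he h0 (hs2_hub y hc)) hs2_L1_o

theorem hs2_sl2 {G α : Type*} [Group G] [MulAction G α] {e : ℕ → α} {y : ℕ → G} (he : Set.InjOn e (Set.Iio 100)) (h0 : Tabs e 100 hs2_S y 3) (hc : Nat.card G = 88704000) :
    SLev e 100 hs2_T (hs2_g y) (hs2_E (nat_lit 2)) 4 3 49 :=
  (hs2_tabs h0).sLev he (hs2_level2 he h0 (hs2_hub y hc)) hs2_L2_o

theorem hs2_sl3 {G α : Type*} [Group G] [MulAction G α] {e : ℕ → α} {y : ℕ → G} (he : Set.InjOn e (Set.Iio 100)) (h0 : Tabs e 100 hs2_S y 3) (hc : Nat.card G = 88704000) :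
    SLev e 100 hs2_T (hs2_g y) (hs2_E (nat_lit 3)) 3 2 65 :=
  (hs2_tabs h0).sLev he (hs2_level3 he h0 (hs2_hub y hc)) hs2_L3_o

theorem hs2_sl4 {G α : Type*} [Group G] [MulAction G α] {e : ℕ → α} {y : ℕ → G} (he : Set.InjOn e (Set.Iio 100)) (h0 : Tabs e 100 hs2_S y 3) (hc : Nat.card G = 88704000) :
    SLev e 100 hs2_T (hs2_g y) (hs2_E (nat_lit 4)) 2 0 58 :=
  (hs2_tabs h0).sLev he (hs2_level4 he h0 (hs2_hub y hc)) hs2_L4_o

theorem hs2_cha {G α : Type*} [Group G] [MulAction G α] {e : ℕ → α} {y : ℕ → G} (he : Set.InjOn e (Set.Iio 100)) (h0 : Tabs e 100 hs2_S y 3) (hc : Nat.card G = 88704000) :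
    ChainOK e 100 hs2_T (hs2_g y) (hs2_la :: hs2_La) 10 :=
  ⟨_, hs2_sl0 he h0 hc, _, hs2_sl1 he h0 hc, _, hs2_sl2 he h0 hc, _, hs2_sl3 he h0 hc, _, hs2_sl4 he h0 hc, rfl⟩

theorem hs2_chb {G α : Type*} [Group G] [MulAction G α] {e : ℕ → α} {y : ℕ → G} (he : Set.InjOn e (Set.Iio 100)) (h0 : Tabs e 100 hs2_S y 3) (hc : Nat.card G = 88704000) :
    ChainOK e 100 hs2_T (hs2_g y) (hs2_lb :: hs2_Lb) 10 :=
  ⟨_, hs2_sl0 he h0 hc, _, hs2_sl1 he h0 hc, _, hs2_sl2 he h0 hc, _, hs2_sl3 he h0 hc, _, hs2_sl4 he h0 hc, rfl⟩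

theorem hs2_s1 : ∀ q < 100, siftTop hs2_T hs2_S hs2_inv (nat_lit 100) hs2_h (acc1 hs2_T hs2_S [nat_lit 7,nat_lit 24,nat_lit 49,nat_lit 65,nat_lit 58] (nat_lit 11)) hs2_la hs2_La q = true :=
  allRange_zero hs2_s1_0

theorem hs2_s2 : ∀ q < 100, siftTop hs2_T (fun _ => iterF (hs2_S 1) (nat_lit 8)) hs2_inv (nat_lit 100) [] (acc2 hs2_T hs2_S [nat_lit 7,nat_lit 24,nat_lit 49,nat_lit 65,nat_lit 58] [nat_lit 1] hs2_Rels [(1, hs2_Z)]) hs2_lb hs2_Lb q = true :=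
  allRange_zero hs2_s2_0

theorem hs2_out {G α : Type*} [Group G] [MulAction G α] {e : ℕ → α} {y : ℕ → G} (he : Set.InjOn e (Set.Iio 100)) (h0 : Tabs e 100 hs2_S y 3) (hc : Nat.card G = 88704000) : Nat.card (Out G) = 1 :=
  (hs2_model he h0 hc).card_out_one (by decide +kernel)
    ((hs2_model he h0 hc).aut_cases (p := nat_lit 11) (κ := 2) (a := nat_lit 2) (by norm_num) (by decide +kernel)
      ((hs2_model he h0 hc).centralizer (hs2_cha he h0 hc) (by decide +kernel) hs2_s1)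
      (hs2_chb he h0 hc) (by decide +kernel) hs2_s2)

end Cfsg.Agent.Spor.OutC
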