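import Mathlib
import Cfsg.Agent.Spor.Out.J2Ch
import Cfsg.Agent.Spor.Out.Gen
import Cfsg.Agent.Spor.Blocks

/-! Generated by tools/h59/outgen.py: outer automorphisms, j2 -/

set_option autoImplicit false
set_option maxRecDepth 100000
set_option linter.unusedVariables false
set_option exponentiation.threshold 100000

namespace Cfsg.Agent.Spor.OutC

open Cfsg.Agent.Spor

noncomputable def j2_la : Lv := ⟨j2_E (nat_lit 0), nat_lit 12, nat_lit 21, true, nat_lit 0, [], []⟩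

noncomputable def j2_La : List Lv :=
  [⟨j2_E (nat_lit 1), nat_lit 72, nat_lit 169, false, nat_lit 0, [nat_lit 0,nat_lit 0,nat_lit 0], []⟩,
   ⟨j2_E (nat_lit 2), nat_lit 191, nat_lit 39, false, nat_lit 0, [nat_lit 0,nat_lit 0,nat_lit 0], []⟩,
   ⟨j2_E (nat_lit 3), nat_lit 122, nat_lit 203, false, nat_lit 2, [nat_lit 0,nat_lit 0], []⟩]

noncomputable def j2_lb : Lv := ⟨j2_E (nat_lit 0), nat_lit 12, nat_lit 12, true, nat_lit 0, [], []⟩

noncomputable def j2_Lb : List Lv :=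
  [⟨j2_E (nat_lit 1), nat_lit 72, nat_lit 72, false, nat_lit 0, [nat_lit 0], []⟩,
   ⟨j2_E (nat_lit 2), nat_lit 191, nat_lit 191, false, nat_lit 0, [nat_lit 0], []⟩,
   ⟨j2_E (nat_lit 3), nat_lit 122, nat_lit 122, false, nat_lit 0, [nat_lit 0], []⟩]

def j2_h : List ℕ := [nat_lit 0,nat_lit 2,nat_lit 1,nat_lit 4,nat_lit 3,nat_lit 4,nat_lit 3,nat_lit 0,nat_lit 3,nat_lit 6,nat_lit 2,nat_lit 6,nat_lit 7]

def j2_Z : List ℕ := [nat_lit 9]

def j2_Rels : List (ℕ × List ℕ × List ℕ) :=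
  [(nat_lit 4, [nat_lit 0,nat_lit 2,nat_lit 0,nat_lit 0,nat_lit 1,nat_lit 1,nat_lit 1,nat_lit 2], [])]

def j2_Z' : List ℕ := [nat_lit 1,nat_lit 7,nat_lit 5,nat_lit 0,nat_lit 3,nat_lit 4,nat_lit 3,nat_lit 1,nat_lit 3,nat_lit 1,nat_lit 2,nat_lit 0]

def j2_P : ℕ → ℕ := getP (nat_lit 9) (nat_lit 511) (nat_lit 0x4ea73379c4d267369acbe6131994ba5b2b9643a1b0c85c3e21118945227168ac6635178c4763d1b8e4823f2290c8e4925934aa5328938c064351c0d866311a0dc803f1f0f4723a1e0ecb65c2d164d46932998d66c3419cbe6031990bc5d31184dc6d379c084412210c9e502a14c9c4d28948924a22918984b2411cb0572b154ec753c1dce873389c982b95e2f974bf5daf580b85a2c56ab7582c96cb34c2693a9c4da592a944ba2d24914824d188f472355aac55ab932af53aa952a85129548a35027d3ca15320d0a8443a19128845208f8803d1f4fc813d9fcf2c76332590c56230986e271b95c8f078bd5e8ef773c9e6ea75b9dccec76ba5d0f87cbddeccd6632d94db6d359aedc6eb65b0d168351aacf67349a6df6f385c101803fdfcfb7d3f1fb078141a110382c26090a0804426120b05c2a140d86830190e0743e1e108804423138984825150ac5228168b05c2f068301e0e0502c12080301c0a04008000602)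

def j2_Q : ℕ → ℕ := getP (nat_lit 9) (nat_lit 511) (nat_lit 0x4ea73379c4d267369acbe6131994ba5b2b9643a1b0c85c3e21118945227168ac6635178c4763d1b8e4823f2290c8e4925934aa5328938c064351c0d866311a0dc803f1f0f4723a1e0ecb65c2d164d46932998d66c3419cbe6031990bc5d31184dc6d379c084412210c9e502a14c9c4d28948924a22918984b2411cb0572b154ec753c1dce873389c982b95e2f974bf5daf580b85a2c56ab7582c96cb34c2693a9c4da592a944ba2d24914824d188f472355aac55ab932af53aa952a85129548a35027d3ca15320d0a8443a19128845208f8803d1f4fc813d9fcf2c76332590c56230986e271b95c8f078bd5e8ef773c9e6ea75b9dccec76ba5d0f87cbddeccd6632d94db6d359aedc6eb65b0d168351aacf67349a6df6f385c101803fdfcfb7d3f1fb078141a110382c26090a0804426120b05c2a140d86830190e0743e1e108804423138984825150ac5228168b05c2f068301e0e0502c12080301c0a04008000602)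

noncomputable def j2_lc : Lv := ⟨j2_E (nat_lit 0), nat_lit 12, nat_lit 21, true, nat_lit 0, [], []⟩

noncomputable def j2_Lc : List Lv :=
  [⟨j2_E (nat_lit 1), nat_lit 72, nat_lit 169, false, nat_lit 0, [nat_lit 0,nat_lit 0,nat_lit 0], []⟩,
   ⟨j2_E (nat_lit 2), nat_lit 191, nat_lit 39, false, nat_lit 0, [nat_lit 0,nat_lit 0,nat_lit 0], []⟩,
   ⟨j2_E (nat_lit 3), nat_lit 122, nat_lit 203, false, nat_lit 2, [nat_lit 0,nat_lit 0], []⟩]

theorem j2_s1_0 : allRange (nat_lit 0) (nat_lit 315) (siftTop j2_T j2_S j2_inv (nat_lit 315) j2_h (acc1 j2_T j2_S [nat_lit 12,nat_lit 72,nat_lit 191,nat_lit 122] (nat_lit 7)) j2_la j2_La) = true := by decide +kernel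

theorem j2_s3_0 : allRange (nat_lit 0) (nat_lit 315) (siftTop j2_T (tri (iterF (j2_S 0) (nat_lit 1)) (j2_S 1) (traceP j2_T j2_Z')) j2_inv (nat_lit 315) j2_h (acc3 j2_T j2_S (tri (iterF (j2_S 0) (nat_lit 1)) (j2_S 1) (traceP j2_T j2_Z')) [nat_lit 12,nat_lit 72,nat_lit 191,nat_lit 122]) j2_lc j2_Lc) = true := by decide +kernel

theorem j2_p_0 : allRange (nat_lit 0) (nat_lit 315) ((fun i => force (j2_P i) fun p => band (blt p (nat_lit 315)) (allLt 3 fun x => band (blt (j2_S x i) (nat_lit 315)) (Nat.beq ((tri (iterF (j2_S 0) (nat_lit 1)) (j2_S 1) (traceP j2_T j2_Z')) x p) (j2_P (j2_S x i)))))) = true := by decide +kernel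

theorem j2_s2_0 : allRange (nat_lit 0) (nat_lit 315) (siftTop j2_T (fun _ => iterF (j2_S 1) (nat_lit 5)) j2_inv (nat_lit 315) [] (acc2 j2_T j2_S [nat_lit 12,nat_lit 72,nat_lit 191,nat_lit 122] [nat_lit 1] j2_Rels [(1, j2_Z), (nat_lit 1, j2_Z')]) j2_lb j2_Lb) = true := by decide +kernel

theorem j2_hub {G : Type*} [Group G] (y : ℕ → G) (hc : Nat.card G = 604800) :
    Nat.card (genLt y 3) ≠ 0 ∧ Nat.card (genLt y 3) ≤ 604800 :=
  card_genLt_le (K := ⊤) (fun _ _ => trivial) (Subgroup.card_top.trans hc)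

theorem j2_model {G α : Type*} [Group G] [MulAction G α] {e : ℕ → α} {y : ℕ → G} (he : Set.InjOn e (Set.Iio 315)) (h0 : Tabs e 315 j2_S y 3) (hc : Nat.card G = 604800) :
    OutModel e 315 j2_T j2_S (j2_g y) y 10 j2_inv [nat_lit 12,nat_lit 72,nat_lit 191,nat_lit 122] 604800 :=
  have h1 := genLt_eq_of_card (K := ⊤) (fun _ _ => trivial) (Subgroup.card_top.trans hc) (j2_card he h0 (j2_hub y hc))
  ⟨(j2_tabs h0).sifter he (j2_hinv he h0 (j2_hub y hc)) (j2_base0 he h0 (j2_hub y hc)) (by decide +kernel),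
    (j2_gen y).trans h1, h0, h1, hc⟩

theorem j2_sl0 {G α : Type*} [Group G] [MulAction G α] {e : ℕ → α} {y : ℕ → G} (he : Set.InjOn e (Set.Iio 315)) (h0 : Tabs e 315 j2_S y 3) (hc : Nat.card G = 604800) :
    SLev e 315 j2_T (j2_g y) (j2_E (nat_lit 0)) 10 5 12 :=
  (j2_tabs h0).sLev he (j2_level0 he h0 (j2_hub y hc)) j2_L0_o

theorem j2_sl1 {G α : Type*} [Group G] [MulAction G α] {e : ℕ → α} {y : ℕ → G} (he : Set.InjOn e (Set.Iio 315)) (h0 : Tabs e 315 j2_S y 3) (hc : Nat.card G = 604800) :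
    SLev e 315 j2_T (j2_g y) (j2_E (nat_lit 1)) 5 3 72 :=
  (j2_tabs h0).sLev he (j2_level1 he h0 (j2_hub y hc)) j2_L1_o

theorem j2_sl2 {G α : Type*} [Group G] [MulAction G α] {e : ℕ → α} {y : ℕ → G} (he : Set.InjOn e (Set.Iio 315)) (h0 : Tabs e 315 j2_S y 3) (hc : Nat.card G = 604800) :
    SLev e 315 j2_T (j2_g y) (j2_E (nat_lit 2)) 3 2 191 :=
  (j2_tabs h0).sLev he (j2_level2 he h0 (j2_hub y hc)) j2_L2_o

theorem j2_sl3 {G α : Type*} [Group G] [MulAction G α] {e : ℕ → α} {y : ℕ → G} (he : Set.InjOn e (Set.Iio 315)) (h0 : Tabs e 315 j2_S y 3) (hc : Nat.card G = 604800) :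
    SLev e 315 j2_T (j2_g y) (j2_E (nat_lit 3)) 2 0 122 :=
  (j2_tabs h0).sLev he (j2_level3 he h0 (j2_hub y hc)) j2_L3_o

theorem j2_cha {G α : Type*} [Group G] [MulAction G α] {e : ℕ → α} {y : ℕ → G} (he : Set.InjOn e (Set.Iio 315)) (h0 : Tabs e 315 j2_S y 3) (hc : Nat.card G = 604800) :
    ChainOK e 315 j2_T (j2_g y) (j2_la :: j2_La) 10 :=
  ⟨_, j2_sl0 he h0 hc, _, j2_sl1 he h0 hc, _, j2_sl2 he h0 hc, _, j2_sl3 he h0 hc, rfl⟩

theorem j2_chb {G α : Type*} [Group G] [MulAction G α] {e : ℕ → α} {y : ℕ → G} (he : Set.InjOn e (Set.Iio 315)) (h0 : Tabs e 315 j2_S y 3) (hc : Nat.card G = 604800) :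
    ChainOK e 315 j2_T (j2_g y) (j2_lb :: j2_Lb) 10 :=
  ⟨_, j2_sl0 he h0 hc, _, j2_sl1 he h0 hc, _, j2_sl2 he h0 hc, _, j2_sl3 he h0 hc, rfl⟩

theorem j2_s1 : ∀ q < 315, siftTop j2_T j2_S j2_inv (nat_lit 315) j2_h (acc1 j2_T j2_S [nat_lit 12,nat_lit 72,nat_lit 191,nat_lit 122] (nat_lit 7)) j2_la j2_La q = true :=
  allRange_zero j2_s1_0

theorem j2_chc {G α : Type*} [Group G] [MulAction G α] {e : ℕ → α} {y : ℕ → G} (he : Set.InjOn e (Set.Iio 315)) (h0 : Tabs e 315 j2_S y 3) (hc : Nat.card G = 604800) :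
    ChainOK e 315 j2_T (j2_g y) (j2_lc :: j2_Lc) 10 :=
  ⟨_, j2_sl0 he h0 hc, _, j2_sl1 he h0 hc, _, j2_sl2 he h0 hc, _, j2_sl3 he h0 hc, rfl⟩

theorem j2_s3 : ∀ q < 315, siftTop j2_T (tri (iterF (j2_S 0) (nat_lit 1)) (j2_S 1) (traceP j2_T j2_Z')) j2_inv (nat_lit 315) j2_h (acc3 j2_T j2_S (tri (iterF (j2_S 0) (nat_lit 1)) (j2_S 1) (traceP j2_T j2_Z')) [nat_lit 12,nat_lit 72,nat_lit 191,nat_lit 122]) j2_lc j2_Lc q = true :=
  allRange_zero j2_s3_0

theorem j2_p : ∀ q < 315, (fun i => force (j2_P i) fun p => band (blt p (nat_lit 315)) (allLt 3 fun x => band (blt (j2_S x i) (nat_lit 315)) (Nat.beq ((tri (iterF (j2_S 0) (nat_lit 1)) (j2_S 1) (traceP j2_T j2_Z')) x p) (j2_P (j2_S x i))))) q = true :=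
  allRange_zero j2_p_0

theorem j2_s2 : ∀ q < 315, siftTop j2_T (fun _ => iterF (j2_S 1) (nat_lit 5)) j2_inv (nat_lit 315) [] (acc2 j2_T j2_S [nat_lit 12,nat_lit 72,nat_lit 191,nat_lit 122] [nat_lit 1] j2_Rels [(1, j2_Z), (nat_lit 1, j2_Z')]) j2_lb j2_Lb q = true :=
  allRange_zero j2_s2_0

theorem j2_out {G α : Type*} [Group G] [MulAction G α] {e : ℕ → α} {y : ℕ → G} (he : Set.InjOn e (Set.Iio 315)) (h0 : Tabs e 315 j2_S y 3) (hc : Nat.card G = 604800) : Nat.card (Out G) = 2 :=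
  have hZ : lettersLt 10 j2_Z' = true := by decide +kernel
  (j2_model he h0 hc).card_out_two (by decide +kernel) hZ
    ((j2_model he h0 hc).aut_cases (p := nat_lit 7) (κ := 3) (a := nat_lit 1) (by norm_num) (by decide +kernel)
      ((j2_model he h0 hc).centralizer (j2_cha he h0 hc) (by decide +kernel) j2_s1)
      (j2_chb he h0 hc) (by decide +kernel) j2_s2)
    ((j2_model he h0 hc).exists_aut (by decide)
      (tabs_tri ((h0 0 (by decide)).iterF _) (h0 1 (by decide)) ((j2_tabs h0).evalW hZ)) (Q := j2_Q)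
      (allRange_of_forall fun i _ hi => j2_p i (by omega)) (by decide +kernel) (by decide +kernel))
    (j2_chc he h0 hc) (by decide +kernel) j2_s3

end Cfsg.Agent.Spor.OutC
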