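import Mathlib
import Cfsg.Agent.Spor.Out.RuCh
import Cfsg.Agent.Spor.Out.Gen
import Cfsg.Agent.Spor.Blocks

/-! Generated by tools/h59/outgen.py: outer automorphisms, ru -/

set_option autoImplicit false
set_option maxRecDepth 100000
set_option linter.unusedVariables false
set_option exponentiation.threshold 100000

namespace Cfsg.Agent.Spor.OutC

open Cfsg.Agent.Spor

noncomputable def ru_la : Lv := ⟨ru_E (nat_lit 0), nat_lit 15, nat_lit 4, true, nat_lit 0, [], []⟩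

noncomputable def ru_La : List Lv :=
  [⟨ru_E (nat_lit 1), nat_lit 2010, nat_lit 3095, false, nat_lit 0, [nat_lit 0], []⟩,
   ⟨ru_E (nat_lit 2), nat_lit 1428, nat_lit 1384, false, nat_lit 0, [nat_lit 0,nat_lit 0,nat_lit 0,nat_lit 0,nat_lit 0], []⟩,
   ⟨ru_E (nat_lit 3), nat_lit 2853, nat_lit 2540, false, nat_lit 0, [nat_lit 0,nat_lit 0,nat_lit 0,nat_lit 0,nat_lit 0,nat_lit 0,nat_lit 0,nat_lit 0], []⟩]

noncomputable def ru_lb : Lv := ⟨ru_E (nat_lit 0), nat_lit 15, nat_lit 15, true, nat_lit 0, [], []⟩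

noncomputable def ru_Lb : List Lv :=
  [⟨ru_E (nat_lit 1), nat_lit 2010, nat_lit 2010, false, nat_lit 0, [nat_lit 0], []⟩,
   ⟨ru_E (nat_lit 2), nat_lit 1428, nat_lit 1428, false, nat_lit 0, [nat_lit 0], []⟩,
   ⟨ru_E (nat_lit 3), nat_lit 2853, nat_lit 2853, false, nat_lit 0, [nat_lit 0], []⟩]

def ru_h : List ℕ := [nat_lit 3,nat_lit 5,nat_lit 1,nat_lit 5,nat_lit 0,nat_lit 6,nat_lit 1,nat_lit 6,nat_lit 3,nat_lit 4,nat_lit 2,nat_lit 8,nat_lit 1,nat_lit 1,nat_lit 10,nat_lit 7]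

def ru_Z : List ℕ := [nat_lit 11]

def ru_Rels : List (ℕ × List ℕ × List ℕ) :=
  [(nat_lit 8, [nat_lit 0,nat_lit 2], []),
   (nat_lit 8, [nat_lit 0,nat_lit 0,nat_lit 0,nat_lit 0,nat_lit 0,nat_lit 0,nat_lit 0,nat_lit 0,nat_lit 0,nat_lit 1,nat_lit 1,nat_lit 2], [])]

theorem ru_s1_0 : allRange (nat_lit 0) (nat_lit 4060) (siftTop ru_T ru_S ru_inv (nat_lit 4060) ru_h (acc1 ru_T ru_S [nat_lit 15,nat_lit 2010,nat_lit 1428,nat_lit 2853] (nat_lit 29)) ru_la ru_La) = true := by decide +kernel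

theorem ru_s2_0 : allRange (nat_lit 0) (nat_lit 4060) (siftTop ru_T (fun _ => iterF (ru_S 1) (nat_lit 13)) ru_inv (nat_lit 4060) [] (acc2 ru_T ru_S [nat_lit 15,nat_lit 2010,nat_lit 1428,nat_lit 2853] [nat_lit 1,nat_lit 2] ru_Rels [(1, ru_Z)]) ru_lb ru_Lb) = true := by decide +kernel

theorem ru_hub {G : Type*} [Group G] (y : ℕ → G) (hc : Nat.card G = 145926144000) :
    Nat.card (genLt y 3) ≠ 0 ∧ Nat.card (genLt y 3) ≤ 145926144000 :=
  card_genLt_le (K := ⊤) (fun _ _ => trivial) (Subgroup.card_top.trans hc)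

theorem ru_model {G α : Type*} [Group G] [MulAction G α] {e : ℕ → α} {y : ℕ → G} (he : Set.InjOn e (Set.Iio 4060)) (h0 : Tabs e 4060 ru_S y 3) (hc : Nat.card G = 145926144000) :
    OutModel e 4060 ru_T ru_S (ru_g y) y 12 ru_inv [nat_lit 15,nat_lit 2010,nat_lit 1428,nat_lit 2853] 145926144000 :=
  have h1 := genLt_eq_of_card (K := ⊤) (fun _ _ => trivial) (Subgroup.card_top.trans hc) (ru_card he h0 (ru_hub y hc))
  ⟨(ru_tabs h0).sifter he (ru_hinv he h0 (ru_hub y hc)) (ru_base0 he h0 (ru_hub y hc)) (by decide +kernel),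
    (ru_gen y).trans h1, h0, h1, hc⟩

theorem ru_sl0 {G α : Type*} [Group G] [MulAction G α] {e : ℕ → α} {y : ℕ → G} (he : Set.InjOn e (Set.Iio 4060)) (h0 : Tabs e 4060 ru_S y 3) (hc : Nat.card G = 145926144000) :
    SLev e 4060 ru_T (ru_g y) (ru_E (nat_lit 0)) 12 7 15 :=
  (ru_tabs h0).sLev he (ru_level0 he h0 (ru_hub y hc)) ru_L0_o

theorem ru_sl1 {G α : Type*} [Group G] [MulAction G α] {e : ℕ → α} {y : ℕ → G} (he : Set.InjOn e (Set.Iio 4060)) (h0 : Tabs e 4060 ru_S y 3) (hc : Nat.card G = 145926144000) :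
    SLev e 4060 ru_T (ru_g y) (ru_E (nat_lit 1)) 7 6 2010 :=
  (ru_tabs h0).sLev he (ru_level1 he h0 (ru_hub y hc)) ru_L1_o

theorem ru_sl2 {G α : Type*} [Group G] [MulAction G α] {e : ℕ → α} {y : ℕ → G} (he : Set.InjOn e (Set.Iio 4060)) (h0 : Tabs e 4060 ru_S y 3) (hc : Nat.card G = 145926144000) :
    SLev e 4060 ru_T (ru_g y) (ru_E (nat_lit 2)) 6 4 1428 :=
  (ru_tabs h0).sLev he (ru_level2 he h0 (ru_hub y hc)) ru_L2_o

theorem ru_sl3 {G α : Type*} [Group G] [MulAction G α] {e : ℕ → α} {y : ℕ → G} (he : Set.InjOn e (Set.Iio 4060)) (h0 : Tabs e 4060 ru_S y 3) (hc : Nat.card G = 145926144000) :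
    SLev e 4060 ru_T (ru_g y) (ru_E (nat_lit 3)) 4 0 2853 :=
  (ru_tabs h0).sLev he (ru_level3 he h0 (ru_hub y hc)) ru_L3_o

theorem ru_cha {G α : Type*} [Group G] [MulAction G α] {e : ℕ → α} {y : ℕ → G} (he : Set.InjOn e (Set.Iio 4060)) (h0 : Tabs e 4060 ru_S y 3) (hc : Nat.card G = 145926144000) :
    ChainOK e 4060 ru_T (ru_g y) (ru_la :: ru_La) 12 :=
  ⟨_, ru_sl0 he h0 hc, _, ru_sl1 he h0 hc, _, ru_sl2 he h0 hc, _, ru_sl3 he h0 hc, rfl⟩

theorem ru_chb {G α : Type*} [Group G] [MulAction G α] {e : ℕ → α} {y : ℕ → G} (he : Set.InjOn e (Set.Iio 4060)) (h0 : Tabs e 4060 ru_S y 3) (hc : Nat.card G = 145926144000) :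
    ChainOK e 4060 ru_T (ru_g y) (ru_lb :: ru_Lb) 12 :=
  ⟨_, ru_sl0 he h0 hc, _, ru_sl1 he h0 hc, _, ru_sl2 he h0 hc, _, ru_sl3 he h0 hc, rfl⟩

theorem ru_s1 : ∀ q < 4060, siftTop ru_T ru_S ru_inv (nat_lit 4060) ru_h (acc1 ru_T ru_S [nat_lit 15,nat_lit 2010,nat_lit 1428,nat_lit 2853] (nat_lit 29)) ru_la ru_La q = true :=
  allRange_zero ru_s1_0

theorem ru_s2 : ∀ q < 4060, siftTop ru_T (fun _ => iterF (ru_S 1) (nat_lit 13)) ru_inv (nat_lit 4060) [] (acc2 ru_T ru_S [nat_lit 15,nat_lit 2010,nat_lit 1428,nat_lit 2853] [nat_lit 1,nat_lit 2] ru_Rels [(1, ru_Z)]) ru_lb ru_Lb q = true :=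
  allRange_zero ru_s2_0

theorem ru_out {G α : Type*} [Group G] [MulAction G α] {e : ℕ → α} {y : ℕ → G} (he : Set.InjOn e (Set.Iio 4060)) (h0 : Tabs e 4060 ru_S y 3) (hc : Nat.card G = 145926144000) : Nat.card (Out G) = 1 :=
  (ru_model he h0 hc).card_out_one (by decide +kernel)
    ((ru_model he h0 hc).aut_cases (p := nat_lit 29) (κ := 4) (a := nat_lit 1) (by norm_num) (by decide +kernel)
      ((ru_model he h0 hc).centralizer (ru_cha he h0 hc) (by decide +kernel) ru_s1)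
      (ru_chb he h0 hc) (by decide +kernel) ru_s2)

end Cfsg.Agent.Spor.OutC
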