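import Mathlib
import Cfsg.Agent.Spor.ON.Tab
import Cfsg.Agent.Spor.ON.Ch
import Cfsg.Agent.Spor.Out.Gen2

/-! Generated by tools/h59/out_on.py: the outer automorphism group of O'N -/

set_option autoImplicit false
set_option maxRecDepth 100000
set_option exponentiation.threshold 100000

namespace Cfsg.Agent.Spor.OutC

open MON

/-- The big alphabet: strong generators of the point stabiliser, transporters, `z`, `z⁻¹`. -/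
noncomputable def on_D : LT :=
  (.node (.node (.node (.node (.node (.leaf [nat_lit 5,nat_lit 1,nat_lit 5])
  (.leaf [nat_lit 3,nat_lit 6,nat_lit 3,nat_lit 7]))
  (.leaf [nat_lit 7,nat_lit 3,nat_lit 6]))
  (.node (.leaf [nat_lit 0])
  (.leaf [nat_lit 6,nat_lit 4,nat_lit 3,nat_lit 6])))
  (.node (.node (.leaf [nat_lit 1])
  (.leaf [nat_lit 4,nat_lit 6,nat_lit 4,nat_lit 7]))
  (.node (.leaf [nat_lit 5])
  (.leaf [nat_lit 1,nat_lit 2,nat_lit 3,nat_lit 5,nat_lit 4,nat_lit 2,nat_lit 7,nat_lit 3,nat_lit 5,nat_lit 4,nat_lit 6,nat_lit 3,nat_lit 2,nat_lit 3,nat_lit 2,nat_lit 5,nat_lit 3,nat_lit 2,nat_lit 3,nat_lit 5,nat_lit 4,nat_lit 2,nat_lit 3,nat_lit 1,nat_lit 5,nat_lit 2,nat_lit 4,nat_lit 3,nat_lit 2,nat_lit 0,nat_lit 4,nat_lit 6,nat_lit 6,nat_lit 5,nat_lit 3,nat_lit 2,nat_lit 3,nat_lit 2]))))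
  (.node (.node (.node (.node (.leaf [nat_lit 3])
  (.leaf [nat_lit 7,nat_lit 3,nat_lit 6,nat_lit 3]))
  (.leaf [nat_lit 6,nat_lit 4,nat_lit 6]))
  (.node (.leaf [nat_lit 4])
  (.leaf [nat_lit 7,nat_lit 0,nat_lit 2,nat_lit 3,nat_lit 5,nat_lit 2,nat_lit 7,nat_lit 3,nat_lit 5,nat_lit 6,nat_lit 4,nat_lit 6,nat_lit 5,nat_lit 3,nat_lit 6,nat_lit 5,nat_lit 2,nat_lit 4,nat_lit 3,nat_lit 7,nat_lit 2,nat_lit 3,nat_lit 5,nat_lit 6,nat_lit 1,nat_lit 4,nat_lit 2,nat_lit 3,nat_lit 5,nat_lit 0,nat_lit 4,nat_lit 2,nat_lit 6,nat_lit 3,nat_lit 5,nat_lit 3,nat_lit 2,nat_lit 3,nat_lit 2])))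
  (.node (.node (.leaf [nat_lit 2])
  (.leaf [nat_lit 4,nat_lit 6,nat_lit 4,nat_lit 3,nat_lit 7]))
  (.node (.leaf [])
  (.leaf [nat_lit 6,nat_lit 5,nat_lit 3,nat_lit 6,nat_lit 5,nat_lit 2,nat_lit 5,nat_lit 3,nat_lit 2,nat_lit 4,nat_lit 7,nat_lit 5,nat_lit 3,nat_lit 2,nat_lit 5,nat_lit 7,nat_lit 4,nat_lit 5,nat_lit 3,nat_lit 2,nat_lit 4,nat_lit 7,nat_lit 3,nat_lit 2,nat_lit 5,nat_lit 6,nat_lit 4,nat_lit 0,nat_lit 5,nat_lit 3,nat_lit 2,nat_lit 1,nat_lit 5,nat_lit 3,nat_lit 2,nat_lit 5,nat_lit 3,nat_lit 1,nat_lit 7])))))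

/-- `x`, `w`, `z` and their inverses. -/
noncomputable def on_Y : LT :=
  (.node (.node (.node (.leaf [nat_lit 5,nat_lit 2,nat_lit 3,nat_lit 4,nat_lit 6,nat_lit 2,nat_lit 3,nat_lit 5,nat_lit 2,nat_lit 4,nat_lit 2,nat_lit 3,nat_lit 6,nat_lit 5,nat_lit 2,nat_lit 4,nat_lit 2,nat_lit 3,nat_lit 7,nat_lit 5,nat_lit 2,nat_lit 4,nat_lit 6,nat_lit 0,nat_lit 5,nat_lit 3,nat_lit 1])
  (.leaf [nat_lit 4,nat_lit 1,nat_lit 0]))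
  (.leaf [nat_lit 3,nat_lit 6,nat_lit 3,nat_lit 7]))
  (.node (.node (.leaf [nat_lit 0,nat_lit 1,nat_lit 4])
  (.leaf [nat_lit 6,nat_lit 3,nat_lit 7,nat_lit 3]))
  (.leaf [nat_lit 1,nat_lit 3,nat_lit 5,nat_lit 0,nat_lit 7,nat_lit 4,nat_lit 2,nat_lit 5,nat_lit 6,nat_lit 3,nat_lit 2,nat_lit 4,nat_lit 2,nat_lit 5,nat_lit 7,nat_lit 3,nat_lit 2,nat_lit 4,nat_lit 2,nat_lit 5,nat_lit 3,nat_lit 2,nat_lit 7,nat_lit 4,nat_lit 3,nat_lit 2,nat_lit 5])))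

/-- The letters as words in `x`, `w`, `z`. -/
noncomputable def on_V : LT :=
  (.node (.node (.node (.leaf [nat_lit 4,nat_lit 3,nat_lit 5,nat_lit 3,nat_lit 4,nat_lit 3,nat_lit 5,nat_lit 0,nat_lit 2,nat_lit 3,nat_lit 5,nat_lit 3,nat_lit 3,nat_lit 5,nat_lit 0,nat_lit 5,nat_lit 3,nat_lit 5,nat_lit 3,nat_lit 1,nat_lit 3,nat_lit 2,nat_lit 3])
  (.leaf [nat_lit 3,nat_lit 5,nat_lit 3,nat_lit 4,nat_lit 3,nat_lit 5,nat_lit 0,nat_lit 2,nat_lit 3,nat_lit 5,nat_lit 3,nat_lit 3,nat_lit 5,nat_lit 0,nat_lit 5,nat_lit 3,nat_lit 5,nat_lit 3,nat_lit 1,nat_lit 3,nat_lit 2,nat_lit 3,nat_lit 4]))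
  (.node (.leaf [nat_lit 3,nat_lit 4,nat_lit 0,nat_lit 2,nat_lit 3,nat_lit 3,nat_lit 5,nat_lit 3,nat_lit 3,nat_lit 3,nat_lit 5,nat_lit 0,nat_lit 5,nat_lit 3,nat_lit 5,nat_lit 3,nat_lit 3,nat_lit 5,nat_lit 3,nat_lit 3,nat_lit 5,nat_lit 3,nat_lit 4,nat_lit 3,nat_lit 5,nat_lit 0,nat_lit 0,nat_lit 4,nat_lit 3,nat_lit 5,nat_lit 3,nat_lit 4,nat_lit 5,nat_lit 3,nat_lit 4,nat_lit 5,nat_lit 0,nat_lit 5,nat_lit 3,nat_lit 3,nat_lit 4,nat_lit 5,nat_lit 0,nat_lit 0,nat_lit 4,nat_lit 5,nat_lit 3,nat_lit 4,nat_lit 2,nat_lit 1])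
  (.leaf [nat_lit 0,nat_lit 5,nat_lit 0,nat_lit 1,nat_lit 0,nat_lit 2,nat_lit 3,nat_lit 3,nat_lit 2,nat_lit 0,nat_lit 0,nat_lit 2,nat_lit 3,nat_lit 5,nat_lit 3,nat_lit 1,nat_lit 3,nat_lit 2,nat_lit 1,nat_lit 0,nat_lit 0,nat_lit 2,nat_lit 0,nat_lit 2,nat_lit 0,nat_lit 0,nat_lit 2,nat_lit 0,nat_lit 2,nat_lit 0,nat_lit 0,nat_lit 5,nat_lit 3,nat_lit 5,nat_lit 3,nat_lit 2,nat_lit 3,nat_lit 1,nat_lit 3,nat_lit 5,nat_lit 3,nat_lit 3,nat_lit 5,nat_lit 0,nat_lit 4,nat_lit 0,nat_lit 5,nat_lit 0,nat_lit 5,nat_lit 3,nat_lit 5,nat_lit 0,nat_lit 2,nat_lit 3,nat_lit 2])))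
  (.node (.node (.leaf [nat_lit 2,nat_lit 2])
  (.leaf [nat_lit 1,nat_lit 3,nat_lit 5,nat_lit 3,nat_lit 2,nat_lit 4,nat_lit 0,nat_lit 2,nat_lit 4,nat_lit 0,nat_lit 2,nat_lit 0,nat_lit 2,nat_lit 2,nat_lit 3,nat_lit 2,nat_lit 0,nat_lit 0,nat_lit 0,nat_lit 2,nat_lit 1,nat_lit 0,nat_lit 2,nat_lit 1,nat_lit 3,nat_lit 2,nat_lit 0,nat_lit 4,nat_lit 0,nat_lit 2,nat_lit 3,nat_lit 2,nat_lit 0,nat_lit 2,nat_lit 0,nat_lit 2,nat_lit 0,nat_lit 1,nat_lit 0,nat_lit 2,nat_lit 4]))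
  (.node (.leaf [nat_lit 3,nat_lit 3,nat_lit 3,nat_lit 5,nat_lit 0,nat_lit 0,nat_lit 1,nat_lit 5,nat_lit 0,nat_lit 4,nat_lit 5,nat_lit 3,nat_lit 1,nat_lit 3,nat_lit 5,nat_lit 0,nat_lit 5,nat_lit 0,nat_lit 0,nat_lit 0,nat_lit 5,nat_lit 0,nat_lit 2,nat_lit 0,nat_lit 0,nat_lit 0,nat_lit 5,nat_lit 3,nat_lit 2,nat_lit 4,nat_lit 0,nat_lit 2,nat_lit 4,nat_lit 0,nat_lit 2,nat_lit 0,nat_lit 2,nat_lit 2,nat_lit 3,nat_lit 2,nat_lit 0,nat_lit 0,nat_lit 0,nat_lit 2,nat_lit 1,nat_lit 0,nat_lit 2,nat_lit 1,nat_lit 3,nat_lit 2,nat_lit 0,nat_lit 4,nat_lit 0,nat_lit 2,nat_lit 3,nat_lit 2,nat_lit 0,nat_lit 2,nat_lit 0,nat_lit 2,nat_lit 0,nat_lit 1,nat_lit 0])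
  (.leaf [nat_lit 4,nat_lit 3,nat_lit 3,nat_lit 2,nat_lit 0,nat_lit 2,nat_lit 0,nat_lit 4,nat_lit 0,nat_lit 2,nat_lit 3,nat_lit 3,nat_lit 2,nat_lit 1,nat_lit 0,nat_lit 2,nat_lit 4,nat_lit 0,nat_lit 2,nat_lit 3,nat_lit 2,nat_lit 3,nat_lit 2,nat_lit 0,nat_lit 0,nat_lit 2,nat_lit 0,nat_lit 1,nat_lit 0,nat_lit 2,nat_lit 4,nat_lit 3,nat_lit 3,nat_lit 2,nat_lit 3,nat_lit 2,nat_lit 0,nat_lit 2,nat_lit 3,nat_lit 3,nat_lit 2,nat_lit 3,nat_lit 3,nat_lit 3,nat_lit 5,nat_lit 3,nat_lit 5,nat_lit 3,nat_lit 3,nat_lit 5,nat_lit 3,nat_lit 5,nat_lit 3,nat_lit 3,nat_lit 5,nat_lit 3,nat_lit 3,nat_lit 3,nat_lit 3,nat_lit 2,nat_lit 0,nat_lit 0,nat_lit 1,nat_lit 0,nat_lit 4]))))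

/-- Conjugates of `w` in the point stabiliser. -/
noncomputable def on_W : LT :=
  (.node (.node (.node (.node (.leaf [nat_lit 0,nat_lit 1,nat_lit 4])
  (.leaf [nat_lit 0,nat_lit 1,nat_lit 2,nat_lit 5]))
  (.leaf [nat_lit 0,nat_lit 1,nat_lit 4]))
  (.node (.leaf [nat_lit 0,nat_lit 1,nat_lit 4])
  (.leaf [nat_lit 0,nat_lit 1,nat_lit 2,nat_lit 5])))
  (.node (.node (.leaf [nat_lit 0,nat_lit 1,nat_lit 4])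
  (.leaf [nat_lit 0,nat_lit 1,nat_lit 4]))
  (.node (.leaf [nat_lit 0,nat_lit 1,nat_lit 4])
  (.leaf [nat_lit 0,nat_lit 1,nat_lit 2,nat_lit 5]))))

/-- The images of the letters under an outer automorphism. -/
noncomputable def on_Tau : LT :=
  (.node (.node (.node (.leaf [nat_lit 6,nat_lit 4,nat_lit 6,nat_lit 4,nat_lit 1])
  (.leaf [nat_lit 0,nat_lit 4,nat_lit 6,nat_lit 4,nat_lit 7]))
  (.node (.leaf [nat_lit 0,nat_lit 4,nat_lit 3,nat_lit 7,nat_lit 2,nat_lit 4,nat_lit 6,nat_lit 0,nat_lit 2,nat_lit 4,nat_lit 3])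
  (.leaf [nat_lit 0,nat_lit 4,nat_lit 2,nat_lit 7,nat_lit 2])))
  (.node (.node (.leaf [nat_lit 1])
  (.leaf [nat_lit 7,nat_lit 3,nat_lit 5,nat_lit 3,nat_lit 6]))
  (.node (.leaf [nat_lit 6,nat_lit 3,nat_lit 7])
  (.leaf [nat_lit 2,nat_lit 6,nat_lit 2,nat_lit 4,nat_lit 0]))))

noncomputable def on_la : Lv := ⟨ch_E (nat_lit 0), nat_lit 0, nat_lit 0, true, nat_lit 0, [], []⟩

noncomputable def on_La : List Lv :=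
  [⟨ch_E (nat_lit 1), nat_lit 1, nat_lit 4, false, nat_lit 0, [nat_lit 0], []⟩,
   ⟨ch_E (nat_lit 2), nat_lit 9, nat_lit 2, true, nat_lit 0, [], []⟩,
   ⟨ch_E (nat_lit 3), nat_lit 3, nat_lit 10, false, nat_lit 0, [nat_lit 0,nat_lit 0], []⟩,
   ⟨ch_E (nat_lit 4), nat_lit 5, nat_lit 17, true, nat_lit 0, [], []⟩]

def on_ha : List ℕ := [nat_lit 2,nat_lit 0,nat_lit 3,nat_lit 1,nat_lit 3,nat_lit 1,nat_lit 3,nat_lit 1]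

noncomputable def on_lb : Lv := ⟨ch_E (nat_lit 0), nat_lit 0, nat_lit 5579, true, nat_lit 0, [], [nat_lit 0]⟩

noncomputable def on_Lb : List Lv :=
  [⟨ch_E (nat_lit 1), nat_lit 1, nat_lit 5584, true, nat_lit 0, [], [nat_lit 0,nat_lit 0]⟩,
   ⟨ch_E (nat_lit 2), nat_lit 9, nat_lit 5583, false, nat_lit 0, [nat_lit 0], []⟩,
   ⟨ch_E (nat_lit 3), nat_lit 3, nat_lit 5535, true, nat_lit 0, [], []⟩,
   ⟨ch_E (nat_lit 4), nat_lit 5, nat_lit 5519, false, nat_lit 0, [nat_lit 0,nat_lit 0], []⟩]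

def on_hb : List ℕ := [nat_lit 3,nat_lit 1,nat_lit 3,nat_lit 5,nat_lit 1,nat_lit 3,nat_lit 0,nat_lit 1,nat_lit 3,nat_lit 1,nat_lit 6,nat_lit 5,nat_lit 3,nat_lit 1,nat_lit 3,nat_lit 5,nat_lit 4,nat_lit 0,nat_lit 1,nat_lit 3,nat_lit 5,nat_lit 0,nat_lit 1,nat_lit 3,nat_lit 0,nat_lit 1,nat_lit 0,nat_lit 3,nat_lit 5,nat_lit 1,nat_lit 3,nat_lit 1,nat_lit 6,nat_lit 1,nat_lit 0,nat_lit 3,nat_lit 1,nat_lit 5,nat_lit 3]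

def on_x : List ℕ := [nat_lit 0,nat_lit 1,nat_lit 2,nat_lit 3,nat_lit 4,nat_lit 5]

def on_u : List ℕ := [nat_lit 2,nat_lit 4,nat_lit 3,nat_lit 2,nat_lit 3,nat_lit 1,nat_lit 5,nat_lit 4,nat_lit 2,nat_lit 3,nat_lit 2,nat_lit 4,nat_lit 3,nat_lit 2,nat_lit 3,nat_lit 5,nat_lit 3,nat_lit 2,nat_lit 4,nat_lit 2,nat_lit 3,nat_lit 2,nat_lit 0,nat_lit 5,nat_lit 1]

def on_Bs : List ℕ := [0, 9, 28, 252, 48, 116]

def on_Rels : List (ℕ × List ℕ × List ℕ) :=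
  [(nat_lit 2, [nat_lit 2], [nat_lit 1,nat_lit 1,nat_lit 1]), (nat_lit 11, [nat_lit 0,nat_lit 2], [])]

noncomputable def on_T (j : ℕ) : ℕ → ℕ := traceP S (on_D.get j)

noncomputable def on_S (j : ℕ) : ℕ → ℕ := traceP S (on_Y.get j)

noncomputable def on_acc : List ℕ → Bool := acc2 on_T on_S on_Bs [1, 2, 4] on_Rels [(1, [16]), (1, [17])]

end Cfsg.Agent.Spor.OutC
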