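import Mathlib
import Cfsg.Agent.Spor.Out.Co2Ch
import Cfsg.Agent.Spor.Out.Gen
import Cfsg.Agent.Spor.Blocks

/-! Generated by tools/h59/outgen.py: outer automorphisms, co2 -/

set_option autoImplicit false
set_option maxRecDepth 100000
set_option linter.unusedVariables false
set_option exponentiation.threshold 100000

namespace Cfsg.Agent.Spor.OutC

open Cfsg.Agent.Spor

noncomputable def co2_la : Lv := ⟨co2_E (nat_lit 0), nat_lit 2423, nat_lit 531, true, nat_lit 0, [], []⟩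

noncomputable def co2_La : List Lv :=
  [⟨co2_E (nat_lit 1), nat_lit 2967, nat_lit 2298, false, nat_lit 0, [nat_lit 0,nat_lit 0,nat_lit 0,nat_lit 0,nat_lit 0,nat_lit 0,nat_lit 0,nat_lit 0,nat_lit 0,nat_lit 0,nat_lit 0], []⟩,
   ⟨co2_E (nat_lit 2), nat_lit 3459, nat_lit 1875, false, nat_lit 0, [nat_lit 0,nat_lit 0,nat_lit 0,nat_lit 0,nat_lit 0,nat_lit 0,nat_lit 0,nat_lit 0,nat_lit 0], []⟩,
   ⟨co2_E (nat_lit 3), nat_lit 2626, nat_lit 1757, false, nat_lit 2, [nat_lit 0,nat_lit 0,nat_lit 0,nat_lit 0,nat_lit 0,nat_lit 0,nat_lit 0,nat_lit 0], []⟩,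
   ⟨co2_E (nat_lit 4), nat_lit 3599, nat_lit 910, false, nat_lit 2, [nat_lit 0,nat_lit 0,nat_lit 0,nat_lit 0], []⟩,
   ⟨co2_E (nat_lit 5), nat_lit 2473, nat_lit 954, false, nat_lit 4, [nat_lit 0,nat_lit 0,nat_lit 0,nat_lit 0], []⟩]

noncomputable def co2_lb : Lv := ⟨co2_E (nat_lit 0), nat_lit 2423, nat_lit 2423, true, nat_lit 0, [], []⟩

noncomputable def co2_Lb : List Lv :=
  [⟨co2_E (nat_lit 1), nat_lit 2967, nat_lit 2967, false, nat_lit 0, [nat_lit 0], []⟩,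
   ⟨co2_E (nat_lit 2), nat_lit 3459, nat_lit 3459, false, nat_lit 0, [nat_lit 0], []⟩,
   ⟨co2_E (nat_lit 3), nat_lit 2626, nat_lit 2626, false, nat_lit 0, [nat_lit 0], []⟩,
   ⟨co2_E (nat_lit 4), nat_lit 3599, nat_lit 3599, false, nat_lit 0, [nat_lit 0,nat_lit 0,nat_lit 0,nat_lit 0], []⟩,
   ⟨co2_E (nat_lit 5), nat_lit 2473, nat_lit 2473, false, nat_lit 0, [nat_lit 0], []⟩]

def co2_h : List ℕ := [nat_lit 0,nat_lit 2,nat_lit 0,nat_lit 1,nat_lit 1,nat_lit 4,nat_lit 2,nat_lit 2,nat_lit 4,nat_lit 1,nat_lit 4,nat_lit 5,nat_lit 5,nat_lit 3,nat_lit 6,nat_lit 7,nat_lit 5,nat_lit 9,nat_lit 0,nat_lit 8,nat_lit 2,nat_lit 0]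

def co2_Z : List ℕ := [nat_lit 12]

def co2_Rels : List (ℕ × List ℕ × List ℕ) :=
  [(nat_lit 11, [nat_lit 0,nat_lit 1,nat_lit 1,nat_lit 1,nat_lit 1,nat_lit 2], []),
   (nat_lit 9, [nat_lit 0,nat_lit 1,nat_lit 2,nat_lit 0,nat_lit 0,nat_lit 0,nat_lit 0,nat_lit 0,nat_lit 1,nat_lit 1,nat_lit 1,nat_lit 1,nat_lit 1,nat_lit 1,nat_lit 2], [])]

theorem co2_s1_0 : allRange (nat_lit 0) (nat_lit 4600) (siftTop co2_T co2_S co2_inv (nat_lit 4600) co2_h (acc1 co2_T co2_S [nat_lit 2423,nat_lit 2967,nat_lit 3459,nat_lit 2626,nat_lit 3599,nat_lit 2473] (nat_lit 23)) co2_la co2_La) = true := by decide +kernel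

theorem co2_s2_0 : allRange (nat_lit 0) (nat_lit 4600) (siftTop co2_T (fun _ => iterF (co2_S 1) (nat_lit 10)) co2_inv (nat_lit 4600) [] (acc2 co2_T co2_S [nat_lit 2423,nat_lit 2967,nat_lit 3459,nat_lit 2626,nat_lit 3599,nat_lit 2473] [nat_lit 1,nat_lit 5] co2_Rels [(1, co2_Z)]) co2_lb co2_Lb) = true := by decide +kernel

theorem co2_hub {G : Type*} [Group G] (y : ℕ → G) (hc : Nat.card G = 42305421312000) :
    Nat.card (genLt y 3) ≠ 0 ∧ Nat.card (genLt y 3) ≤ 42305421312000 :=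
  card_genLt_le (K := ⊤) (fun _ _ => trivial) (Subgroup.card_top.trans hc)

theorem co2_model {G α : Type*} [Group G] [MulAction G α] {e : ℕ → α} {y : ℕ → G} (he : Set.InjOn e (Set.Iio 4600)) (h0 : Tabs e 4600 co2_S y 3) (hc : Nat.card G = 42305421312000) :
    OutModel e 4600 co2_T co2_S (co2_g y) y 13 co2_inv [nat_lit 2423,nat_lit 2967,nat_lit 3459,nat_lit 2626,nat_lit 3599,nat_lit 2473] 42305421312000 :=
  have h1 := genLt_eq_of_card (K := ⊤) (fun _ _ => trivial) (Subgroup.card_top.trans hc) (co2_card he h0 (co2_hub y hc))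
  ⟨(co2_tabs h0).sifter he (co2_hinv he h0 (co2_hub y hc)) (co2_base0 he h0 (co2_hub y hc)) (by decide +kernel),
    (co2_gen y).trans h1, h0, h1, hc⟩

theorem co2_sl0 {G α : Type*} [Group G] [MulAction G α] {e : ℕ → α} {y : ℕ → G} (he : Set.InjOn e (Set.Iio 4600)) (h0 : Tabs e 4600 co2_S y 3) (hc : Nat.card G = 42305421312000) :
    SLev e 4600 co2_T (co2_g y) (co2_E (nat_lit 0)) 13 8 2423 :=
  (co2_tabs h0).sLev he (co2_level0 he h0 (co2_hub y hc)) co2_L0_o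

theorem co2_sl1 {G α : Type*} [Group G] [MulAction G α] {e : ℕ → α} {y : ℕ → G} (he : Set.InjOn e (Set.Iio 4600)) (h0 : Tabs e 4600 co2_S y 3) (hc : Nat.card G = 42305421312000) :
    SLev e 4600 co2_T (co2_g y) (co2_E (nat_lit 1)) 8 7 2967 :=
  (co2_tabs h0).sLev he (co2_level1 he h0 (co2_hub y hc)) co2_L1_o

theorem co2_sl2 {G α : Type*} [Group G] [MulAction G α] {e : ℕ → α} {y : ℕ → G} (he : Set.InjOn e (Set.Iio 4600)) (h0 : Tabs e 4600 co2_S y 3) (hc : Nat.card G = 42305421312000) :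
    SLev e 4600 co2_T (co2_g y) (co2_E (nat_lit 2)) 7 5 3459 :=
  (co2_tabs h0).sLev he (co2_level2 he h0 (co2_hub y hc)) co2_L2_o

theorem co2_sl3 {G α : Type*} [Group G] [MulAction G α] {e : ℕ → α} {y : ℕ → G} (he : Set.InjOn e (Set.Iio 4600)) (h0 : Tabs e 4600 co2_S y 3) (hc : Nat.card G = 42305421312000) :
    SLev e 4600 co2_T (co2_g y) (co2_E (nat_lit 3)) 5 3 2626 :=
  (co2_tabs h0).sLev he (co2_level3 he h0 (co2_hub y hc)) co2_L3_o

theorem co2_sl4 {G α : Type*} [Group G] [MulAction G α] {e : ℕ → α} {y : ℕ → G} (he : Set.InjOn e (Set.Iio 4600)) (h0 : Tabs e 4600 co2_S y 3) (hc : Nat.card G = 42305421312000) :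
    SLev e 4600 co2_T (co2_g y) (co2_E (nat_lit 4)) 3 1 3599 :=
  (co2_tabs h0).sLev he (co2_level4 he h0 (co2_hub y hc)) co2_L4_o

theorem co2_sl5 {G α : Type*} [Group G] [MulAction G α] {e : ℕ → α} {y : ℕ → G} (he : Set.InjOn e (Set.Iio 4600)) (h0 : Tabs e 4600 co2_S y 3) (hc : Nat.card G = 42305421312000) :
    SLev e 4600 co2_T (co2_g y) (co2_E (nat_lit 5)) 1 0 2473 :=
  (co2_tabs h0).sLev he (co2_level5 he h0 (co2_hub y hc)) co2_L5_o

theorem co2_cha {G α : Type*} [Group G] [MulAction G α] {e : ℕ → α} {y : ℕ → G} (he : Set.InjOn e (Set.Iio 4600)) (h0 : Tabs e 4600 co2_S y 3) (hc : Nat.card G = 42305421312000) :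
    ChainOK e 4600 co2_T (co2_g y) (co2_la :: co2_La) 13 :=
  ⟨_, co2_sl0 he h0 hc, _, co2_sl1 he h0 hc, _, co2_sl2 he h0 hc, _, co2_sl3 he h0 hc, _, co2_sl4 he h0 hc, _, co2_sl5 he h0 hc, rfl⟩

theorem co2_chb {G α : Type*} [Group G] [MulAction G α] {e : ℕ → α} {y : ℕ → G} (he : Set.InjOn e (Set.Iio 4600)) (h0 : Tabs e 4600 co2_S y 3) (hc : Nat.card G = 42305421312000) :
    ChainOK e 4600 co2_T (co2_g y) (co2_lb :: co2_Lb) 13 :=
  ⟨_, co2_sl0 he h0 hc, _, co2_sl1 he h0 hc, _, co2_sl2 he h0 hc, _, co2_sl3 he h0 hc, _, co2_sl4 he h0 hc, _, co2_sl5 he h0 hc, rfl⟩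

theorem co2_s1 : ∀ q < 4600, siftTop co2_T co2_S co2_inv (nat_lit 4600) co2_h (acc1 co2_T co2_S [nat_lit 2423,nat_lit 2967,nat_lit 3459,nat_lit 2626,nat_lit 3599,nat_lit 2473] (nat_lit 23)) co2_la co2_La q = true :=
  allRange_zero co2_s1_0

theorem co2_s2 : ∀ q < 4600, siftTop co2_T (fun _ => iterF (co2_S 1) (nat_lit 10)) co2_inv (nat_lit 4600) [] (acc2 co2_T co2_S [nat_lit 2423,nat_lit 2967,nat_lit 3459,nat_lit 2626,nat_lit 3599,nat_lit 2473] [nat_lit 1,nat_lit 5] co2_Rels [(1, co2_Z)]) co2_lb co2_Lb q = true :=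
  allRange_zero co2_s2_0

theorem co2_out {G α : Type*} [Group G] [MulAction G α] {e : ℕ → α} {y : ℕ → G} (he : Set.InjOn e (Set.Iio 4600)) (h0 : Tabs e 4600 co2_S y 3) (hc : Nat.card G = 42305421312000) : Nat.card (Out G) = 1 :=
  (co2_model he h0 hc).card_out_one (by decide +kernel)
    ((co2_model he h0 hc).aut_cases (p := nat_lit 23) (κ := 2) (a := nat_lit 1) (by norm_num) (by decide +kernel)
      ((co2_model he h0 hc).centralizer (co2_cha he h0 hc) (by decide +kernel) co2_s1)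
      (co2_chb he h0 hc) (by decide +kernel) co2_s2)

end Cfsg.Agent.Spor.OutC
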