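import Mathlib
import Cfsg.Agent.Spor.Out.Co3Ch
import Cfsg.Agent.Spor.Out.Gen
import Cfsg.Agent.Spor.Blocks

/-! Generated by tools/h59/outgen.py: outer automorphisms, co3 -/

set_option autoImplicit false
set_option maxRecDepth 100000
set_option linter.unusedVariables false
set_option exponentiation.threshold 100000

namespace Cfsg.Agent.Spor.OutC

open Cfsg.Agent.Spor

noncomputable def co3_la : Lv := ⟨co3_E (nat_lit 0), nat_lit 34, nat_lit 0, true, nat_lit 0, [], []⟩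

noncomputable def co3_La : List Lv :=
  [⟨co3_E (nat_lit 1), nat_lit 348, nat_lit 350, false, nat_lit 0, [nat_lit 0,nat_lit 0,nat_lit 0,nat_lit 0,nat_lit 0,nat_lit 0,nat_lit 0,nat_lit 0,nat_lit 0,nat_lit 0], []⟩,
   ⟨co3_E (nat_lit 2), nat_lit 111, nat_lit 269, false, nat_lit 1, [nat_lit 0], []⟩,
   ⟨co3_E (nat_lit 3), nat_lit 149, nat_lit 512, false, nat_lit 0, [nat_lit 0,nat_lit 0,nat_lit 0,nat_lit 0,nat_lit 0,nat_lit 0,nat_lit 0,nat_lit 0], []⟩,
   ⟨co3_E (nat_lit 4), nat_lit 468, nat_lit 158, false, nat_lit 2, [nat_lit 0,nat_lit 0,nat_lit 0,nat_lit 0,nat_lit 0,nat_lit 0,nat_lit 0,nat_lit 0,nat_lit 0,nat_lit 0,nat_lit 0,nat_lit 0], []⟩,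
   ⟨co3_E (nat_lit 5), nat_lit 259, nat_lit 474, false, nat_lit 2, [nat_lit 0,nat_lit 0,nat_lit 0,nat_lit 0,nat_lit 0,nat_lit 0], []⟩,
   ⟨co3_E (nat_lit 6), nat_lit 511, nat_lit 366, false, nat_lit 3, [nat_lit 0], []⟩]

noncomputable def co3_lb : Lv := ⟨co3_E (nat_lit 0), nat_lit 34, nat_lit 34, true, nat_lit 0, [], []⟩

noncomputable def co3_Lb : List Lv :=
  [⟨co3_E (nat_lit 1), nat_lit 348, nat_lit 348, false, nat_lit 0, [nat_lit 0], []⟩,
   ⟨co3_E (nat_lit 2), nat_lit 111, nat_lit 111, false, nat_lit 0, [nat_lit 0,nat_lit 0,nat_lit 0,nat_lit 0], []⟩,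
   ⟨co3_E (nat_lit 3), nat_lit 149, nat_lit 149, false, nat_lit 0, [nat_lit 0], []⟩,
   ⟨co3_E (nat_lit 4), nat_lit 468, nat_lit 468, false, nat_lit 0, [nat_lit 0], []⟩,
   ⟨co3_E (nat_lit 5), nat_lit 259, nat_lit 259, false, nat_lit 0, [nat_lit 0], []⟩,
   ⟨co3_E (nat_lit 6), nat_lit 511, nat_lit 511, false, nat_lit 0, [nat_lit 0], []⟩]

def co3_h : List ℕ := [nat_lit 0,nat_lit 2,nat_lit 0,nat_lit 1,nat_lit 0,nat_lit 3,nat_lit 0,nat_lit 2,nat_lit 3,nat_lit 5,nat_lit 5,nat_lit 6,nat_lit 6,nat_lit 5,nat_lit 8,nat_lit 4,nat_lit 11,nat_lit 12,nat_lit 5]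

def co3_Z : List ℕ := [nat_lit 14]

def co3_Rels : List (ℕ × List ℕ × List ℕ) :=
  [(nat_lit 2, [nat_lit 2], []),
   (nat_lit 10, [nat_lit 0,nat_lit 1,nat_lit 1,nat_lit 1,nat_lit 1,nat_lit 2], [])]

theorem co3_s1_0 : allRange (nat_lit 0) (nat_lit 552) (siftTop co3_T co3_S co3_inv (nat_lit 552) co3_h (acc1 co3_T co3_S [nat_lit 34,nat_lit 348,nat_lit 111,nat_lit 149,nat_lit 468,nat_lit 259,nat_lit 511] (nat_lit 23)) co3_la co3_La) = true := by decide +kernel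

theorem co3_s2_0 : allRange (nat_lit 0) (nat_lit 552) (siftTop co3_T (fun _ => iterF (co3_S 1) (nat_lit 1)) co3_inv (nat_lit 552) [] (acc2 co3_T co3_S [nat_lit 34,nat_lit 348,nat_lit 111,nat_lit 149,nat_lit 468,nat_lit 259,nat_lit 511] [nat_lit 1,nat_lit 5] co3_Rels [(1, co3_Z)]) co3_lb co3_Lb) = true := by decide +kernel

theorem co3_hub {G : Type*} [Group G] (y : ℕ → G) (hc : Nat.card G = 495766656000) :
    Nat.card (genLt y 3) ≠ 0 ∧ Nat.card (genLt y 3) ≤ 495766656000 :=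
  card_genLt_le (K := ⊤) (fun _ _ => trivial) (Subgroup.card_top.trans hc)

theorem co3_model {G α : Type*} [Group G] [MulAction G α] {e : ℕ → α} {y : ℕ → G} (he : Set.InjOn e (Set.Iio 552)) (h0 : Tabs e 552 co3_S y 3) (hc : Nat.card G = 495766656000) :
    OutModel e 552 co3_T co3_S (co3_g y) y 15 co3_inv [nat_lit 34,nat_lit 348,nat_lit 111,nat_lit 149,nat_lit 468,nat_lit 259,nat_lit 511] 495766656000 :=
  have h1 := genLt_eq_of_card (K := ⊤) (fun _ _ => trivial) (Subgroup.card_top.trans hc) (co3_card he h0 (co3_hub y hc))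
  ⟨(co3_tabs h0).sifter he (co3_hinv he h0 (co3_hub y hc)) (co3_base0 he h0 (co3_hub y hc)) (by decide +kernel),
    (co3_gen y).trans h1, h0, h1, hc⟩

theorem co3_sl0 {G α : Type*} [Group G] [MulAction G α] {e : ℕ → α} {y : ℕ → G} (he : Set.InjOn e (Set.Iio 552)) (h0 : Tabs e 552 co3_S y 3) (hc : Nat.card G = 495766656000) :
    SLev e 552 co3_T (co3_g y) (co3_E (nat_lit 0)) 15 10 34 :=
  (co3_tabs h0).sLev he (co3_level0 he h0 (co3_hub y hc)) co3_L0_o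

theorem co3_sl1 {G α : Type*} [Group G] [MulAction G α] {e : ℕ → α} {y : ℕ → G} (he : Set.InjOn e (Set.Iio 552)) (h0 : Tabs e 552 co3_S y 3) (hc : Nat.card G = 495766656000) :
    SLev e 552 co3_T (co3_g y) (co3_E (nat_lit 1)) 10 8 348 :=
  (co3_tabs h0).sLev he (co3_level1 he h0 (co3_hub y hc)) co3_L1_o

theorem co3_sl2 {G α : Type*} [Group G] [MulAction G α] {e : ℕ → α} {y : ℕ → G} (he : Set.InjOn e (Set.Iio 552)) (h0 : Tabs e 552 co3_S y 3) (hc : Nat.card G = 495766656000) :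
    SLev e 552 co3_T (co3_g y) (co3_E (nat_lit 2)) 8 6 111 :=
  (co3_tabs h0).sLev he (co3_level2 he h0 (co3_hub y hc)) co3_L2_o

theorem co3_sl3 {G α : Type*} [Group G] [MulAction G α] {e : ℕ → α} {y : ℕ → G} (he : Set.InjOn e (Set.Iio 552)) (h0 : Tabs e 552 co3_S y 3) (hc : Nat.card G = 495766656000) :
    SLev e 552 co3_T (co3_g y) (co3_E (nat_lit 3)) 6 4 149 :=
  (co3_tabs h0).sLev he (co3_level3 he h0 (co3_hub y hc)) co3_L3_o

theorem co3_sl4 {G α : Type*} [Group G] [MulAction G α] {e : ℕ → α} {y : ℕ → G} (he : Set.InjOn e (Set.Iio 552)) (h0 : Tabs e 552 co3_S y 3) (hc : Nat.card G = 495766656000) :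
    SLev e 552 co3_T (co3_g y) (co3_E (nat_lit 4)) 4 3 468 :=
  (co3_tabs h0).sLev he (co3_level4 he h0 (co3_hub y hc)) co3_L4_o

theorem co3_sl5 {G α : Type*} [Group G] [MulAction G α] {e : ℕ → α} {y : ℕ → G} (he : Set.InjOn e (Set.Iio 552)) (h0 : Tabs e 552 co3_S y 3) (hc : Nat.card G = 495766656000) :
    SLev e 552 co3_T (co3_g y) (co3_E (nat_lit 5)) 3 1 259 :=
  (co3_tabs h0).sLev he (co3_level5 he h0 (co3_hub y hc)) co3_L5_o

theorem co3_sl6 {G α : Type*} [Group G] [MulAction G α] {e : ℕ → α} {y : ℕ → G} (he : Set.InjOn e (Set.Iio 552)) (h0 : Tabs e 552 co3_S y 3) (hc : Nat.card G = 495766656000) :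
    SLev e 552 co3_T (co3_g y) (co3_E (nat_lit 6)) 1 0 511 :=
  (co3_tabs h0).sLev he (co3_level6 he h0 (co3_hub y hc)) co3_L6_o

theorem co3_cha {G α : Type*} [Group G] [MulAction G α] {e : ℕ → α} {y : ℕ → G} (he : Set.InjOn e (Set.Iio 552)) (h0 : Tabs e 552 co3_S y 3) (hc : Nat.card G = 495766656000) :
    ChainOK e 552 co3_T (co3_g y) (co3_la :: co3_La) 15 :=
  ⟨_, co3_sl0 he h0 hc, _, co3_sl1 he h0 hc, _, co3_sl2 he h0 hc, _, co3_sl3 he h0 hc, _, co3_sl4 he h0 hc, _, co3_sl5 he h0 hc, _, co3_sl6 he h0 hc, rfl⟩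

theorem co3_chb {G α : Type*} [Group G] [MulAction G α] {e : ℕ → α} {y : ℕ → G} (he : Set.InjOn e (Set.Iio 552)) (h0 : Tabs e 552 co3_S y 3) (hc : Nat.card G = 495766656000) :
    ChainOK e 552 co3_T (co3_g y) (co3_lb :: co3_Lb) 15 :=
  ⟨_, co3_sl0 he h0 hc, _, co3_sl1 he h0 hc, _, co3_sl2 he h0 hc, _, co3_sl3 he h0 hc, _, co3_sl4 he h0 hc, _, co3_sl5 he h0 hc, _, co3_sl6 he h0 hc, rfl⟩

theorem co3_s1 : ∀ q < 552, siftTop co3_T co3_S co3_inv (nat_lit 552) co3_h (acc1 co3_T co3_S [nat_lit 34,nat_lit 348,nat_lit 111,nat_lit 149,nat_lit 468,nat_lit 259,nat_lit 511] (nat_lit 23)) co3_la co3_La q = true :=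
  allRange_zero co3_s1_0

theorem co3_s2 : ∀ q < 552, siftTop co3_T (fun _ => iterF (co3_S 1) (nat_lit 1)) co3_inv (nat_lit 552) [] (acc2 co3_T co3_S [nat_lit 34,nat_lit 348,nat_lit 111,nat_lit 149,nat_lit 468,nat_lit 259,nat_lit 511] [nat_lit 1,nat_lit 5] co3_Rels [(1, co3_Z)]) co3_lb co3_Lb q = true :=
  allRange_zero co3_s2_0

theorem co3_out {G α : Type*} [Group G] [MulAction G α] {e : ℕ → α} {y : ℕ → G} (he : Set.InjOn e (Set.Iio 552)) (h0 : Tabs e 552 co3_S y 3) (hc : Nat.card G = 495766656000) : Nat.card (Out G) = 1 :=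
  (co3_model he h0 hc).card_out_one (by decide +kernel)
    ((co3_model he h0 hc).aut_cases (p := nat_lit 23) (κ := 2) (a := nat_lit 1) (by norm_num) (by decide +kernel)
      ((co3_model he h0 hc).centralizer (co3_cha he h0 hc) (by decide +kernel) co3_s1)
      (co3_chb he h0 hc) (by decide +kernel) co3_s2)

end Cfsg.Agent.Spor.OutC
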