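import Mathlib
import Cfsg.Agent.Spor.Comp.Pres

/-! Generated by tools/pg: stabiliser chain hs -/

set_option autoImplicit false
set_option maxRecDepth 100000
set_option linter.unusedVariables false
set_option exponentiation.threshold 100000

namespace Cfsg.Agent.Spor.OutC

open Cfsg.Agent.Spor

noncomputable def hs_S_t0 : BT :=
(.node (.node (.node (.node (.node (.leaf (nat_lit 0x1d5d9df5626f037c782372b543a58a6489d253953d7f530431a3e7d6464dca1c6330c88eb80d152c6e2060ec5db9669b4c449a2408222c35846c54639482ba6858f905a019382ebf12c0564a1879412280d2a6d34f26eda))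
 (.leaf (nat_lit 0xa6f4486260ac5cab68957ba963d150b46089f3933a5e614a3b71a856bee004b7f79161949c89b062f0492a5d8b7803481e5c29a63988622c038a6b93e92cb284ccb3b383cd41867505232395d40e15e456cd550460fa414))
) (.leaf (nat_lit 0x6d35d2a82158031654128c4797c77c58c2370807b1bb464ac02b69a58940914103a9337a7275ebf82417c2e4d3b6b1ab90aa6da3f3f6e1131a3054c781912780c90c5b52c8e3b0644ab5d2a1879edd480a971304b358ea4))
) (.node (.leaf (nat_lit 0x7e80a41bd09e317064929921ac55a76811d1d38291b2ddabd36917c4b7845d09f5d918c0711b40e30983c51a63b965998db8212a82e2aa4820e550134b931e1348fd158e915f7d155954e107c76101b4dad290e38775680))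
 (.leaf (nat_lit 0x49088e010fa90fb6cdd9b45580d46d75b879ec4f4c8649e484676086978a2803178849b29dcb8a34d297b48270c58356af0429494744dae38f5c5b23f36309b068cbf6858aa84d2b0bdb83973042a8e5fa11028406aeac0))
)) (.node (.node (.leaf (nat_lit 0x832e54f6e19b2b6a431290452a589c88496174dedc037cc4d70210287c1f19c76f151b0828cd7c36ee93241663f669978d6322ac458e92a1a4699452b00f1d868dc8c4f42d56a2b489f1f80b831cb9a46bd09230931ec80))
 (.leaf (nat_lit 0x1960d3ebe86ead5d6aa62aec14599a3e4060eea9cc96799516ada2c47708c37078113c8739c90811a38923258d64b6ee2a24b10553e8d7a44cf6f294f281152d84cc12e6ce0514ad9b8a438463164da0d9f40a047e74080))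
) (.node (.leaf (nat_lit 0x295d9b66ee25864c5c1935a095878af654216e71202c3a4b5a8b8c431a96f9b514dd9f618594f158d7a9786a65daa3e34821804d83816200a074cce4f580ba54c4951694ad404904aac9af91a2b6848bf187af04b966388))
 (.leaf (nat_lit 0x8b74bd428371165769458440df60434831d9f3843a810500202db1c4310a54b5f55e913d30e2d6f19ab266d18a57e8dc00b6a84d93e498135d5e9c94eee83920687c3c370adf4899e1b323af0c0e294cd1744284ad223ac))
))) (.node (.node (.node (.node (.leaf (nat_lit 0x8ce13b297c12b874a5d57c1ea25a668c407f384315e1aba418c8944077b00ac64e45d605915b94264b85af6e0b8a780972286c281e754c672542e2327283a8e7ed3c4eb88616b666231b3d6368298daa6f5a68e6945000))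
 (.leaf (nat_lit 0x5089e3586fabdc8f68eddb112d8cc642a459f390a780eda01ab18425266ca2f7e0b1093131042601c329347188396ae9241a164d37536b1e90f53113eb091770547ca6465980bf65cad2c397516cab0d017805046f791c1))
) (.leaf (nat_lit 0x606d98bb7796d2be6a1d87090a4b5772050889c14ca91900055281cfb259fd18285ea976e9cd76e4851cc2c8fe34c22ea3a71de289cbc9d65841f496274f34c568c982b08bd54ad88a21e3868cc0d44ae0c1c0848b342c8))
) (.node (.leaf (nat_lit 0x8365b8e941dacc6c540d470514d59c8c996c14e431c5841aa0421028361b19e610e6be7e98cc7bf76d895e855845a28927b8f6c442eb928535492452074e407889cc91b40fd668cc8da1e2d6189eea8c6857993b195e580))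
 (.leaf (nat_lit 0xb35c8b53155116036a862b11158c8a6f0639f3a99f96799477cda6b04842fbf5f22ea986ea4c24a2e88934e58d6816e913bc1502198201bb04f493c4e013615a54cc1683d9ac28a0e38b8391868ca8b9d0f505046e3574a))
)) (.node (.node (.leaf (nat_lit 0x7e45ec9c1740b56000725c512b4a0879c0a8b382ac5e1813c76829a9908d3a8976e60b6472094b0b521bc255b3324e8b90bf35b8806aaa0986ae034336a81f44ba90c266ab8d853e8988d8e3be6286f26aa1ced9b83dc96))
 (.leaf (nat_lit 0x1560e4648d8b5c76e6ce2366222ba14965343393315120d4a47817d51889b857e1ccbcb69ed0f837831566266148a4d6d1a8214cb75340df8f0a7913e34ee1af25ed62f75a305c490107038f43178d92a7cd60040609280))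
) (.node (.leaf (nat_lit 0x8aecbbd590918c447e58630943d4a74a8a825382bcb2dd88b071b1c4577a09d7e0b04cc47089b94d5b3464ce4811c7925f86854d04e9ab2dbb6d520b4ba03a7068057c25848f213dc9328bc6dc9028a88ab626848ef9819))
 (.leaf (nat_lit 0xa160e5182ade8f5d6b1d7c4c2f069ab5ad99f3a2a79601cbe902e9d676e0c2f811d12048e9910071b0172b258c47e04d94aa29e123e75bc31b754299928411a4cccdf1370d1358870c22c381546c15a260e315044a8ed9e))
))))

noncomputable def hs_S_t : BT :=
hs_S_t0

noncomputable def hs_S : ℕ → ℕ → ℕ := fun x i => Nat.land (Nat.shiftRight (BT.get hs_S_t x) (Nat.mul (nat_lit 7) i)) (nat_lit 127)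

noncomputable def hs_defs : LT :=
(.node (.node (.node (.node (.node (.leaf [nat_lit 0])
 (.leaf [nat_lit 0,nat_lit 15,nat_lit 14])
) (.leaf [nat_lit 1,nat_lit 6])
) (.node (.leaf [nat_lit 1,nat_lit 1])
 (.leaf [nat_lit 0,nat_lit 9,nat_lit 10,nat_lit 9])
)) (.node (.node (.leaf [nat_lit 0])
 (.leaf [nat_lit 0,nat_lit 8,nat_lit 8,nat_lit 7,nat_lit 6,nat_lit 6])
) (.node (.leaf [nat_lit 0,nat_lit 0,nat_lit 5,nat_lit 4,nat_lit 3,nat_lit 2])
 (.leaf [nat_lit 0,nat_lit 11,nat_lit 10,nat_lit 9,nat_lit 10,nat_lit 11])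
))) (.node (.node (.node (.node (.leaf [nat_lit 0])
 (.leaf [nat_lit 1,nat_lit 16])
) (.leaf [nat_lit 0,nat_lit 6,nat_lit 6,nat_lit 7,nat_lit 8,nat_lit 8])
) (.node (.leaf [nat_lit 1,nat_lit 2])
 (.leaf [nat_lit 0,nat_lit 11,nat_lit 9,nat_lit 11,nat_lit 10])
)) (.node (.node (.leaf [nat_lit 1,nat_lit 0])
 (.leaf [nat_lit 0,nat_lit 6,nat_lit 7,nat_lit 8,nat_lit 7,nat_lit 6,nat_lit 7,nat_lit 8])
) (.node (.leaf [nat_lit 0,nat_lit 3,nat_lit 2,nat_lit 2,nat_lit 0])
 (.leaf [nat_lit 1,nat_lit 13])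
))))
noncomputable def hs_iota : ℕ → ℕ := getP (nat_lit 8) (nat_lit 255) (nat_lit 0x5020401030007090e0c1110)
noncomputable def hs_inv : ℕ → ℕ := getP (nat_lit 8) (nat_lit 255) (nat_lit 0xa0b08090607050403020001)
noncomputable def hs_hws : LT := .leaf []

noncomputable def hs_T_t0 : BT :=
(.node (.node (.node (.node (.leaf (nat_lit 0xa6f4486260ac5cab68957ba963d150b46089f3933a5e614a3b71a856bee004b7f79161949c89b062f0492a5d8b7803481e5c29a63988622c038a6b93e92cb284ccb3b383cd41867505232395d40e15e456cd550460fa414))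
 (.leaf (nat_lit 0x8ce13b297c12b874a5d57c1ea25a668c407f384315e1aba418c8944077b00ac64e45d605915b94264b85af6e0b8a780972286c281e754c672542e2327283a8e7ed3c4eb88616b666231b3d6368298daa6f5a68e6945000))
) (.leaf (nat_lit 0x606d98bb7796d2be6a1d87090a4b5772050889c14ca91900055281cfb259fd18285ea976e9cd76e4851cc2c8fe34c22ea3a71de289cbc9d65841f496274f34c568c982b08bd54ad88a21e3868cc0d44ae0c1c0848b342c8))
) (.node (.node (.leaf (nat_lit 0x49088e010fa90fb6cdd9b45580d46d75b879ec4f4c8649e484676086978a2803178849b29dcb8a34d297b48270c58356af0429494744dae38f5c5b23f36309b068cbf6858aa84d2b0bdb83973042a8e5fa11028406aeac0))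
 (.leaf (nat_lit 0x832e54f6e19b2b6a431290452a589c88496174dedc037cc4d70210287c1f19c76f151b0828cd7c36ee93241663f669978d6322ac458e92a1a4699452b00f1d868dc8c4f42d56a2b489f1f80b831cb9a46bd09230931ec80))
) (.leaf (nat_lit 0x1d5d9df5626f037c782372b543a58a6489d253953d7f530431a3e7d6464dca1c6330c88eb80d152c6e2060ec5db9669b4c449a2408222c35846c54639482ba6858f905a019382ebf12c0564a1879412280d2a6d34f26eda))
)) (.node (.node (.node (.leaf (nat_lit 0x5089e3586fabdc8f68eddb112d8cc642a459f390a780eda01ab18425266ca2f7e0b1093131042601c329347188396ae9241a164d37536b1e90f53113eb091770547ca6465980bf65cad2c397516cab0d017805046f791c1))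
 (.leaf (nat_lit 0x7e80a41bd09e317064929921ac55a76811d1d38291b2ddabd36917c4b7845d09f5d918c0711b40e30983c51a63b965998db8212a82e2aa4820e550134b931e1348fd158e915f7d155954e107c76101b4dad290e38775680))
) (.leaf (nat_lit 0x8aecbbd590918c447e58630943d4a74a8a825382bcb2dd88b071b1c4577a09d7e0b04cc47089b94d5b3464ce4811c7925f86854d04e9ab2dbb6d520b4ba03a7068057c25848f213dc9328bc6dc9028a88ab626848ef9819))
) (.node (.node (.leaf (nat_lit 0x8b74bd428371165769458440df60434831d9f3843a810500202db1c4310a54b5f55e913d30e2d6f19ab266d18a57e8dc00b6a84d93e498135d5e9c94eee83920687c3c370adf4899e1b323af0c0e294cd1744284ad223ac))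
 (.leaf (nat_lit 0x8365b8e941dacc6c540d470514d59c8c996c14e431c5841aa0421028361b19e610e6be7e98cc7bf76d895e855845a28927b8f6c442eb928535492452074e407889cc91b40fd668cc8da1e2d6189eea8c6857993b195e580))
) (.leaf (nat_lit 0x7e45ec9c1740b56000725c512b4a0879c0a8b382ac5e1813c76829a9908d3a8976e60b6472094b0b521bc255b3324e8b90bf35b8806aaa0986ae034336a81f44ba90c266ab8d853e8988d8e3be6286f26aa1ced9b83dc96))
)))

noncomputable def hs_T_t : BT :=
hs_T_t0

noncomputable def hs_T : ℕ → ℕ → ℕ := fun x i => Nat.land (Nat.shiftRight (BT.get hs_T_t x) (Nat.mul (nat_lit 7) i)) (nat_lit 127)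

noncomputable def hs_E_t0 : BT :=
(.node (.node (.node (.leaf (nat_lit 0x20830b40b30b40650b40a40830740220640640740440240420740740240530930b40150830530140640630740330740b30440230b40730640440140720a50b40640830130240540930630640720b30540140640230440540730140440030330240740730340b50430330040a40a40050b30040150b40140240030140940750520940030230a40740940640040140910030040230a401))
 (.leaf (nat_lit 0x100000000000000000000000000000000000000000000000201000000000000000000000000000000000000000000000000000000000000000000000000000000000000000000000000000000000000000000000000000000200000000000000000000000000000000000000000000000000000000000000000000000000000000000000000000000000000000000000000000000000))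
) (.leaf (nat_lit 0x502000000400500800000000604000604000000301704503601000403502100000602000602703000704702603504204501000602504704704000000603000000000500501402000000000000403602704000501704600000600000502300404604000601000000500604000000000000603000000000603404603000000000000801502504504000600404302601000403704701603))
) (.node (.leaf (nat_lit 0x502605000503405601505605504000405605505504604404503600404503505000400000300500000504502502502602402704404301303504605000502000000603502504601000000000000602205505505302505505000503000304504400404605401000000401405000603000505402000601000501402403000505605100600501502601000502604503505000601504501402))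
 (.leaf (nat_lit 0x502000000000401000000000000000402000000000000000600000000603000000502000300300000000000602502000303000403301100000000000301000000000000703000000000000000000203000000302000000000503000503000400000000600000000403500000000000000202000000000500400402000000000000000000702000000502702000000000000000000402))
))

noncomputable def hs_E_t : BT :=
hs_E_t0

noncomputable def hs_E : ℕ → ℕ → ℕ := fun x i => Nat.land (Nat.shiftRight (BT.get hs_E_t x) (Nat.mul (nat_lit 12) i)) (nat_lit 4095)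

theorem hs_slp0 : allLt (nat_lit 15) (fun i => force (Nat.add (nat_lit 3) i) (slpOK hs_S hs_defs (nat_lit 100))) = true := by decide +kernel

theorem hs_ren : allLt (nat_lit 12) (fun x => force (hs_iota x) fun y => band (blt y (nat_lit 18)) (allRange (nat_lit 0) (nat_lit 100) fun i => Nat.beq (hs_S y i) (hs_T x i))) = true := by decide +kernel

theorem hs_L4_o : band (allRange (nat_lit 0) (nat_lit 100) (orbOK hs_T (nat_lit 2) (hs_E (nat_lit 4)) (Nat.beq (nat_lit 99)))) (band (Nat.ble (nat_lit 3) (count2 (nat_lit 100) fun p => Nat.ble 256 (hs_E (nat_lit 4) p))) (allLt (nat_lit 0) (fun x => Nat.beq (hs_T x (nat_lit 99)) (nat_lit 99)))) = true := by decide +kernel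

theorem hs_L3_o : band (allRange (nat_lit 0) (nat_lit 100) (orbOK hs_T (nat_lit 4) (hs_E (nat_lit 3)) (Nat.beq (nat_lit 63)))) (band (Nat.ble (nat_lit 32) (count2 (nat_lit 100) fun p => Nat.ble 256 (hs_E (nat_lit 3) p))) (allLt (nat_lit 2) (fun x => Nat.beq (hs_T x (nat_lit 63)) (nat_lit 63)))) = true := by decide +kernel

theorem hs_L2_o : band (allRange (nat_lit 0) (nat_lit 100) (orbOK hs_T (nat_lit 5) (hs_E (nat_lit 2)) (Nat.beq (nat_lit 79)))) (band (Nat.ble (nat_lit 60) (count2 (nat_lit 100) fun p => Nat.ble 256 (hs_E (nat_lit 2) p))) (allLt (nat_lit 4) (fun x => Nat.beq (hs_T x (nat_lit 79)) (nat_lit 79)))) = true := by decide +kernel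

theorem hs_L1_o : band (allRange (nat_lit 0) (nat_lit 100) (orbOK hs_T (nat_lit 6) (hs_E (nat_lit 1)) (Nat.beq (nat_lit 14)))) (band (Nat.ble (nat_lit 77) (count2 (nat_lit 100) fun p => Nat.ble 256 (hs_E (nat_lit 1) p))) (allLt (nat_lit 5) (fun x => Nat.beq (hs_T x (nat_lit 14)) (nat_lit 14)))) = true := by decide +kernel

theorem hs_L0_o : band (allRange (nat_lit 0) (nat_lit 100) (orbOK hs_T (nat_lit 12) (hs_E (nat_lit 0)) (Nat.beq (nat_lit 4)))) (band (Nat.ble (nat_lit 100) (count2 (nat_lit 100) fun p => Nat.ble 256 (hs_E (nat_lit 0) p))) (allLt (nat_lit 6) (fun x => Nat.beq (hs_T x (nat_lit 4)) (nat_lit 4)))) = true := by decide +kernel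

/-- The letters: a strong generating set, deepest stabiliser first. -/
noncomputable def hs_g {G : Type*} [Group G] (a : ℕ → G) : ℕ → G := fun x => slp a 3 hs_defs (hs_iota x)

theorem hs_tabs {G α : Type*} [Group G] [MulAction G α] {e : ℕ → α} {a : ℕ → G} (h0 : Tabs e 100 hs_S a 3) : Tabs e 100 hs_T (hs_g a) 12 :=
  Tabs.rename (ι := hs_iota) (g := slp a 3 hs_defs) ((Tabs.slp_base hs_defs h0).slp_add (by decide) _ hs_slp0) hs_ren

theorem hs_gen {G : Type*} [Group G] (a : ℕ → G) : genLt (hs_g a) 12 = genLt a 3 :=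
  genLt_slp_eq a hs_defs (back := getP 8 255 (nat_lit 0xa0806)) (by decide +kernel)

theorem hs_low4 {G α : Type*} [Group G] [MulAction G α] {e : ℕ → α} {a : ℕ → G} (he : Set.InjOn e (Set.Iio 100)) (h0 : Tabs e 100 hs_S a 3) :
    LowLevel (genLt (hs_g a) 2) (genLt (hs_g a) 0) (e 99) 3 :=
  Tabs.lowLevel (hs_tabs h0) he (by decide) (by decide) (by decide) hs_L4_o

theorem hs_ge4 {G α : Type*} [Group G] [MulAction G α] {e : ℕ → α} {a : ℕ → G} (he : Set.InjOn e (Set.Iio 100)) (h0 : Tabs e 100 hs_S a 3) :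
    Finite (genLt (hs_g a) 2) → 3 ≤ Nat.card (genLt (hs_g a) 2) := fun hK =>
  (hs_low4 he h0).card hK (one_le_card_fin _)

theorem hs_fix4 {G α : Type*} [Group G] [MulAction G α] {e : ℕ → α} {a : ℕ → G} (he : Set.InjOn e (Set.Iio 100)) (h0 : Tabs e 100 hs_S a 3) :
    ∀ X : Subgroup G, Finite X → (genLt (hs_g a) 2) ≤ X → 3 * Nat.card (fixB e X [99]) ≤ Nat.card X :=
  (hs_low4 he h0).card_fix (card_fix_nil _ _)

theorem hs_low3 {G α : Type*} [Group G] [MulAction G α] {e : ℕ → α} {a : ℕ → G} (he : Set.InjOn e (Set.Iio 100)) (h0 : Tabs e 100 hs_S a 3) :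
    LowLevel (genLt (hs_g a) 4) (genLt (hs_g a) 2) (e 63) 32 :=
  Tabs.lowLevel (hs_tabs h0) he (by decide) (by decide) (by decide) hs_L3_o

theorem hs_ge3 {G α : Type*} [Group G] [MulAction G α] {e : ℕ → α} {a : ℕ → G} (he : Set.InjOn e (Set.Iio 100)) (h0 : Tabs e 100 hs_S a 3) :
    Finite (genLt (hs_g a) 4) → 96 ≤ Nat.card (genLt (hs_g a) 4) := fun hK =>
  (hs_low3 he h0).card hK (hs_ge4 he h0)

theorem hs_fix3 {G α : Type*} [Group G] [MulAction G α] {e : ℕ → α} {a : ℕ → G} (he : Set.InjOn e (Set.Iio 100)) (h0 : Tabs e 100 hs_S a 3) :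
    ∀ X : Subgroup G, Finite X → (genLt (hs_g a) 4) ≤ X → 96 * Nat.card (fixB e X [63, 99]) ≤ Nat.card X :=
  (hs_low3 he h0).card_fix (hs_fix4 he h0)

theorem hs_low2 {G α : Type*} [Group G] [MulAction G α] {e : ℕ → α} {a : ℕ → G} (he : Set.InjOn e (Set.Iio 100)) (h0 : Tabs e 100 hs_S a 3) :
    LowLevel (genLt (hs_g a) 5) (genLt (hs_g a) 4) (e 79) 60 :=
  Tabs.lowLevel (hs_tabs h0) he (by decide) (by decide) (by decide) hs_L2_o

theorem hs_ge2 {G α : Type*} [Group G] [MulAction G α] {e : ℕ → α} {a : ℕ → G} (he : Set.InjOn e (Set.Iio 100)) (h0 : Tabs e 100 hs_S a 3) :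
    Finite (genLt (hs_g a) 5) → 5760 ≤ Nat.card (genLt (hs_g a) 5) := fun hK =>
  (hs_low2 he h0).card hK (hs_ge3 he h0)

theorem hs_fix2 {G α : Type*} [Group G] [MulAction G α] {e : ℕ → α} {a : ℕ → G} (he : Set.InjOn e (Set.Iio 100)) (h0 : Tabs e 100 hs_S a 3) :
    ∀ X : Subgroup G, Finite X → (genLt (hs_g a) 5) ≤ X → 5760 * Nat.card (fixB e X [79, 63, 99]) ≤ Nat.card X :=
  (hs_low2 he h0).card_fix (hs_fix3 he h0)

theorem hs_low1 {G α : Type*} [Group G] [MulAction G α] {e : ℕ → α} {a : ℕ → G} (he : Set.InjOn e (Set.Iio 100)) (h0 : Tabs e 100 hs_S a 3) :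
    LowLevel (genLt (hs_g a) 6) (genLt (hs_g a) 5) (e 14) 77 :=
  Tabs.lowLevel (hs_tabs h0) he (by decide) (by decide) (by decide) hs_L1_o

theorem hs_ge1 {G α : Type*} [Group G] [MulAction G α] {e : ℕ → α} {a : ℕ → G} (he : Set.InjOn e (Set.Iio 100)) (h0 : Tabs e 100 hs_S a 3) :
    Finite (genLt (hs_g a) 6) → 443520 ≤ Nat.card (genLt (hs_g a) 6) := fun hK =>
  (hs_low1 he h0).card hK (hs_ge2 he h0)

theorem hs_fix1 {G α : Type*} [Group G] [MulAction G α] {e : ℕ → α} {a : ℕ → G} (he : Set.InjOn e (Set.Iio 100)) (h0 : Tabs e 100 hs_S a 3) :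
    ∀ X : Subgroup G, Finite X → (genLt (hs_g a) 6) ≤ X → 443520 * Nat.card (fixB e X [14, 79, 63, 99]) ≤ Nat.card X :=
  (hs_low1 he h0).card_fix (hs_fix2 he h0)

theorem hs_low0 {G α : Type*} [Group G] [MulAction G α] {e : ℕ → α} {a : ℕ → G} (he : Set.InjOn e (Set.Iio 100)) (h0 : Tabs e 100 hs_S a 3) :
    LowLevel (genLt (hs_g a) 12) (genLt (hs_g a) 6) (e 4) 100 :=
  Tabs.lowLevel (hs_tabs h0) he (by decide) (by decide) (by decide) hs_L0_o

theorem hs_ge0 {G α : Type*} [Group G] [MulAction G α] {e : ℕ → α} {a : ℕ → G} (he : Set.InjOn e (Set.Iio 100)) (h0 : Tabs e 100 hs_S a 3) :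
    Finite (genLt (hs_g a) 12) → 44352000 ≤ Nat.card (genLt (hs_g a) 12) := fun hK =>
  (hs_low0 he h0).card hK (hs_ge1 he h0)

theorem hs_fix0 {G α : Type*} [Group G] [MulAction G α] {e : ℕ → α} {a : ℕ → G} (he : Set.InjOn e (Set.Iio 100)) (h0 : Tabs e 100 hs_S a 3) :
    ∀ X : Subgroup G, Finite X → (genLt (hs_g a) 12) ≤ X → 44352000 * Nat.card (fixB e X [4, 14, 79, 63, 99]) ≤ Nat.card X :=
  (hs_low0 he h0).card_fix (hs_fix1 he h0)

theorem hs_ub0 {G α : Type*} [Group G] [MulAction G α] {e : ℕ → α} {a : ℕ → G} (he : Set.InjOn e (Set.Iio 100)) (h0 : Tabs e 100 hs_S a 3) (hub : Nat.card (genLt a 3) ≠ 0 ∧ Nat.card (genLt a 3) ≤ 44352000) :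
    Nat.card (genLt (hs_g a) 12) ≠ 0 ∧ Nat.card (genLt (hs_g a) 12) ≤ 44352000 := by rw [hs_gen]; exact hub

theorem hs_level0 {G α : Type*} [Group G] [MulAction G α] {e : ℕ → α} {a : ℕ → G} (he : Set.InjOn e (Set.Iio 100)) (h0 : Tabs e 100 hs_S a 3) (hub : Nat.card (genLt a 3) ≠ 0 ∧ Nat.card (genLt a 3) ≤ 44352000) :
    Level (genLt (hs_g a) 12) (genLt (hs_g a) 6) (e 4) 100 :=
  ((hs_low0 he h0).level (c := 443520) (hs_ub0 he h0 hub) (hs_ge1 he h0)).1

theorem hs_ub1 {G α : Type*} [Group G] [MulAction G α] {e : ℕ → α} {a : ℕ → G} (he : Set.InjOn e (Set.Iio 100)) (h0 : Tabs e 100 hs_S a 3) (hub : Nat.card (genLt a 3) ≠ 0 ∧ Nat.card (genLt a 3) ≤ 44352000) :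
    Nat.card (genLt (hs_g a) 6) ≠ 0 ∧ Nat.card (genLt (hs_g a) 6) ≤ 443520 :=
  ((hs_low0 he h0).level (c := 443520) (hs_ub0 he h0 hub) (hs_ge1 he h0)).2

theorem hs_level1 {G α : Type*} [Group G] [MulAction G α] {e : ℕ → α} {a : ℕ → G} (he : Set.InjOn e (Set.Iio 100)) (h0 : Tabs e 100 hs_S a 3) (hub : Nat.card (genLt a 3) ≠ 0 ∧ Nat.card (genLt a 3) ≤ 44352000) :
    Level (genLt (hs_g a) 6) (genLt (hs_g a) 5) (e 14) 77 :=
  ((hs_low1 he h0).level (c := 5760) (hs_ub1 he h0 hub) (hs_ge2 he h0)).1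

theorem hs_ub2 {G α : Type*} [Group G] [MulAction G α] {e : ℕ → α} {a : ℕ → G} (he : Set.InjOn e (Set.Iio 100)) (h0 : Tabs e 100 hs_S a 3) (hub : Nat.card (genLt a 3) ≠ 0 ∧ Nat.card (genLt a 3) ≤ 44352000) :
    Nat.card (genLt (hs_g a) 5) ≠ 0 ∧ Nat.card (genLt (hs_g a) 5) ≤ 5760 :=
  ((hs_low1 he h0).level (c := 5760) (hs_ub1 he h0 hub) (hs_ge2 he h0)).2

theorem hs_level2 {G α : Type*} [Group G] [MulAction G α] {e : ℕ → α} {a : ℕ → G} (he : Set.InjOn e (Set.Iio 100)) (h0 : Tabs e 100 hs_S a 3) (hub : Nat.card (genLt a 3) ≠ 0 ∧ Nat.card (genLt a 3) ≤ 44352000) :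
    Level (genLt (hs_g a) 5) (genLt (hs_g a) 4) (e 79) 60 :=
  ((hs_low2 he h0).level (c := 96) (hs_ub2 he h0 hub) (hs_ge3 he h0)).1

theorem hs_ub3 {G α : Type*} [Group G] [MulAction G α] {e : ℕ → α} {a : ℕ → G} (he : Set.InjOn e (Set.Iio 100)) (h0 : Tabs e 100 hs_S a 3) (hub : Nat.card (genLt a 3) ≠ 0 ∧ Nat.card (genLt a 3) ≤ 44352000) :
    Nat.card (genLt (hs_g a) 4) ≠ 0 ∧ Nat.card (genLt (hs_g a) 4) ≤ 96 :=
  ((hs_low2 he h0).level (c := 96) (hs_ub2 he h0 hub) (hs_ge3 he h0)).2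

theorem hs_level3 {G α : Type*} [Group G] [MulAction G α] {e : ℕ → α} {a : ℕ → G} (he : Set.InjOn e (Set.Iio 100)) (h0 : Tabs e 100 hs_S a 3) (hub : Nat.card (genLt a 3) ≠ 0 ∧ Nat.card (genLt a 3) ≤ 44352000) :
    Level (genLt (hs_g a) 4) (genLt (hs_g a) 2) (e 63) 32 :=
  ((hs_low3 he h0).level (c := 3) (hs_ub3 he h0 hub) (hs_ge4 he h0)).1

theorem hs_ub4 {G α : Type*} [Group G] [MulAction G α] {e : ℕ → α} {a : ℕ → G} (he : Set.InjOn e (Set.Iio 100)) (h0 : Tabs e 100 hs_S a 3) (hub : Nat.card (genLt a 3) ≠ 0 ∧ Nat.card (genLt a 3) ≤ 44352000) :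
    Nat.card (genLt (hs_g a) 2) ≠ 0 ∧ Nat.card (genLt (hs_g a) 2) ≤ 3 :=
  ((hs_low3 he h0).level (c := 3) (hs_ub3 he h0 hub) (hs_ge4 he h0)).2

theorem hs_level4 {G α : Type*} [Group G] [MulAction G α] {e : ℕ → α} {a : ℕ → G} (he : Set.InjOn e (Set.Iio 100)) (h0 : Tabs e 100 hs_S a 3) (hub : Nat.card (genLt a 3) ≠ 0 ∧ Nat.card (genLt a 3) ≤ 44352000) :
    Level (genLt (hs_g a) 2) (genLt (hs_g a) 0) (e 99) 3 :=
  ((hs_low4 he h0).level (c := 1) (hs_ub4 he h0 hub) (one_le_card_fin _)).1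

theorem hs_card4 {G α : Type*} [Group G] [MulAction G α] {e : ℕ → α} {a : ℕ → G} (he : Set.InjOn e (Set.Iio 100)) (h0 : Tabs e 100 hs_S a 3) (hub : Nat.card (genLt a 3) ≠ 0 ∧ Nat.card (genLt a 3) ≤ 44352000) :
    Nat.card (genLt (hs_g a) 2) = 3 :=
  (hs_level4 he h0 hub).card (card_genLt_zero _)

theorem hs_base4 {G α : Type*} [Group G] [MulAction G α] {e : ℕ → α} {a : ℕ → G} (he : Set.InjOn e (Set.Iio 100)) (h0 : Tabs e 100 hs_S a 3) (hub : Nat.card (genLt a 3) ≠ 0 ∧ Nat.card (genLt a 3) ≤ 44352000) :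
    IsBase e (genLt (hs_g a) 2) [99] :=
  (hs_level4 he h0 hub).base (isBase_genLt_zero _ _)

theorem hs_card3 {G α : Type*} [Group G] [MulAction G α] {e : ℕ → α} {a : ℕ → G} (he : Set.InjOn e (Set.Iio 100)) (h0 : Tabs e 100 hs_S a 3) (hub : Nat.card (genLt a 3) ≠ 0 ∧ Nat.card (genLt a 3) ≤ 44352000) :
    Nat.card (genLt (hs_g a) 4) = 96 :=
  (hs_level3 he h0 hub).card (hs_card4 he h0 hub)

theorem hs_base3 {G α : Type*} [Group G] [MulAction G α] {e : ℕ → α} {a : ℕ → G} (he : Set.InjOn e (Set.Iio 100)) (h0 : Tabs e 100 hs_S a 3) (hub : Nat.card (genLt a 3) ≠ 0 ∧ Nat.card (genLt a 3) ≤ 44352000) :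
    IsBase e (genLt (hs_g a) 4) [63, 99] :=
  (hs_level3 he h0 hub).base (hs_base4 he h0 hub)

theorem hs_card2 {G α : Type*} [Group G] [MulAction G α] {e : ℕ → α} {a : ℕ → G} (he : Set.InjOn e (Set.Iio 100)) (h0 : Tabs e 100 hs_S a 3) (hub : Nat.card (genLt a 3) ≠ 0 ∧ Nat.card (genLt a 3) ≤ 44352000) :
    Nat.card (genLt (hs_g a) 5) = 5760 :=
  (hs_level2 he h0 hub).card (hs_card3 he h0 hub)

theorem hs_base2 {G α : Type*} [Group G] [MulAction G α] {e : ℕ → α} {a : ℕ → G} (he : Set.InjOn e (Set.Iio 100)) (h0 : Tabs e 100 hs_S a 3) (hub : Nat.card (genLt a 3) ≠ 0 ∧ Nat.card (genLt a 3) ≤ 44352000) :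
    IsBase e (genLt (hs_g a) 5) [79, 63, 99] :=
  (hs_level2 he h0 hub).base (hs_base3 he h0 hub)

theorem hs_card1 {G α : Type*} [Group G] [MulAction G α] {e : ℕ → α} {a : ℕ → G} (he : Set.InjOn e (Set.Iio 100)) (h0 : Tabs e 100 hs_S a 3) (hub : Nat.card (genLt a 3) ≠ 0 ∧ Nat.card (genLt a 3) ≤ 44352000) :
    Nat.card (genLt (hs_g a) 6) = 443520 :=
  (hs_level1 he h0 hub).card (hs_card2 he h0 hub)

theorem hs_base1 {G α : Type*} [Group G] [MulAction G α] {e : ℕ → α} {a : ℕ → G} (he : Set.InjOn e (Set.Iio 100)) (h0 : Tabs e 100 hs_S a 3) (hub : Nat.card (genLt a 3) ≠ 0 ∧ Nat.card (genLt a 3) ≤ 44352000) :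
    IsBase e (genLt (hs_g a) 6) [14, 79, 63, 99] :=
  (hs_level1 he h0 hub).base (hs_base2 he h0 hub)

theorem hs_card0 {G α : Type*} [Group G] [MulAction G α] {e : ℕ → α} {a : ℕ → G} (he : Set.InjOn e (Set.Iio 100)) (h0 : Tabs e 100 hs_S a 3) (hub : Nat.card (genLt a 3) ≠ 0 ∧ Nat.card (genLt a 3) ≤ 44352000) :
    Nat.card (genLt (hs_g a) 12) = 44352000 :=
  (hs_level0 he h0 hub).card (hs_card1 he h0 hub)

theorem hs_base0 {G α : Type*} [Group G] [MulAction G α] {e : ℕ → α} {a : ℕ → G} (he : Set.InjOn e (Set.Iio 100)) (h0 : Tabs e 100 hs_S a 3) (hub : Nat.card (genLt a 3) ≠ 0 ∧ Nat.card (genLt a 3) ≤ 44352000) :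
    IsBase e (genLt (hs_g a) 12) [4, 14, 79, 63, 99] :=
  (hs_level0 he h0 hub).base (hs_base1 he h0 hub)

theorem hs_hinv {G α : Type*} [Group G] [MulAction G α] {e : ℕ → α} {a : ℕ → G} (he : Set.InjOn e (Set.Iio 100)) (h0 : Tabs e 100 hs_S a 3) (hub : Nat.card (genLt a 3) ≠ 0 ∧ Nat.card (genLt a 3) ≤ 44352000) : ∀ x < 12, hs_g a x * hs_g a (hs_inv x) = 1 :=
  (hs_tabs h0).hinv_of_base (hs_base0 he h0 hub) (by decide +kernel)

theorem hs_card {G α : Type*} [Group G] [MulAction G α] {e : ℕ → α} {a : ℕ → G} (he : Set.InjOn e (Set.Iio 100)) (h0 : Tabs e 100 hs_S a 3) (hub : Nat.card (genLt a 3) ≠ 0 ∧ Nat.card (genLt a 3) ≤ 44352000) :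
    Nat.card (genLt a 3) = 44352000 := by
  rw [← hs_gen]; exact hs_card0 he h0 hub

end Cfsg.Agent.Spor.OutC
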