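import Mathlib
import Cfsg.Agent.Spor.Out.HSCh
import Cfsg.Agent.Spor.Out.Gen
import Cfsg.Agent.Spor.Blocks

/-! Generated by tools/h59/outgen.py: outer automorphisms, hs -/

set_option autoImplicit false
set_option maxRecDepth 100000
set_option linter.unusedVariables false
set_option exponentiation.threshold 100000

namespace Cfsg.Agent.Spor.OutC

open Cfsg.Agent.Spor

noncomputable def hs_la : Lv := ⟨hs_E (nat_lit 0), nat_lit 4, nat_lit 40, true, nat_lit 0, [], []⟩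

noncomputable def hs_La : List Lv :=
  [⟨hs_E (nat_lit 1), nat_lit 14, nat_lit 64, false, nat_lit 0, [nat_lit 0], []⟩,
   ⟨hs_E (nat_lit 2), nat_lit 79, nat_lit 33, false, nat_lit 0, [nat_lit 0], []⟩,
   ⟨hs_E (nat_lit 3), nat_lit 63, nat_lit 10, false, nat_lit 0, [nat_lit 0], []⟩,
   ⟨hs_E (nat_lit 4), nat_lit 99, nat_lit 38, false, nat_lit 0, [nat_lit 0,nat_lit 0,nat_lit 0,nat_lit 0,nat_lit 0,nat_lit 0], []⟩]

noncomputable def hs_lb : Lv := ⟨hs_E (nat_lit 0), nat_lit 4, nat_lit 4, true, nat_lit 0, [], []⟩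

noncomputable def hs_Lb : List Lv :=
  [⟨hs_E (nat_lit 1), nat_lit 14, nat_lit 14, false, nat_lit 0, [nat_lit 0], []⟩,
   ⟨hs_E (nat_lit 2), nat_lit 79, nat_lit 79, false, nat_lit 0, [nat_lit 0], []⟩,
   ⟨hs_E (nat_lit 3), nat_lit 63, nat_lit 63, false, nat_lit 0, [nat_lit 0], []⟩,
   ⟨hs_E (nat_lit 4), nat_lit 99, nat_lit 99, false, nat_lit 0, [nat_lit 0], []⟩]

def hs_h : List ℕ := [nat_lit 2,nat_lit 4,nat_lit 1,nat_lit 3,nat_lit 5,nat_lit 4,nat_lit 3,nat_lit 7,nat_lit 1]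

def hs_Z : List ℕ := [nat_lit 10]

def hs_Rels : List (ℕ × List ℕ × List ℕ) :=
  [(nat_lit 7, [nat_lit 0,nat_lit 0,nat_lit 1,nat_lit 2], []),
   (nat_lit 8, [nat_lit 0,nat_lit 1,nat_lit 1,nat_lit 1,nat_lit 2], [])]

def hs_Z' : List ℕ := [nat_lit 0,nat_lit 10,nat_lit 8,nat_lit 2,nat_lit 1,nat_lit 2,nat_lit 5,nat_lit 2,nat_lit 4,nat_lit 0,nat_lit 4,nat_lit 1,nat_lit 2,nat_lit 1]

def hs_P : ℕ → ℕ := getP (nat_lit 7) (nat_lit 127) (nat_lit 0x145ee109845c14bb5669f6c78cda515218ea13895e105864626f508004acacf8025234461ddbc75263984f22fb95528781c32cd53c58e932c0c17ac52182567c96c0340dc5b1361614166756b544febd938ba2a6a36c6c4)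

def hs_Q : ℕ → ℕ := getP (nat_lit 7) (nat_lit 127) (nat_lit 0x4c9d5a36332de105504191272d5250941cf813acdf54b9b326b20280a24483f146e33872dd85d2d5c63c1e90a2242186a084bcfd36610d3d762e297b15870726a6ab4c52a0dc8f36f605b400c92b8df4b747891d310d644)

noncomputable def hs_lc : Lv := ⟨hs_E (nat_lit 0), nat_lit 4, nat_lit 40, true, nat_lit 0, [], [nat_lit 1]⟩

noncomputable def hs_Lc : List Lv :=
  [⟨hs_E (nat_lit 1), nat_lit 14, nat_lit 64, false, nat_lit 0, [nat_lit 0], []⟩,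
   ⟨hs_E (nat_lit 2), nat_lit 79, nat_lit 33, false, nat_lit 0, [nat_lit 0], []⟩,
   ⟨hs_E (nat_lit 3), nat_lit 63, nat_lit 10, false, nat_lit 0, [nat_lit 0], []⟩,
   ⟨hs_E (nat_lit 4), nat_lit 99, nat_lit 38, false, nat_lit 0, [nat_lit 0,nat_lit 0,nat_lit 0,nat_lit 0,nat_lit 0,nat_lit 0], []⟩]

theorem hs_s1_0 : allRange (nat_lit 0) (nat_lit 100) (siftTop hs_T hs_S hs_inv (nat_lit 100) hs_h (acc1 hs_T hs_S [nat_lit 4,nat_lit 14,nat_lit 79,nat_lit 63,nat_lit 99] (nat_lit 11)) hs_la hs_La) = true := by decide +kernel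

theorem hs_s3_0 : allRange (nat_lit 0) (nat_lit 100) (siftTop hs_T (tri (iterF (hs_S 0) (nat_lit 2)) (hs_S 1) (traceP hs_T hs_Z')) hs_inv (nat_lit 100) hs_h (acc3 hs_T hs_S (tri (iterF (hs_S 0) (nat_lit 2)) (hs_S 1) (traceP hs_T hs_Z')) [nat_lit 4,nat_lit 14,nat_lit 79,nat_lit 63,nat_lit 99]) hs_lc hs_Lc) = true := by decide +kernel

theorem hs_p_0 : allRange (nat_lit 0) (nat_lit 100) ((fun i => force (hs_P i) fun p => band (blt p (nat_lit 100)) (allLt 3 fun x => band (blt (hs_S x i) (nat_lit 100)) (Nat.beq ((tri (iterF (hs_S 0) (nat_lit 2)) (hs_S 1) (traceP hs_T hs_Z')) x p) (hs_P (hs_S x i)))))) = true := by decide +kernel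

theorem hs_s2_0 : allRange (nat_lit 0) (nat_lit 100) (siftTop hs_T (fun _ => iterF (hs_S 1) (nat_lit 3)) hs_inv (nat_lit 100) [] (acc2 hs_T hs_S [nat_lit 4,nat_lit 14,nat_lit 79,nat_lit 63,nat_lit 99] [nat_lit 1,nat_lit 2] hs_Rels [(1, hs_Z), (nat_lit 2, hs_Z')]) hs_lb hs_Lb) = true := by decide +kernel

theorem hs_hub {G : Type*} [Group G] (y : ℕ → G) (hc : Nat.card G = 44352000) :
    Nat.card (genLt y 3) ≠ 0 ∧ Nat.card (genLt y 3) ≤ 44352000 :=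
  card_genLt_le (K := ⊤) (fun _ _ => trivial) (Subgroup.card_top.trans hc)

theorem hs_model {G α : Type*} [Group G] [MulAction G α] {e : ℕ → α} {y : ℕ → G} (he : Set.InjOn e (Set.Iio 100)) (h0 : Tabs e 100 hs_S y 3) (hc : Nat.card G = 44352000) :
    OutModel e 100 hs_T hs_S (hs_g y) y 12 hs_inv [nat_lit 4,nat_lit 14,nat_lit 79,nat_lit 63,nat_lit 99] 44352000 :=
  have h1 := genLt_eq_of_card (K := ⊤) (fun _ _ => trivial) (Subgroup.card_top.trans hc) (hs_card he h0 (hs_hub y hc))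
  ⟨(hs_tabs h0).sifter he (hs_hinv he h0 (hs_hub y hc)) (hs_base0 he h0 (hs_hub y hc)) (by decide +kernel),
    (hs_gen y).trans h1, h0, h1, hc⟩

theorem hs_sl0 {G α : Type*} [Group G] [MulAction G α] {e : ℕ → α} {y : ℕ → G} (he : Set.InjOn e (Set.Iio 100)) (h0 : Tabs e 100 hs_S y 3) (hc : Nat.card G = 44352000) :
    SLev e 100 hs_T (hs_g y) (hs_E (nat_lit 0)) 12 6 4 :=
  (hs_tabs h0).sLev he (hs_level0 he h0 (hs_hub y hc)) hs_L0_o

theorem hs_sl1 {G α : Type*} [Group G] [MulAction G α] {e : ℕ → α} {y : ℕ → G} (he : Set.InjOn e (Set.Iio 100)) (h0 : Tabs e 100 hs_S y 3) (hc : Nat.card G = 44352000) :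
    SLev e 100 hs_T (hs_g y) (hs_E (nat_lit 1)) 6 5 14 :=
  (hs_tabs h0).sLev he (hs_level1 he h0 (hs_hub y hc)) hs_L1_o

theorem hs_sl2 {G α : Type*} [Group G] [MulAction G α] {e : ℕ → α} {y : ℕ → G} (he : Set.InjOn e (Set.Iio 100)) (h0 : Tabs e 100 hs_S y 3) (hc : Nat.card G = 44352000) :
    SLev e 100 hs_T (hs_g y) (hs_E (nat_lit 2)) 5 4 79 :=
  (hs_tabs h0).sLev he (hs_level2 he h0 (hs_hub y hc)) hs_L2_o

theorem hs_sl3 {G α : Type*} [Group G] [MulAction G α] {e : ℕ → α} {y : ℕ → G} (he : Set.InjOn e (Set.Iio 100)) (h0 : Tabs e 100 hs_S y 3) (hc : Nat.card G = 44352000) :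
    SLev e 100 hs_T (hs_g y) (hs_E (nat_lit 3)) 4 2 63 :=
  (hs_tabs h0).sLev he (hs_level3 he h0 (hs_hub y hc)) hs_L3_o

theorem hs_sl4 {G α : Type*} [Group G] [MulAction G α] {e : ℕ → α} {y : ℕ → G} (he : Set.InjOn e (Set.Iio 100)) (h0 : Tabs e 100 hs_S y 3) (hc : Nat.card G = 44352000) :
    SLev e 100 hs_T (hs_g y) (hs_E (nat_lit 4)) 2 0 99 :=
  (hs_tabs h0).sLev he (hs_level4 he h0 (hs_hub y hc)) hs_L4_o

theorem hs_cha {G α : Type*} [Group G] [MulAction G α] {e : ℕ → α} {y : ℕ → G} (he : Set.InjOn e (Set.Iio 100)) (h0 : Tabs e 100 hs_S y 3) (hc : Nat.card G = 44352000) :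
    ChainOK e 100 hs_T (hs_g y) (hs_la :: hs_La) 12 :=
  ⟨_, hs_sl0 he h0 hc, _, hs_sl1 he h0 hc, _, hs_sl2 he h0 hc, _, hs_sl3 he h0 hc, _, hs_sl4 he h0 hc, rfl⟩

theorem hs_chb {G α : Type*} [Group G] [MulAction G α] {e : ℕ → α} {y : ℕ → G} (he : Set.InjOn e (Set.Iio 100)) (h0 : Tabs e 100 hs_S y 3) (hc : Nat.card G = 44352000) :
    ChainOK e 100 hs_T (hs_g y) (hs_lb :: hs_Lb) 12 :=
  ⟨_, hs_sl0 he h0 hc, _, hs_sl1 he h0 hc, _, hs_sl2 he h0 hc, _, hs_sl3 he h0 hc, _, hs_sl4 he h0 hc, rfl⟩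

theorem hs_s1 : ∀ q < 100, siftTop hs_T hs_S hs_inv (nat_lit 100) hs_h (acc1 hs_T hs_S [nat_lit 4,nat_lit 14,nat_lit 79,nat_lit 63,nat_lit 99] (nat_lit 11)) hs_la hs_La q = true :=
  allRange_zero hs_s1_0

theorem hs_chc {G α : Type*} [Group G] [MulAction G α] {e : ℕ → α} {y : ℕ → G} (he : Set.InjOn e (Set.Iio 100)) (h0 : Tabs e 100 hs_S y 3) (hc : Nat.card G = 44352000) :
    ChainOK e 100 hs_T (hs_g y) (hs_lc :: hs_Lc) 12 :=
  ⟨_, hs_sl0 he h0 hc, _, hs_sl1 he h0 hc, _, hs_sl2 he h0 hc, _, hs_sl3 he h0 hc, _, hs_sl4 he h0 hc, rfl⟩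

theorem hs_s3 : ∀ q < 100, siftTop hs_T (tri (iterF (hs_S 0) (nat_lit 2)) (hs_S 1) (traceP hs_T hs_Z')) hs_inv (nat_lit 100) hs_h (acc3 hs_T hs_S (tri (iterF (hs_S 0) (nat_lit 2)) (hs_S 1) (traceP hs_T hs_Z')) [nat_lit 4,nat_lit 14,nat_lit 79,nat_lit 63,nat_lit 99]) hs_lc hs_Lc q = true :=
  allRange_zero hs_s3_0

theorem hs_p : ∀ q < 100, (fun i => force (hs_P i) fun p => band (blt p (nat_lit 100)) (allLt 3 fun x => band (blt (hs_S x i) (nat_lit 100)) (Nat.beq ((tri (iterF (hs_S 0) (nat_lit 2)) (hs_S 1) (traceP hs_T hs_Z')) x p) (hs_P (hs_S x i))))) q = true :=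
  allRange_zero hs_p_0

theorem hs_s2 : ∀ q < 100, siftTop hs_T (fun _ => iterF (hs_S 1) (nat_lit 3)) hs_inv (nat_lit 100) [] (acc2 hs_T hs_S [nat_lit 4,nat_lit 14,nat_lit 79,nat_lit 63,nat_lit 99] [nat_lit 1,nat_lit 2] hs_Rels [(1, hs_Z), (nat_lit 2, hs_Z')]) hs_lb hs_Lb q = true :=
  allRange_zero hs_s2_0

theorem hs_out {G α : Type*} [Group G] [MulAction G α] {e : ℕ → α} {y : ℕ → G} (he : Set.InjOn e (Set.Iio 100)) (h0 : Tabs e 100 hs_S y 3) (hc : Nat.card G = 44352000) : Nat.card (Out G) = 2 :=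
  have hZ : lettersLt 12 hs_Z' = true := by decide +kernel
  (hs_model he h0 hc).card_out_two (by decide +kernel) hZ
    ((hs_model he h0 hc).aut_cases (p := nat_lit 11) (κ := 3) (a := nat_lit 1) (by norm_num) (by decide +kernel)
      ((hs_model he h0 hc).centralizer (hs_cha he h0 hc) (by decide +kernel) hs_s1)
      (hs_chb he h0 hc) (by decide +kernel) hs_s2)
    ((hs_model he h0 hc).exists_aut (by decide)
      (tabs_tri ((h0 0 (by decide)).iterF _) (h0 1 (by decide)) ((hs_tabs h0).evalW hZ)) (Q := hs_Q)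
      (allRange_of_forall fun i _ hi => hs_p i (by omega)) (by decide +kernel) (by decide +kernel))
    (hs_chc he h0 hc) (by decide +kernel) hs_s3

end Cfsg.Agent.Spor.OutC
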