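import Mathlib
import Cfsg.Agent.Spor.Out.MclCh
import Cfsg.Agent.Spor.Out.Gen
import Cfsg.Agent.Spor.Blocks

/-! Generated by tools/h59/outgen.py: outer automorphisms, mcl -/

set_option autoImplicit false
set_option maxRecDepth 100000
set_option linter.unusedVariables false
set_option exponentiation.threshold 100000

namespace Cfsg.Agent.Spor.OutC

open Cfsg.Agent.Spor

noncomputable def mcl_la : Lv := ⟨mcl_E (nat_lit 0), nat_lit 9, nat_lit 1, true, nat_lit 0, [], []⟩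

noncomputable def mcl_La : List Lv :=
  [⟨mcl_E (nat_lit 1), nat_lit 104, nat_lit 238, false, nat_lit 0, [nat_lit 0,nat_lit 0], []⟩,
   ⟨mcl_E (nat_lit 2), nat_lit 68, nat_lit 246, false, nat_lit 0, [nat_lit 0,nat_lit 0,nat_lit 0], []⟩,
   ⟨mcl_E (nat_lit 3), nat_lit 62, nat_lit 25, false, nat_lit 0, [nat_lit 0,nat_lit 0,nat_lit 0], []⟩,
   ⟨mcl_E (nat_lit 4), nat_lit 80, nat_lit 209, false, nat_lit 2, [nat_lit 0], []⟩]

noncomputable def mcl_lb : Lv := ⟨mcl_E (nat_lit 0), nat_lit 9, nat_lit 9, true, nat_lit 0, [], []⟩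

noncomputable def mcl_Lb : List Lv :=
  [⟨mcl_E (nat_lit 1), nat_lit 104, nat_lit 104, false, nat_lit 0, [nat_lit 0,nat_lit 0], []⟩,
   ⟨mcl_E (nat_lit 2), nat_lit 68, nat_lit 68, false, nat_lit 0, [nat_lit 0], []⟩,
   ⟨mcl_E (nat_lit 3), nat_lit 62, nat_lit 62, false, nat_lit 0, [nat_lit 0], []⟩,
   ⟨mcl_E (nat_lit 4), nat_lit 80, nat_lit 80, false, nat_lit 3, [nat_lit 0], []⟩]

def mcl_h : List ℕ := [nat_lit 0,nat_lit 1,nat_lit 0,nat_lit 1,nat_lit 0,nat_lit 3,nat_lit 3,nat_lit 0,nat_lit 5,nat_lit 0,nat_lit 5,nat_lit 0,nat_lit 3,nat_lit 6,nat_lit 0,nat_lit 4,nat_lit 6,nat_lit 3,nat_lit 7,nat_lit 11,nat_lit 3]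

def mcl_Z : List ℕ := [nat_lit 11]

def mcl_Rels : List (ℕ × List ℕ × List ℕ) :=
  [(nat_lit 4, [nat_lit 0,nat_lit 0,nat_lit 0,nat_lit 0,nat_lit 0,nat_lit 0,nat_lit 2,nat_lit 0,nat_lit 0,nat_lit 0,nat_lit 0,nat_lit 1,nat_lit 1,nat_lit 2], []),
   (nat_lit 7, [nat_lit 0,nat_lit 1,nat_lit 1,nat_lit 1,nat_lit 2], [])]

def mcl_Z' : List ℕ := [nat_lit 1,nat_lit 0,nat_lit 9,nat_lit 4,nat_lit 0,nat_lit 6,nat_lit 2,nat_lit 6,nat_lit 4,nat_lit 1,nat_lit 5,nat_lit 1,nat_lit 2,nat_lit 0,nat_lit 1,nat_lit 0]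

def mcl_P : ℕ → ℕ := getP (nat_lit 9) (nat_lit 511) (nat_lit 0x118a8562bc29b8fe504388ab97f9410eba44271ab0083c30b85e1f1645e0631980804e248fc444a11820586100824900f0c1a16a8b288e92c6a098ec2b0d3a9b89e121e10e02160d0448e5355afd5a8f64a41965b02250b44121008c41d6707c7a9a4dc1210764ea65ca954fa6112a248a359a586792c540a2617cba03172c09b0b599cd6f025daf16cb24538568c6462395eca662495c937225d6303829dc2e1e06040882d039481c550282c4229432e1b6724f1d028701c368da2535b80d2e618998ca197bb05d8f6533f14afd64315f4ac87c40f911681f9c7066cbd142a7553c1e6e968c4a12816b30d88f5793ed7ad76f388006f1b8703620120c8ce267ca8d00ed142a4f02b138c0d83377bc4f2345f21180361ab4cc8e742b51ba716fb61a482741f41a833d2a1d4ee3fbe0f6c752309d639)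

def mcl_Q : ℕ → ℕ := getP (nat_lit 9) (nat_lit 511) (nat_lit 0x118a8562bc29b8fe504388ab97f9410eba44271ab0083c30b85e1f1645e0631980804e248fc444a11820586100824900f0c1a16a8b288e92c6a098ec2b0d3a9b89e121e10e02160d0448e5355afd5a8f64a41965b02250b44121008c41d6707c7a9a4dc1210764ea65ca954fa6112a248a359a586792c540a2617cba03172c09b0b599cd6f025daf16cb24538568c6462395eca662495c937225d6303829dc2e1e06040882d039481c550282c4229432e1b6724f1d028701c368da2535b80d2e618998ca197bb05d8f6533f14afd64315f4ac87c40f911681f9c7066cbd142a7553c1e6e968c4a12816b30d88f5793ed7ad76f388006f1b8703620120c8ce267ca8d00ed142a4f02b138c0d83377bc4f2345f21180361ab4cc8e742b51ba716fb61a482741f41a833d2a1d4ee3fbe0f6c752309d639)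

noncomputable def mcl_lc : Lv := ⟨mcl_E (nat_lit 0), nat_lit 9, nat_lit 1, true, nat_lit 0, [], []⟩

noncomputable def mcl_Lc : List Lv :=
  [⟨mcl_E (nat_lit 1), nat_lit 104, nat_lit 238, false, nat_lit 0, [nat_lit 0,nat_lit 0], []⟩,
   ⟨mcl_E (nat_lit 2), nat_lit 68, nat_lit 246, false, nat_lit 0, [nat_lit 0,nat_lit 0,nat_lit 0], []⟩,
   ⟨mcl_E (nat_lit 3), nat_lit 62, nat_lit 25, false, nat_lit 0, [nat_lit 0,nat_lit 0,nat_lit 0], []⟩,
   ⟨mcl_E (nat_lit 4), nat_lit 80, nat_lit 209, false, nat_lit 2, [nat_lit 0], []⟩]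

theorem mcl_s1_0 : allRange (nat_lit 0) (nat_lit 275) (siftTop mcl_T mcl_S mcl_inv (nat_lit 275) mcl_h (acc1 mcl_T mcl_S [nat_lit 9,nat_lit 104,nat_lit 68,nat_lit 62,nat_lit 80] (nat_lit 11)) mcl_la mcl_La) = true := by decide +kernel

theorem mcl_s3_0 : allRange (nat_lit 0) (nat_lit 275) (siftTop mcl_T (tri (iterF (mcl_S 0) (nat_lit 1)) (mcl_S 1) (traceP mcl_T mcl_Z')) mcl_inv (nat_lit 275) mcl_h (acc3 mcl_T mcl_S (tri (iterF (mcl_S 0) (nat_lit 1)) (mcl_S 1) (traceP mcl_T mcl_Z')) [nat_lit 9,nat_lit 104,nat_lit 68,nat_lit 62,nat_lit 80]) mcl_lc mcl_Lc) = true := by decide +kernel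

theorem mcl_p_0 : allRange (nat_lit 0) (nat_lit 275) ((fun i => force (mcl_P i) fun p => band (blt p (nat_lit 275)) (allLt 3 fun x => band (blt (mcl_S x i) (nat_lit 275)) (Nat.beq ((tri (iterF (mcl_S 0) (nat_lit 1)) (mcl_S 1) (traceP mcl_T mcl_Z')) x p) (mcl_P (mcl_S x i)))))) = true := by decide +kernel

theorem mcl_s2_0 : allRange (nat_lit 0) (nat_lit 275) (siftTop mcl_T (fun _ => iterF (mcl_S 1) (nat_lit 2)) mcl_inv (nat_lit 275) [] (acc2 mcl_T mcl_S [nat_lit 9,nat_lit 104,nat_lit 68,nat_lit 62,nat_lit 80] [nat_lit 1,nat_lit 2] mcl_Rels [(1, mcl_Z), (nat_lit 1, mcl_Z')]) mcl_lb mcl_Lb) = true := by decide +kernel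

theorem mcl_hub {G : Type*} [Group G] (y : ℕ → G) (hc : Nat.card G = 898128000) :
    Nat.card (genLt y 3) ≠ 0 ∧ Nat.card (genLt y 3) ≤ 898128000 :=
  card_genLt_le (K := ⊤) (fun _ _ => trivial) (Subgroup.card_top.trans hc)

theorem mcl_model {G α : Type*} [Group G] [MulAction G α] {e : ℕ → α} {y : ℕ → G} (he : Set.InjOn e (Set.Iio 275)) (h0 : Tabs e 275 mcl_S y 3) (hc : Nat.card G = 898128000) :
    OutModel e 275 mcl_T mcl_S (mcl_g y) y 13 mcl_inv [nat_lit 9,nat_lit 104,nat_lit 68,nat_lit 62,nat_lit 80] 898128000 :=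
  have h1 := genLt_eq_of_card (K := ⊤) (fun _ _ => trivial) (Subgroup.card_top.trans hc) (mcl_card he h0 (mcl_hub y hc))
  ⟨(mcl_tabs h0).sifter he (mcl_hinv he h0 (mcl_hub y hc)) (mcl_base0 he h0 (mcl_hub y hc)) (by decide +kernel),
    (mcl_gen y).trans h1, h0, h1, hc⟩

theorem mcl_sl0 {G α : Type*} [Group G] [MulAction G α] {e : ℕ → α} {y : ℕ → G} (he : Set.InjOn e (Set.Iio 275)) (h0 : Tabs e 275 mcl_S y 3) (hc : Nat.card G = 898128000) :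
    SLev e 275 mcl_T (mcl_g y) (mcl_E (nat_lit 0)) 13 7 9 :=
  (mcl_tabs h0).sLev he (mcl_level0 he h0 (mcl_hub y hc)) mcl_L0_o

theorem mcl_sl1 {G α : Type*} [Group G] [MulAction G α] {e : ℕ → α} {y : ℕ → G} (he : Set.InjOn e (Set.Iio 275)) (h0 : Tabs e 275 mcl_S y 3) (hc : Nat.card G = 898128000) :
    SLev e 275 mcl_T (mcl_g y) (mcl_E (nat_lit 1)) 7 6 104 :=
  (mcl_tabs h0).sLev he (mcl_level1 he h0 (mcl_hub y hc)) mcl_L1_o

theorem mcl_sl2 {G α : Type*} [Group G] [MulAction G α] {e : ℕ → α} {y : ℕ → G} (he : Set.InjOn e (Set.Iio 275)) (h0 : Tabs e 275 mcl_S y 3) (hc : Nat.card G = 898128000) :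
    SLev e 275 mcl_T (mcl_g y) (mcl_E (nat_lit 2)) 6 4 68 :=
  (mcl_tabs h0).sLev he (mcl_level2 he h0 (mcl_hub y hc)) mcl_L2_o

theorem mcl_sl3 {G α : Type*} [Group G] [MulAction G α] {e : ℕ → α} {y : ℕ → G} (he : Set.InjOn e (Set.Iio 275)) (h0 : Tabs e 275 mcl_S y 3) (hc : Nat.card G = 898128000) :
    SLev e 275 mcl_T (mcl_g y) (mcl_E (nat_lit 3)) 4 2 62 :=
  (mcl_tabs h0).sLev he (mcl_level3 he h0 (mcl_hub y hc)) mcl_L3_o

theorem mcl_sl4 {G α : Type*} [Group G] [MulAction G α] {e : ℕ → α} {y : ℕ → G} (he : Set.InjOn e (Set.Iio 275)) (h0 : Tabs e 275 mcl_S y 3) (hc : Nat.card G = 898128000) :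
    SLev e 275 mcl_T (mcl_g y) (mcl_E (nat_lit 4)) 2 0 80 :=
  (mcl_tabs h0).sLev he (mcl_level4 he h0 (mcl_hub y hc)) mcl_L4_o

theorem mcl_cha {G α : Type*} [Group G] [MulAction G α] {e : ℕ → α} {y : ℕ → G} (he : Set.InjOn e (Set.Iio 275)) (h0 : Tabs e 275 mcl_S y 3) (hc : Nat.card G = 898128000) :
    ChainOK e 275 mcl_T (mcl_g y) (mcl_la :: mcl_La) 13 :=
  ⟨_, mcl_sl0 he h0 hc, _, mcl_sl1 he h0 hc, _, mcl_sl2 he h0 hc, _, mcl_sl3 he h0 hc, _, mcl_sl4 he h0 hc, rfl⟩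

theorem mcl_chb {G α : Type*} [Group G] [MulAction G α] {e : ℕ → α} {y : ℕ → G} (he : Set.InjOn e (Set.Iio 275)) (h0 : Tabs e 275 mcl_S y 3) (hc : Nat.card G = 898128000) :
    ChainOK e 275 mcl_T (mcl_g y) (mcl_lb :: mcl_Lb) 13 :=
  ⟨_, mcl_sl0 he h0 hc, _, mcl_sl1 he h0 hc, _, mcl_sl2 he h0 hc, _, mcl_sl3 he h0 hc, _, mcl_sl4 he h0 hc, rfl⟩

theorem mcl_s1 : ∀ q < 275, siftTop mcl_T mcl_S mcl_inv (nat_lit 275) mcl_h (acc1 mcl_T mcl_S [nat_lit 9,nat_lit 104,nat_lit 68,nat_lit 62,nat_lit 80] (nat_lit 11)) mcl_la mcl_La q = true :=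
  allRange_zero mcl_s1_0

theorem mcl_chc {G α : Type*} [Group G] [MulAction G α] {e : ℕ → α} {y : ℕ → G} (he : Set.InjOn e (Set.Iio 275)) (h0 : Tabs e 275 mcl_S y 3) (hc : Nat.card G = 898128000) :
    ChainOK e 275 mcl_T (mcl_g y) (mcl_lc :: mcl_Lc) 13 :=
  ⟨_, mcl_sl0 he h0 hc, _, mcl_sl1 he h0 hc, _, mcl_sl2 he h0 hc, _, mcl_sl3 he h0 hc, _, mcl_sl4 he h0 hc, rfl⟩

theorem mcl_s3 : ∀ q < 275, siftTop mcl_T (tri (iterF (mcl_S 0) (nat_lit 1)) (mcl_S 1) (traceP mcl_T mcl_Z')) mcl_inv (nat_lit 275) mcl_h (acc3 mcl_T mcl_S (tri (iterF (mcl_S 0) (nat_lit 1)) (mcl_S 1) (traceP mcl_T mcl_Z')) [nat_lit 9,nat_lit 104,nat_lit 68,nat_lit 62,nat_lit 80]) mcl_lc mcl_Lc q = true :=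
  allRange_zero mcl_s3_0

theorem mcl_p : ∀ q < 275, (fun i => force (mcl_P i) fun p => band (blt p (nat_lit 275)) (allLt 3 fun x => band (blt (mcl_S x i) (nat_lit 275)) (Nat.beq ((tri (iterF (mcl_S 0) (nat_lit 1)) (mcl_S 1) (traceP mcl_T mcl_Z')) x p) (mcl_P (mcl_S x i))))) q = true :=
  allRange_zero mcl_p_0

theorem mcl_s2 : ∀ q < 275, siftTop mcl_T (fun _ => iterF (mcl_S 1) (nat_lit 2)) mcl_inv (nat_lit 275) [] (acc2 mcl_T mcl_S [nat_lit 9,nat_lit 104,nat_lit 68,nat_lit 62,nat_lit 80] [nat_lit 1,nat_lit 2] mcl_Rels [(1, mcl_Z), (nat_lit 1, mcl_Z')]) mcl_lb mcl_Lb q = true :=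
  allRange_zero mcl_s2_0

theorem mcl_out {G α : Type*} [Group G] [MulAction G α] {e : ℕ → α} {y : ℕ → G} (he : Set.InjOn e (Set.Iio 275)) (h0 : Tabs e 275 mcl_S y 3) (hc : Nat.card G = 898128000) : Nat.card (Out G) = 2 :=
  have hZ : lettersLt 13 mcl_Z' = true := by decide +kernel
  (mcl_model he h0 hc).card_out_two (by decide +kernel) hZ
    ((mcl_model he h0 hc).aut_cases (p := nat_lit 11) (κ := 3) (a := nat_lit 1) (by norm_num) (by decide +kernel)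
      ((mcl_model he h0 hc).centralizer (mcl_cha he h0 hc) (by decide +kernel) mcl_s1)
      (mcl_chb he h0 hc) (by decide +kernel) mcl_s2)
    ((mcl_model he h0 hc).exists_aut (by decide)
      (tabs_tri ((h0 0 (by decide)).iterF _) (h0 1 (by decide)) ((mcl_tabs h0).evalW hZ)) (Q := mcl_Q)
      (allRange_of_forall fun i _ hi => mcl_p i (by omega)) (by decide +kernel) (by decide +kernel))
    (mcl_chc he h0 hc) (by decide +kernel) mcl_s3

end Cfsg.Agent.Spor.OutC
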